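-- helper37: generic lemmas for counting solubilizers: fibre counting, solvability criteria
-- for subgroups, and invariance of the solubilizer size under isomorphisms.
import Mathlib
import Cfsg.Agent.Lib.Helper37.SzSub1

set_option autoImplicit false

namespace Cfsg.Agent.Lib.Helper37

section Fibers

/-- counting a finite set along a map with fibres of constant size -/
theorem ncard_eq_mul_of_fibers {α β : Type*} (S : Set α) (T : Set β) (f : α → β) (k : ℕ)
    (hS : S.Finite) (hT : T.Finite)
    (hmaps : ∀ a ∈ S, f a ∈ T) (hfib : ∀ b ∈ T, {a | a ∈ S ∧ f a = b}.ncard = k) :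
    S.ncard = k * T.ncard := by
  classical
  rw [Set.ncard_eq_toFinset_card S hS, Set.ncard_eq_toFinset_card T hT]
  have h1 := Finset.card_eq_sum_card_fiberwise (f := f) (s := hS.toFinset) (t := hT.toFinset)
    (fun a ha => by
      have ha' : a ∈ S := by simpa using ha
      have : f a ∈ T := hmaps a ha'
      simpa using this)
  rw [h1]
  have h2 : ∀ b ∈ hT.toFinset, (hS.toFinset.filter (fun a => f a = b)).card = k := by
    intro b hb
    have hb' : b ∈ T := by simpa using hb
    rw [← hfib b hb', ← Set.ncard_coe_finset]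
    congr 1
    ext a
    simp
  rw [Finset.sum_congr rfl h2, Finset.sum_const, smul_eq_mul, mul_comm]

end Fibers

section Solv

variable {G : Type*} [Group G]

theorem subgroupOf_normal_of_conj (K N : Subgroup G)
    (hnorm : ∀ k ∈ K, ∀ n ∈ N, k * n * k⁻¹ ∈ N) : (N.subgroupOf K).Normal := by
  constructor
  intro n hn g
  rw [Subgroup.mem_subgroupOf] at hn ⊢
  exact hnorm g g.2 n hn

/-- a subgroup with a solvable normal subgroup and commutative quotient is solvable -/
theorem sub_solvable_of_comm_quot (K N : Subgroup G) (hNK : N ≤ K)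
    (hnorm : ∀ k ∈ K, ∀ n ∈ N, k * n * k⁻¹ ∈ N) (hN : Group.IsSolvable ↥N)
    (hcomm : ∀ a ∈ K, ∀ b ∈ K, (a * b)⁻¹ * (b * a) ∈ N) : Group.IsSolvable ↥K := by
  haveI hnormal : (N.subgroupOf K).Normal := subgroupOf_normal_of_conj K N hnorm
  haveI : Group.IsSolvable (↥K ⧸ N.subgroupOf K) := by
    apply Group.isSolvable_of_comm
    intro a b
    induction a using QuotientGroup.induction_on with
    | H a =>
      induction b using QuotientGroup.induction_on with
      | H b =>
        rw [← QuotientGroup.mk_mul, ← QuotientGroup.mk_mul, QuotientGroup.eq,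
          Subgroup.mem_subgroupOf]
        exact hcomm a a.2 b b.2
  haveI := hN
  exact Group.isSolvable_of_ker_le_range (Subgroup.inclusion hNK)
    (QuotientGroup.mk' (N.subgroupOf K)) (by
      intro x hx
      rw [QuotientGroup.ker_mk', Subgroup.mem_subgroupOf] at hx
      exact ⟨⟨x, hx⟩, rfl⟩)

/-- a subgroup with a solvable normal subgroup of prime power index is solvable -/
theorem sub_solvable_of_pgroup_quot [Finite G] (K N : Subgroup G) (hNK : N ≤ K)
    (hnorm : ∀ k ∈ K, ∀ n ∈ N, k * n * k⁻¹ ∈ N) (hN : Group.IsSolvable ↥N) (p : ℕ)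
    [Fact p.Prime] (j : ℕ) (hcard : Nat.card ↥K = p ^ j * Nat.card ↥N) :
    Group.IsSolvable ↥K := by
  haveI hnormal : (N.subgroupOf K).Normal := subgroupOf_normal_of_conj K N hnorm
  haveI : Group.IsSolvable (↥K ⧸ N.subgroupOf K) := by
    have hcardq : Nat.card (↥K ⧸ N.subgroupOf K) = p ^ j := by
      have h1 := relIndex_mul_card' N K hNK
      have h2 : N.relIndex K = Nat.card (↥K ⧸ N.subgroupOf K) := rfl
      rw [← h2]
      have hNpos : 0 < Nat.card ↥N := Nat.card_pos
      apply Nat.eq_of_mul_eq_mul_right hNpos
      rw [h1, hcard]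
    haveI : Group.IsNilpotent (↥K ⧸ N.subgroupOf K) := (IsPGroup.of_card hcardq).isNilpotent
    exact IsNilpotent.to_isSolvable
  haveI := hN
  exact Group.isSolvable_of_ker_le_range (Subgroup.inclusion hNK)
    (QuotientGroup.mk' (N.subgroupOf K)) (by
      intro x hx
      rw [QuotientGroup.ker_mk', Subgroup.mem_subgroupOf] at hx
      exact ⟨⟨x, hx⟩, rfl⟩)

/-- a subgroup conjugate into a solvable subgroup is solvable -/
theorem solvable_of_conj_le (M K : Subgroup G) (k : G) (hK : Group.IsSolvable ↥K)
    (hle : ∀ g ∈ M, k⁻¹ * g * k ∈ K) : Group.IsSolvable ↥M := by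
  let φ : ↥M →* ↥K :=
    { toFun := fun g => ⟨k⁻¹ * (g : G) * k, hle g g.2⟩
      map_one' := Subtype.ext (by
        show k⁻¹ * (1 : G) * k = 1
        group)
      map_mul' := fun a b => Subtype.ext (by
        show k⁻¹ * ((a : G) * (b : G)) * k = (k⁻¹ * (a : G) * k) * (k⁻¹ * (b : G) * k)
        group) }
  have hinj : Function.Injective φ := by
    intro a b hab
    have h1 : k⁻¹ * (a : G) * k = k⁻¹ * (b : G) * k := congrArg Subtype.val hab
    exact Subtype.ext (mul_left_cancel (mul_right_cancel h1))
  haveI := hK
  exact Group.isSolvable_of_isSolvable_injective hinj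

theorem solvable_of_le (M K : Subgroup G) (hK : Group.IsSolvable ↥K) (hle : M ≤ K) :
    Group.IsSolvable ↥M := by
  haveI := hK
  exact Group.isSolvable_of_isSolvable_injective (Subgroup.inclusion_injective hle)

theorem solvable_top_imp (hs : Group.IsSolvable ↥(⊤ : Subgroup G)) : Group.IsSolvable G := by
  haveI := hs
  exact Group.isSolvable_of_surjective (f := (⊤ : Subgroup G).subtype)
    (fun g => ⟨⟨g, Subgroup.mem_top g⟩, rfl⟩)

theorem closure_pair_le (K : Subgroup G) (x y : G) :
    Subgroup.closure ({x, y} : Set G) ≤ K ↔ x ∈ K ∧ y ∈ K := by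
  rw [Subgroup.closure_le, Set.insert_subset_iff, Set.singleton_subset_iff]
  rfl

theorem solvable_closure_map {G' : Type*} [Group G'] (e : G ≃* G') (x y : G) :
    Group.IsSolvable ↥(Subgroup.closure ({e x, e y} : Set G')) ↔
      Group.IsSolvable ↥(Subgroup.closure ({x, y} : Set G)) := by
  have hmap : Subgroup.closure ({e x, e y} : Set G') =
      (Subgroup.closure ({x, y} : Set G)).map e.toMonoidHom := by
    rw [MonoidHom.map_closure]
    congr 1
    exact (Set.image_pair _ x y).symm
  rw [hmap]
  constructor
  · intro hs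
    haveI := hs
    exact Group.isSolvable_of_isSolvable_injective
      (f := ((Subgroup.closure ({x, y} : Set G)).equivMapOfInjective e.toMonoidHom
        e.injective).toMonoidHom)
      ((Subgroup.closure ({x, y} : Set G)).equivMapOfInjective e.toMonoidHom
        e.injective).injective
  · intro hs
    haveI := hs
    exact Group.isSolvable_of_isSolvable_injective
      (f := ((Subgroup.closure ({x, y} : Set G)).equivMapOfInjective e.toMonoidHom
        e.injective).symm.toMonoidHom)
      ((Subgroup.closure ({x, y} : Set G)).equivMapOfInjective e.toMonoidHom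
        e.injective).symm.injective

/-- the size of the solubilizer is invariant under isomorphisms -/
theorem solCard_equiv {G' : Type*} [Group G'] (e : G ≃* G') (x : G) :
    Nat.card {y' : G' // Group.IsSolvable ↥(Subgroup.closure ({e x, y'} : Set G'))} =
      Nat.card {y : G // Group.IsSolvable ↥(Subgroup.closure ({x, y} : Set G))} := by
  apply Nat.card_congr
  exact (Equiv.subtypeEquiv e.toEquiv (fun y => (solvable_closure_map e x y).symm)).symm

/-- the size of the solubilizer is invariant under conjugation -/
theorem solCard_conj (k x : G) :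
    Nat.card {y : G // Group.IsSolvable ↥(Subgroup.closure ({k * x * k⁻¹, y} : Set G))} =
      Nat.card {y : G // Group.IsSolvable ↥(Subgroup.closure ({x, y} : Set G))} :=
  solCard_equiv (MulAut.conj k) x

end Solv

end Cfsg.Agent.Lib.Helper37
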