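-- helper37: Suzuki groups, part 39: transitive actions in which every nonidentity element
-- fixes at most two points.
import Mathlib
import Cfsg.Prelude.Def_LieExceptional
import Cfsg.Agent.Lib.Helper37.SzSub1

set_option autoImplicit false

namespace Cfsg.Agent.Lib.Helper37

section FixGeneric

theorem three_in_two {α : Type*} (S : Set α) (hS : S.Finite) (h : S.ncard ≤ 2) (x y z : α)
    (hx : x ∈ S) (hy : y ∈ S) (hz : z ∈ S) : x = y ∨ x = z ∨ y = z := by
  by_contra hcon
  have hxy : x ≠ y := fun hc => hcon (Or.inl hc)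
  have hxz : x ≠ z := fun hc => hcon (Or.inr (Or.inl hc))
  have hyz : y ≠ z := fun hc => hcon (Or.inr (Or.inr hc))
  have h3 : ({x, y, z} : Set α).ncard = 3 := Set.ncard_eq_three.mpr ⟨x, y, z, hxy, hxz, hyz, rfl⟩
  have hsub : ({x, y, z} : Set α) ⊆ S := by
    intro w hw
    rcases hw with rfl | rfl | rfl
    · exact hx
    · exact hy
    · exact hz
  have := Set.ncard_le_ncard hsub hS
  omega

theorem card_mul_stab {G Ω : Type*} [Group G] [MulAction G Ω] [MulAction.IsPretransitive G Ω]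
    (α : Ω) : Nat.card Ω * Nat.card ↥(MulAction.stabilizer G α) = Nat.card G := by
  rw [← MulAction.index_stabilizer_of_transitive G α]
  exact Subgroup.index_mul_card _

end FixGeneric

section Fix

variable {F : Type*} [Field F] [Fintype F] {m : ℕ}

/-- actions of the Suzuki group of fixity two -/
theorem sz_fixity (hm : 1 ≤ m) (hF : Fintype.card F = 2 ^ (2 * m + 1))
    {Ω : Type*} [Finite Ω] [MulAction ↥(Cfsg.Sz F m) Ω]
    (htr : MulAction.IsPretransitive ↥(Cfsg.Sz F m) Ω)
    (hfix : ∀ g : ↥(Cfsg.Sz F m), g ≠ 1 → (MulAction.fixedBy Ω g).ncard ≤ 2)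
    (hex : ∃ g : ↥(Cfsg.Sz F m), g ≠ 1 ∧ ∃ ω : Ω, g • ω = ω)
    (hnt : ∃ ω ω' : Ω, ω ≠ ω') :
    (Nat.card Ω = (2 ^ (2 * m + 1)) ^ 2 + 1 ∧
      ∀ a b c d : Ω, a ≠ b → c ≠ d → ∃ g : ↥(Cfsg.Sz F m), g • a = c ∧ g • b = d) ∨
    Nat.card Ω = (2 ^ (2 * m + 1)) ^ 2 * ((2 ^ (2 * m + 1)) ^ 2 + 1) := by
  have h := szData_of_card hm hF
  have hq8 : 8 ≤ 2 ^ (2 * m + 1) := by
    have : 2 ^ 3 ≤ 2 ^ (2 * m + 1) := Nat.pow_le_pow_right (by norm_num) (by omega)
    omega
  by_cases hinv : ∃ t : ↥(Cfsg.Sz F m), t * t = 1 ∧ t ≠ 1 ∧ ∃ ω : Ω, t • ω = ω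
  · left
    -- normalise the involution
    obtain ⟨t, ht, ht1, ω, hω⟩ := hinv
    obtain ⟨p, hp⟩ := sz_involution_fixes hF t ht
    obtain ⟨k, hk⟩ := sz_exists_smul_inf h p
    have ht' : (k⁻¹ * t * k) * (k⁻¹ * t * k) = 1 := by
      have e : (k⁻¹ * t * k) * (k⁻¹ * t * k) = k⁻¹ * (t * t) * k := by group
      rw [e, ht]
      group
    have hinf : (k⁻¹ * t * k) • oInf F m = oInf F m := by
      rw [mul_smul, mul_smul, hk, hp, ← hk, inv_smul_smul]
    obtain ⟨b, hb⟩ := sz_involution_inf h _ ht' hinf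
    have hb0 : b ≠ 0 := by
      rintro rfl
      apply ht1
      rw [szTm_zero] at hb
      have e : t = k * (k⁻¹ * t * k) * k⁻¹ := by group
      rw [e, hb]
      group
    have hα : szTm h 0 b • (k⁻¹ • ω) = k⁻¹ • ω := by
      rw [← hb, mul_smul, mul_smul, smul_inv_smul, hω]
    generalize k⁻¹ • ω = α at hα
    have htb1 : szTm (m := m) h 0 b ≠ 1 := by
      intro hc
      exact hb0 ((szTm_eq_one_iff h 0 b).mp hc).2
    have hΦ := hfix _ htb1
    -- the translations move `α` inside the fixed points of the involution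
    have hT : ∀ a c : F, szTm h a c • α ∈ MulAction.fixedBy Ω (szTm (m := m) h 0 b) := by
      intro a c
      rw [MulAction.mem_fixedBy, ← mul_smul, szTm_central_mul, ← szTm_mul_central, mul_smul, hα]
    have hα0 : α ∈ MulAction.fixedBy Ω (szTm (m := m) h 0 b) := hα
    -- squares of translations fix `α`
    have hsq : ∀ a c : F, (szTm h a c * szTm h a c) • α = α := by
      intro a c
      have h3 : (szTm h a c * szTm h a c) • α ∈ MulAction.fixedBy Ω (szTm (m := m) h 0 b) := by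
        rw [szTm_mul]
        exact hT _ _
      rcases three_in_two _ (Set.toFinite _) hΦ _ _ _ hα0 (hT a c) h3 with h1 | h1 | h1
      · rw [mul_smul, ← h1, ← h1]
      · exact h1.symm
      · rw [mul_smul] at h1
        have h2 : α = szTm h a c • α := smul_left_cancel _ h1
        rw [mul_smul, ← h2, ← h2]
    have hZ : ∀ c : F, szTm h 0 c • α = α := by
      intro c
      obtain ⟨l, hl⟩ := h.exists_pow_succ c
      have h1 := hsq l 0
      rw [szTm_sq, ← pow_succ, hl] at h1
      exact h1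
    -- the torus fixes `α`
    have hone : szTm (m := m) h 0 1 ≠ 1 := by
      intro hc
      exact one_ne_zero ((szTm_eq_one_iff h 0 1).mp hc).2
    have hΦ1 := hfix _ hone
    have hnorm : ∀ n : ↥(Cfsg.Sz F m), (∃ c : F, n⁻¹ * szTm h 0 1 * n = szTm h 0 c) →
        n • α ∈ MulAction.fixedBy Ω (szTm (m := m) h 0 1) := by
      rintro n ⟨c, hc⟩
      rw [MulAction.mem_fixedBy]
      have e : szTm h 0 1 * n = n * (n⁻¹ * szTm h 0 1 * n) := by group
      rw [← mul_smul, e, hc, mul_smul, hZ]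
    have hα1 : α ∈ MulAction.fixedBy Ω (szTm (m := m) h 0 1) := hZ 1
    have hHn : ∀ μ : Fˣ, ∃ c : F, (szHsub h μ)⁻¹ * szTm h 0 1 * szHsub h μ = szTm h 0 c := by
      intro μ
      have h1 := szHsub_conj_szTm h μ⁻¹ 0 1
      rw [← szHsub_inv, inv_inv, mul_zero] at h1
      exact ⟨_, h1⟩
    have hH : ∀ ν : Fˣ, szHsub h ν • α = α := by
      intro ν
      obtain ⟨μ, hμ⟩ := h.exists_unit_sq (ν : F) ν.ne_zero
      have hμν : μ * μ = ν := by
        apply Units.ext
        rw [Units.val_mul, ← hμ, pow_two]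
      have h2 : (szHsub h μ * szHsub h μ) • α ∈ MulAction.fixedBy Ω (szTm (m := m) h 0 1) := by
        apply hnorm
        obtain ⟨c, hc⟩ := hHn (μ * μ)
        exact ⟨c, by rw [szHsub_mul]; exact hc⟩
      have h3 : (szHsub h μ * szHsub h μ) • α = α := by
        rcases three_in_two _ (Set.toFinite _) hΦ1 _ _ _ hα1 (hnorm _ (hHn μ)) h2 with
          h1 | h1 | h1
        · rw [mul_smul, ← h1, ← h1]
        · exact h1.symm
        · rw [mul_smul] at h1
          have h4 : α = szHsub h μ • α := smul_left_cancel _ h1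
          rw [mul_smul, ← h4, ← h4]
      rw [szHsub_mul, hμν] at h3
      exact h3
    -- a translation outside the centre fixes `α`
    have hT1 : ∀ a c : F, szTm h a c • α ∈ MulAction.fixedBy Ω (szTm (m := m) h 0 1) := by
      intro a c
      rw [MulAction.mem_fixedBy, ← mul_smul, szTm_central_mul, ← szTm_mul_central, mul_smul, hZ]
    obtain ⟨x, hx⟩ := h.ne
    have hx0 : x ≠ 0 := by
      rintro rfl
      apply hx
      rw [zero_pow h.spos, zero_pow (by norm_num)]
    have hx1 : x ≠ 1 := by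
      rintro rfl
      apply hx
      rw [one_pow, one_pow]
    have hnc : ∃ a₀ c₀ : F, a₀ ≠ 0 ∧ szTm h a₀ c₀ • α = α := by
      rcases three_in_two _ (Set.toFinite _) hΦ1 _ _ _ hα1 (hT1 1 0) (hT1 x 0) with h1 | h1 | h1
      · exact ⟨1, 0, one_ne_zero, h1.symm⟩
      · exact ⟨x, 0, hx0, h1.symm⟩
      · refine ⟨1 + x, 0 + 1 ^ (2 ^ (m + 1) + 1) + 0 + 1 ^ 2 ^ (m + 1) * x, ?_, ?_⟩
        · intro hc
          apply hx1
          linear_combination hc - h.two
        · have h2 : ((szTm h 1 0)⁻¹ * szTm h x 0) • α = α := by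
            rw [mul_smul, ← h1, inv_smul_smul]
          rw [szTm_inv, szTm_mul] at h2
          exact h2
    obtain ⟨a₀, c₀, ha₀, hac⟩ := hnc
    have hTall : ∀ a c : F, szTm h a c • α = α := by
      intro a c
      by_cases ha : a = 0
      · rw [ha]
        exact hZ c
      · obtain ⟨μ, hμ⟩ := h.exists_unit_sq (a / a₀) (div_ne_zero ha ha₀)
        have h1 : (szHsub h μ * szTm h a₀ c₀ * (szHsub h μ)⁻¹) • α = α := by
          rw [mul_smul, mul_smul, inv_smul_eq_iff.mpr (hH μ).symm, hac, hH]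
        rw [szHsub_conj_szTm, hμ, div_mul_cancel₀ _ ha₀] at h1
        have h2 := szTm_central_mul (m := m) h
          (c + (a / a₀) ^ (2 ^ (m + 1) + 1) * c₀) a ((a / a₀) ^ (2 ^ (m + 1) + 1) * c₀)
        have e : (a / a₀) ^ (2 ^ (m + 1) + 1) * c₀ + (c + (a / a₀) ^ (2 ^ (m + 1) + 1) * c₀) =
            c := by
          linear_combination (a / a₀) ^ (2 ^ (m + 1) + 1) * c₀ * h.two
        rw [e] at h2
        rw [← h2, mul_smul, h1, hZ]
    -- the stabiliser is the point stabiliser of the ovoid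
    have hBle : szB F m ≤ MulAction.stabilizer ↥(Cfsg.Sz F m) α := by
      intro g hg
      obtain ⟨a, c, μ, rfl⟩ := sz_stab_inf' h g ((mem_szB g).mp hg)
      rw [MulAction.mem_stabilizer_iff, mul_smul, hH, hTall]
    have hMB : MulAction.stabilizer ↥(Cfsg.Sz F m) α = szB F m := by
      by_contra hne
      have hlt : szB F m < MulAction.stabilizer ↥(Cfsg.Sz F m) α :=
        lt_of_le_of_ne hBle (fun hc => hne hc.symm)
      have htop := (szB_isCoatom h).2 _ hlt
      obtain ⟨ω₁, ω₂, hω12⟩ := hnt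
      apply hω12
      obtain ⟨g₁, rfl⟩ := MulAction.exists_smul_eq ↥(Cfsg.Sz F m) α ω₁
      obtain ⟨g₂, rfl⟩ := MulAction.exists_smul_eq ↥(Cfsg.Sz F m) α ω₂
      have h1 : g₁ ∈ MulAction.stabilizer ↥(Cfsg.Sz F m) α := by
        rw [htop]
        exact Subgroup.mem_top _
      have h2 : g₂ ∈ MulAction.stabilizer ↥(Cfsg.Sz F m) α := by
        rw [htop]
        exact Subgroup.mem_top _
      rw [MulAction.mem_stabilizer_iff.mp h1, MulAction.mem_stabilizer_iff.mp h2]
    constructor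
    · have h1 := card_mul_stab (G := ↥(Cfsg.Sz F m)) α
      rw [hMB, card_szB hm hF, card_sz hm hF] at h1
      have hpos : 0 < (2 ^ (2 * m + 1)) ^ 2 * (2 ^ (2 * m + 1) - 1) := by
        have : 0 < 2 ^ (2 * m + 1) - 1 := by omega
        positivity
      apply Nat.eq_of_mul_eq_mul_right hpos
      rw [h1]
      ring
    · intro a b c d hab hcd
      obtain ⟨g₁, rfl⟩ := MulAction.exists_smul_eq ↥(Cfsg.Sz F m) α a
      obtain ⟨g₂, rfl⟩ := MulAction.exists_smul_eq ↥(Cfsg.Sz F m) α b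
      obtain ⟨g₃, rfl⟩ := MulAction.exists_smul_eq ↥(Cfsg.Sz F m) α c
      obtain ⟨g₄, rfl⟩ := MulAction.exists_smul_eq ↥(Cfsg.Sz F m) α d
      have key : ∀ u v : ↥(Cfsg.Sz F m), u • α ≠ v • α → u • oInf F m ≠ v • oInf F m := by
        intro u v huv hc
        apply huv
        have h1 : (u⁻¹ * v) ∈ szB F m := by
          rw [mem_szB, mul_smul, ← hc, inv_smul_smul]
        rw [← hMB, MulAction.mem_stabilizer_iff, mul_smul, inv_smul_eq_iff] at h1
        exact h1.symm
      have key2 : ∀ u v : ↥(Cfsg.Sz F m), u • oInf F m = v • oInf F m → u • α = v • α := by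
        intro u v huv
        have h1 : (u⁻¹ * v) ∈ szB F m := by
          rw [mem_szB, mul_smul, ← huv, inv_smul_smul]
        rw [← hMB, MulAction.mem_stabilizer_iff, mul_smul, inv_smul_eq_iff] at h1
        exact h1.symm
      obtain ⟨g, hg1, hg2⟩ := MulAction.is_two_pretransitive_iff.mp h.sz_two_trans
        (key g₁ g₂ hab) (key g₃ g₄ hcd)
      refine ⟨g, ?_, ?_⟩
      · rw [← mul_smul]
        apply key2
        rw [mul_smul]
        exact hg1
      · rw [← mul_smul]
        apply key2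
        rw [mul_smul]
        exact hg2
  · right
    obtain ⟨g₀, hg₀1, α, hα⟩ := hex
    have hg₀M : g₀ ∈ MulAction.stabilizer ↥(Cfsg.Sz F m) α := hα
    have hodd : ¬ 2 ∣ Nat.card ↥(MulAction.stabilizer ↥(Cfsg.Sz F m) α) := by
      intro h2
      have : Fact (Nat.Prime 2) := ⟨Nat.prime_two⟩
      obtain ⟨z, hz⟩ := exists_prime_orderOf_dvd_card' 2 h2
      apply hinv
      refine ⟨(z : ↥(Cfsg.Sz F m)), ?_, ?_, α, z.2⟩
      · have h0 := pow_orderOf_eq_one (z : ↥(Cfsg.Sz F m))
        rw [Subgroup.orderOf_coe, hz, pow_two] at h0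
        exact h0
      · intro hc
        have hc' : z = 1 := Subtype.ext hc
        rw [hc', orderOf_one] at hz
        omega
    have hss : szSS g₀ :=
      ⟨hg₀1, fun h2 => hodd (h2.trans (Subgroup.orderOf_dvd_natCard _ hg₀M))⟩
    have hMA := sz_odd_subgroup_le_cent hm hF _ hodd g₀ hg₀M hg₀1
    have hΦ := hfix g₀ hg₀1
    -- the stabiliser is the whole torus
    have h1 := card_le_of_fibers (Subgroup.centralizer ({g₀} : Set ↥(Cfsg.Sz F m)))
      (MulAction.stabilizer ↥(Cfsg.Sz F m) α) (fun g : ↥(Cfsg.Sz F m) => g • α)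
      (MulAction.fixedBy Ω g₀) 2 (Set.toFinite _) hΦ (by
        intro a ha
        rw [MulAction.mem_fixedBy, ← mul_smul, (mem_cent_singleton g₀ a).mp ha, mul_smul, hα]) (by
        intro a _ a' _ haa
        rw [MulAction.mem_stabilizer_iff, mul_smul, inv_smul_eq_iff]
        exact haa.symm)
    have hdvd := Subgroup.card_dvd_of_le hMA
    have hAodd := szSS_cent_odd hm hF g₀ hss
    have hMpos : 0 < Nat.card ↥(MulAction.stabilizer ↥(Cfsg.Sz F m) α) := Nat.card_pos
    have hAM : Nat.card ↥(Subgroup.centralizer ({g₀} : Set ↥(Cfsg.Sz F m))) =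
        Nat.card ↥(MulAction.stabilizer ↥(Cfsg.Sz F m) α) := by
      obtain ⟨j, hj⟩ := hdvd
      rw [hj] at h1 hAodd ⊢
      have hj2 : j ≤ 2 := by
        apply Nat.le_of_mul_le_mul_left _ hMpos
        rw [mul_comm _ 2]
        exact h1
      interval_cases j
      · exact absurd (by rw [mul_zero]; exact dvd_zero 2) hAodd
      · rw [mul_one]
      · exact absurd (Dvd.intro_left _ rfl) hAodd
    have hMeq : MulAction.stabilizer ↥(Cfsg.Sz F m) α =
        Subgroup.centralizer ({g₀} : Set ↥(Cfsg.Sz F m)) :=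
      Subgroup.eq_of_le_of_card_ge hMA (le_of_eq hAM)
    -- the normaliser moves `α` inside the fixed points
    have h2 := card_le_of_fibers (Subgroup.normalizer ((Subgroup.centralizer
        ({g₀} : Set ↥(Cfsg.Sz F m)) : Subgroup ↥(Cfsg.Sz F m)) : Set ↥(Cfsg.Sz F m)))
      (MulAction.stabilizer ↥(Cfsg.Sz F m) α) (fun g : ↥(Cfsg.Sz F m) => g • α)
      (MulAction.fixedBy Ω g₀) 2 (Set.toFinite _) hΦ (by
        intro n hn
        rw [MulAction.mem_fixedBy]
        have h3 : n⁻¹ * g₀ * n⁻¹⁻¹ ∈ Subgroup.centralizer ({g₀} : Set ↥(Cfsg.Sz F m)) :=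
          (Subgroup.mem_normalizer_iff.mp (Subgroup.inv_mem _ hn) g₀).mp (self_mem_cent g₀)
        rw [inv_inv, ← hMeq, MulAction.mem_stabilizer_iff] at h3
        have e : g₀ * n = n * (n⁻¹ * g₀ * n) := by group
        rw [← mul_smul, e, mul_smul, h3]) (by
        intro a _ a' _ haa
        rw [MulAction.mem_stabilizer_iff, mul_smul, inv_smul_eq_iff]
        exact haa.symm)
    rw [← hAM] at h2
    have hApos : 0 < Nat.card ↥(Subgroup.centralizer ({g₀} : Set ↥(Cfsg.Sz F m))) :=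
      Nat.card_pos
    have hcA : Nat.card ↥(Subgroup.centralizer ({g₀} : Set ↥(Cfsg.Sz F m))) =
        2 ^ (2 * m + 1) - 1 := by
      rcases szSS_normalizer hm hF g₀ hss with ⟨hc, -⟩ | h4
      · exact hc
      · omega
    have h5 := card_mul_stab (G := ↥(Cfsg.Sz F m)) α
    rw [← hAM, hcA, card_sz hm hF] at h5
    have hpos : 0 < 2 ^ (2 * m + 1) - 1 := by omega
    exact Nat.eq_of_mul_eq_mul_right hpos h5

end Fix

end Cfsg.Agent.Lib.Helper37
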