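-- helper37: Suzuki groups, part 39: counting in a subgroup that contains a central involution
-- of the standard Sylow 2-subgroup and moves the point at infinity.
import Mathlib
import Cfsg.Prelude.Def_LieExceptional
import Cfsg.Agent.Lib.Helper37.SzSub1

set_option autoImplicit false

namespace Cfsg.Agent.Lib.Helper37

section GenericGrp3

variable {G Ω : Type*} [Group G] [MulAction G Ω]

/-- orbit and stabiliser relative to a subgroup -/
theorem sub_orbit_card [Finite G] (M : Subgroup G) (a : Ω) :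
    ((fun g : G => g • a) '' (M : Set G)).ncard * Nat.card ↥(M ⊓ MulAction.stabilizer G a) =
      Nat.card ↥M := by
  have h1 : (MulAction.stabilizer ↥M a).index * Nat.card ↥(MulAction.stabilizer ↥M a) =
      Nat.card ↥M := Subgroup.index_mul_card _
  rw [MulAction.index_stabilizer] at h1
  have h2 : MulAction.orbit ↥M a = (fun g : G => g • a) '' (M : Set G) := by
    ext x
    constructor
    · rintro ⟨g, rfl⟩
      exact ⟨(g : G), g.2, rfl⟩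
    · rintro ⟨g, hg, rfl⟩
      exact ⟨⟨g, hg⟩, rfl⟩
  have h3 : Nat.card ↥(MulAction.stabilizer ↥M a) =
      Nat.card ↥(M ⊓ MulAction.stabilizer G a) := by
    apply Nat.card_congr
    refine ⟨fun x => ⟨((x : ↥M) : G), (x : ↥M).2, x.2⟩, fun y => ⟨⟨(y : G), y.2.1⟩, y.2.2⟩, ?_, ?_⟩
    · intro x
      rfl
    · intro y
      rfl
  rw [h2, h3] at h1
  exact h1

/-- the arithmetic behind the dichotomy -/
theorem sub_arith (N L Q z c I Mc : ℕ) (f1 : N * L = Mc) (f2 : I * L = Mc * z)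
    (f4 : L ≤ c * Q) (hc : c ≤ z) (f5 : Q ≤ N - 1) (f6 : I - z ≤ (N - 1) + (L - Q))
    (hQL : Q ≤ L) (hz : 1 ≤ z) (hL : 0 < L) (hN : 1 ≤ N) (hQ : 0 < Q) :
    (z = 1 ∧ L = Q) ∨ (2 ≤ z ∧ Q = N - 1 ∧ c = z) := by
  have hI : I = N * z := by
    apply Nat.eq_of_mul_eq_mul_right hL
    rw [f2, ← f1]
    ring
  obtain ⟨n, rfl⟩ : ∃ n, N = n + 1 := ⟨N - 1, by omega⟩
  have e1 : (n + 1) * z - z = n * z := by rw [add_mul, one_mul, Nat.add_sub_cancel]
  rw [hI, e1, Nat.add_sub_cancel] at f6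
  rw [Nat.add_sub_cancel] at f5
  have hcQ : c * Q ≤ z * Q := Nat.mul_le_mul_right Q hc
  by_cases hz1 : z = 1
  · left
    refine ⟨hz1, ?_⟩
    rw [hz1, one_mul] at hcQ
    omega
  · right
    obtain ⟨z', rfl⟩ : ∃ z', z = z' + 1 := ⟨z - 1, by omega⟩
    have hz' : 1 ≤ z' := by omega
    have e2 : n * (z' + 1) = n * z' + n := by ring
    have e3 : (z' + 1) * Q = z' * Q + Q := by ring
    rw [e2] at f6
    rw [e3] at hcQ
    have k1 : n * z' ≤ z' * Q := by omega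
    have k2 : n ≤ Q := by
      rw [mul_comm n z'] at k1
      exact Nat.le_of_mul_le_mul_left k1 (by omega)
    have k3 : Q = n := by omega
    refine ⟨by omega, by omega, ?_⟩
    have k4 : (z' + 1) * Q ≤ c * Q := by
      rw [e3]
      rw [← k3, mul_comm Q z'] at f6
      omega
    exact le_antisymm hc (Nat.le_of_mul_le_mul_right k4 hQ)

end GenericGrp3

section Sub2

variable {F : Type*} [Field F] [Fintype F] {m : ℕ}

/-- the centre of the standard Sylow 2-subgroup -/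
def szZsub (h : SzData F (2 ^ (m + 1))) : Subgroup ↥(Cfsg.Sz F m) where
  carrier := {g | ∃ c : F, g = szTm h 0 c}
  mul_mem' := by
    rintro _ _ ⟨c, rfl⟩ ⟨d, rfl⟩
    exact ⟨d + c, szTm_central_mul h c 0 d⟩
  one_mem' := ⟨0, (szTm_zero h).symm⟩
  inv_mem' := by
    rintro _ ⟨c, rfl⟩
    exact ⟨c, szTm_central_inv h c⟩

theorem mem_szZsub (h : SzData F (2 ^ (m + 1))) (g : ↥(Cfsg.Sz F m)) :
    g ∈ szZsub h ↔ ∃ c : F, g = szTm h 0 c := Iff.rfl

theorem szZsub_le (h : SzData F (2 ^ (m + 1))) : szZsub (m := m) h ≤ szTsub h := by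
  rintro _ ⟨c, rfl⟩
  exact szTm_mem h 0 c

omit [Fintype F] in
theorem oPt_inj {x y x' y' : F} (hp : oPt m x y = oPt m x' y') : x = x' ∧ y = y' :=
  szPt_inj (congrArg Subtype.val hp)

/-- the orbit of the point at infinity under a subgroup -/
def szOrb (M : Subgroup ↥(Cfsg.Sz F m)) : Set ↥(Cfsg.suzukiOvoid F m) :=
  (fun g : ↥(Cfsg.Sz F m) => g • oInf F m) '' (M : Set ↥(Cfsg.Sz F m))

theorem sub_F1 (M : Subgroup ↥(Cfsg.Sz F m)) :
    (szOrb M).ncard * Nat.card ↥(M ⊓ szB F m) = Nat.card ↥M :=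
  sub_orbit_card M (oInf F m)

theorem sub_F2 (h : SzData F (2 ^ (m + 1))) (M : Subgroup ↥(Cfsg.Sz F m)) :
    (relConj M (M ⊓ szZsub h)).ncard * Nat.card ↥(M ⊓ szB F m) =
      Nat.card ↥M * (Nat.card ↥(M ⊓ szZsub h) - 1) := by
  apply relConj_card M _ _ inf_le_left
  · rintro g ⟨hgM, hgB⟩ c ⟨hcM, c', rfl⟩
    refine ⟨M.mul_mem (M.mul_mem hgM hcM) (M.inv_mem hgM), ?_⟩
    obtain ⟨u, v, μ, rfl⟩ := sz_stab_inf' h g ((mem_szB _).mp hgB)
    exact ⟨_, sz_conj_central h u v μ c'⟩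
  · rintro g hgM c ⟨hcM, c', rfl⟩ hc1 ⟨-, c'', hc''⟩
    refine ⟨hgM, ?_⟩
    apply (mem_szB _).mpr
    have hab : ¬ ((0 : F) = 0 ∧ c' = 0) := by
      rintro ⟨-, rfl⟩
      exact hc1 (szTm_zero h)
    have hfix : (g * szTm h 0 c' * g⁻¹) • oInf F m = oInf F m := by
      rw [hc'']
      exact szTm_smul_inf h 0 c''
    exact (sz_T_conj_fix h g 0 c' hab _ hfix).symm

theorem sub_F3 (h : SzData F (2 ^ (m + 1))) (M : Subgroup ↥(Cfsg.Sz F m)) :
    (relConj M (M ⊓ szTsub h)).ncard * Nat.card ↥(M ⊓ szB F m) =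
      Nat.card ↥M * (Nat.card ↥(M ⊓ szTsub h) - 1) := by
  apply relConj_card M _ _ inf_le_left
  · rintro g ⟨hgM, hgB⟩ c ⟨hcM, hcT⟩
    exact ⟨M.mul_mem (M.mul_mem hgM hcM) (M.inv_mem hgM), szB_conj_T h g hgB c hcT⟩
  · rintro g hgM c ⟨hcM, a, b, rfl⟩ hc1 ⟨-, a', b', hc''⟩
    refine ⟨hgM, ?_⟩
    apply (mem_szB _).mpr
    have hab : ¬ (a = 0 ∧ b = 0) := by
      rintro ⟨rfl, rfl⟩
      exact hc1 (szTm_zero h)
    have hfix : (g * szTm h a b * g⁻¹) • oInf F m = oInf F m := by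
      rw [hc'']
      exact szTm_smul_inf h a' b'
    exact (sz_T_conj_fix h g a b hab _ hfix).symm

/-- the conjugates of the central involutions are involutions of the subgroup -/
theorem szInv_props (h : SzData F (2 ^ (m + 1))) (M : Subgroup ↥(Cfsg.Sz F m))
    (u : ↥(Cfsg.Sz F m)) (hu : u ∈ relConj M (M ⊓ szZsub h)) : u ∈ M ∧ u ≠ 1 ∧ u * u = 1 := by
  refine ⟨relConj_subset M _ inf_le_left hu, hu.1, ?_⟩
  obtain ⟨-, g, -, -, c, hc⟩ := hu
  have e : u = g * szTm h 0 c * g⁻¹ := by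
    rw [← hc]
    group
  rw [e]
  have e2 : g * szTm h 0 c * g⁻¹ * (g * szTm h 0 c * g⁻¹) =
      g * (szTm h 0 c * szTm h 0 c) * g⁻¹ := by group
  rw [e2, szTm_central_sq]
  group

theorem szInv_fix_inf (h : SzData F (2 ^ (m + 1))) (M : Subgroup ↥(Cfsg.Sz F m))
    (u : ↥(Cfsg.Sz F m)) (hu : u ∈ relConj M (M ⊓ szZsub h))
    (hfix : u • oInf F m = oInf F m) : u ∈ M ⊓ szZsub h := by
  obtain ⟨hM, -, h2⟩ := szInv_props h M u hu
  obtain ⟨b, hb⟩ := sz_involution_inf h u h2 hfix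
  exact ⟨hM, b, hb⟩

/-- the involutions moving the point at infinity -/
theorem sub_F6 (h : SzData F (2 ^ (m + 1))) (M : Subgroup ↥(Cfsg.Sz F m)) :
    {u | u ∈ relConj M (M ⊓ szZsub h) ∧ u • oInf F m ≠ oInf F m}.ncard ≤
      (szOrb M \ {oInf F m}).ncard +
        (((M ⊓ szB F m : Subgroup ↥(Cfsg.Sz F m)) : Set ↥(Cfsg.Sz F m)) \
          ((M ⊓ szTsub h : Subgroup ↥(Cfsg.Sz F m)) : Set ↥(Cfsg.Sz F m))).ncard := by
  classical
  obtain ⟨U, hU⟩ : ∃ U : Set ↥(Cfsg.Sz F m),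
      U = {u | u ∈ relConj M (M ⊓ szZsub h) ∧ u • oInf F m ≠ oInf F m} := ⟨_, rfl⟩
  rw [← hU]
  have hUmem : ∀ u, u ∈ U ↔ u ∈ relConj M (M ⊓ szZsub h) ∧ u • oInf F m ≠ oInf F m := by
    intro u
    rw [hU]
    rfl
  let rep : ↥(Cfsg.suzukiOvoid F m) → ↥(Cfsg.Sz F m) := fun ε =>
    if hε : ∃ u ∈ U, u • oInf F m = ε then hε.choose else 1
  have hrep : ∀ u ∈ U, rep (u • oInf F m) ∈ U ∧
      rep (u • oInf F m) • oInf F m = u • oInf F m := by
    intro u hu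
    have hε : ∃ u' ∈ U, u' • oInf F m = u • oInf F m := ⟨u, hu, rfl⟩
    have e : rep (u • oInf F m) = hε.choose := dif_pos hε
    rw [e]
    exact hε.choose_spec
  let f : ↥(Cfsg.Sz F m) → ↥(Cfsg.suzukiOvoid F m) ⊕ ↥(Cfsg.Sz F m) := fun u =>
    if u = rep (u • oInf F m) then Sum.inl (u • oInf F m)
    else Sum.inr (u * rep (u • oInf F m))
  have hfpos : ∀ u, u = rep (u • oInf F m) → f u = Sum.inl (u • oInf F m) := by
    intro u hu
    exact if_pos hu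
  have hfneg : ∀ u, u ≠ rep (u • oInf F m) → f u = Sum.inr (u * rep (u • oInf F m)) := by
    intro u hu
    exact if_neg hu
  -- facts on `u * rep (u∞)`
  have hv : ∀ u ∈ U, (u * rep (u • oInf F m)) ∈ M ∧
      (u * rep (u • oInf F m)) • oInf F m = oInf F m ∧
      (u * rep (u • oInf F m)) • (u • oInf F m) = u • oInf F m ∧
      (u * rep (u • oInf F m) = 1 → u = rep (u • oInf F m)) := by
    intro u hu
    obtain ⟨hr1, hr2⟩ := hrep u hu
    obtain ⟨huM, hu1, hu2⟩ := szInv_props h M u ((hUmem u).mp hu).1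
    obtain ⟨hrM, hr1', hr2'⟩ := szInv_props h M _ ((hUmem _).mp hr1).1
    obtain ⟨r, hr⟩ : ∃ r, r = rep (u • oInf F m) := ⟨_, rfl⟩
    rw [← hr] at hr2 hrM hr2' ⊢
    have e1 : r • (u • oInf F m) = oInf F m := by
      rw [← hr2, ← mul_smul, hr2', one_smul]
    refine ⟨M.mul_mem huM hrM, ?_, ?_, ?_⟩
    · rw [mul_smul, hr2, ← mul_smul, hu2, one_smul]
    · rw [mul_smul, e1]
    · intro hc
      have e2 : u = r⁻¹ := eq_inv_of_mul_eq_one_left hc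
      have e3 : r⁻¹ = r := inv_eq_of_mul_eq_one_right hr2'
      rw [e2, e3]
  have hmaps : ∀ u ∈ U, f u ∈ (Sum.inl '' (szOrb M \ {oInf F m})) ∪
      (Sum.inr '' (((M ⊓ szB F m : Subgroup ↥(Cfsg.Sz F m)) : Set ↥(Cfsg.Sz F m)) \
          ((M ⊓ szTsub h : Subgroup ↥(Cfsg.Sz F m)) : Set ↥(Cfsg.Sz F m)))) := by
    intro u hu
    obtain ⟨hvM, hvinf, hvfix, hv1⟩ := hv u hu
    obtain ⟨huM, hu1, hu2⟩ := szInv_props h M u ((hUmem u).mp hu).1
    by_cases hc : u = rep (u • oInf F m)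
    · left
      rw [hfpos u hc]
      exact ⟨u • oInf F m, ⟨⟨u, huM, rfl⟩, ((hUmem u).mp hu).2⟩, rfl⟩
    · right
      rw [hfneg u hc]
      refine ⟨u * rep (u • oInf F m), ⟨⟨hvM, (mem_szB _).mpr hvinf⟩, ?_⟩, rfl⟩
      rintro ⟨-, a, b, hab⟩
      rw [hab] at hvfix hv1
      have hzero : a = 0 ∧ b = 0 := by
        by_contra hne
        exact ((hUmem u).mp hu).2 (szTm_fix h hne _ hvfix)
      apply hc
      apply hv1
      rw [hzero.1, hzero.2, szTm_zero]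
  have hinj : Set.InjOn f U := by
    intro u hu u' hu' hff
    obtain ⟨hvM, hvinf, hvfix, hv1⟩ := hv u hu
    obtain ⟨hvM', hvinf', hvfix', hv1'⟩ := hv u' hu'
    by_cases hc : u = rep (u • oInf F m)
    · by_cases hc' : u' = rep (u' • oInf F m)
      · rw [hfpos u hc, hfpos u' hc'] at hff
        have e : u • oInf F m = u' • oInf F m := Sum.inl_injective hff
        rw [hc, hc', e]
      · rw [hfpos u hc, hfneg u' hc'] at hff
        exact absurd hff (by simp)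
    · by_cases hc' : u' = rep (u' • oInf F m)
      · rw [hfneg u hc, hfpos u' hc'] at hff
        exact absurd hff (by simp)
      · rw [hfneg u hc, hfneg u' hc'] at hff
        have e : u * rep (u • oInf F m) = u' * rep (u' • oInf F m) := Sum.inr_injective hff
        have hpts : u • oInf F m = u' • oInf F m := by
          by_contra hne
          apply hc
          apply hv1
          rw [← e] at hvfix'
          exact h.sz_three_point' _ (oInf F m) (u • oInf F m) (u' • oInf F m)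
            (fun hcc => ((hUmem u).mp hu).2 hcc.symm) hne
            (fun hcc => ((hUmem u').mp hu').2 hcc.symm) hvinf hvfix hvfix'
        rw [hpts] at e
        exact mul_right_cancel e
  have h1 := Set.ncard_le_ncard_of_injOn f hmaps hinj (Set.toFinite _)
  refine h1.trans ((Set.ncard_union_le _ _).trans ?_)
  rw [Set.ncard_image_of_injective _ Sum.inl_injective,
    Set.ncard_image_of_injective _ Sum.inr_injective]

theorem sub_F4 (h : SzData F (2 ^ (m + 1))) (M : Subgroup ↥(Cfsg.Sz F m)) :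
    Nat.card ↥(M ⊓ szB F m) ≤
      ((fun g : ↥(Cfsg.Sz F m) => g * szTm h 0 1 * g⁻¹) ''
        ((M ⊓ szB F m : Subgroup ↥(Cfsg.Sz F m)) : Set ↥(Cfsg.Sz F m))).ncard *
      Nat.card ↥(M ⊓ szTsub h) := by
  apply card_le_of_fibers (M ⊓ szB F m) (M ⊓ szTsub h)
    (fun g : ↥(Cfsg.Sz F m) => g * szTm h 0 1 * g⁻¹) _ _ (Set.toFinite _) le_rfl
  · intro g hg
    exact ⟨g, hg, rfl⟩
  · rintro g ⟨hgM, hgB⟩ g' ⟨hgM', hgB'⟩ hgg
    have hgg' : g * szTm h 0 1 * g⁻¹ = g' * szTm h 0 1 * g'⁻¹ := hgg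
    have hB : g⁻¹ * g' ∈ szB F m := (szB F m).mul_mem ((szB F m).inv_mem hgB) hgB'
    refine ⟨M.mul_mem (M.inv_mem hgM) hgM', ?_⟩
    obtain ⟨a, b, μ, hab⟩ := sz_stab_inf' h _ ((mem_szB _).mp hB)
    have hconj : (g⁻¹ * g') * szTm h 0 1 * (g⁻¹ * g')⁻¹ = szTm h 0 1 := by
      have e : (g⁻¹ * g') * szTm h 0 1 * (g⁻¹ * g')⁻¹ =
          g⁻¹ * (g' * szTm h 0 1 * g'⁻¹) * g := by group
      rw [e, ← hgg']
      group
    rw [hab, sz_conj_central] at hconj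
    have h1 := (szTm_inj h hconj).2
    rw [mul_one] at h1
    have hμ : μ = 1 := h.unit_sq_eq_one (h.pow_succ_eq_one h1)
    rw [hab, hμ, szHsub_one, mul_one]
    exact szTm_mem h a b

theorem sub_Cj_subset (h : SzData F (2 ^ (m + 1))) (M : Subgroup ↥(Cfsg.Sz F m))
    (hT : szTm h 0 1 ∈ M) :
    (fun g : ↥(Cfsg.Sz F m) => g * szTm h 0 1 * g⁻¹) ''
        ((M ⊓ szB F m : Subgroup ↥(Cfsg.Sz F m)) : Set ↥(Cfsg.Sz F m)) ⊆
      ((M ⊓ szZsub h : Subgroup ↥(Cfsg.Sz F m)) : Set ↥(Cfsg.Sz F m)) \ {1} := by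
  rintro _ ⟨g, ⟨hgM, hgB⟩, rfl⟩
  obtain ⟨a, b, μ, rfl⟩ := sz_stab_inf' h g ((mem_szB _).mp hgB)
  refine ⟨⟨M.mul_mem (M.mul_mem hgM hT) (M.inv_mem hgM), _, sz_conj_central h a b μ 1⟩, ?_⟩
  intro hc
  rw [Set.mem_singleton_iff] at hc
  have hc' : szTm h 0 (((μ : F) ^ 2) ^ (2 ^ (m + 1) + 1) * 1) = 1 := by
    rw [← sz_conj_central h a b μ 1]
    exact hc
  rw [szTm_eq_one_iff, mul_one] at hc'
  exact (pow_ne_zero _ (pow_ne_zero _ μ.ne_zero)) hc'.2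

theorem sub_F5 (h : SzData F (2 ^ (m + 1))) (M : Subgroup ↥(Cfsg.Sz F m))
    (m₀ : ↥(Cfsg.Sz F m)) (hm₀ : m₀ ∈ M) (hm₀' : m₀ • oInf F m = oPt m 0 0) :
    (fun s : ↥(Cfsg.Sz F m) => s • oPt m (0 : F) 0) ''
        ((M ⊓ szTsub h : Subgroup ↥(Cfsg.Sz F m)) : Set ↥(Cfsg.Sz F m)) ⊆
      szOrb M \ {oInf F m} ∧
    ((fun s : ↥(Cfsg.Sz F m) => s • oPt m (0 : F) 0) ''
        ((M ⊓ szTsub h : Subgroup ↥(Cfsg.Sz F m)) : Set ↥(Cfsg.Sz F m))).ncard =
      Nat.card ↥(M ⊓ szTsub h) := by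
  constructor
  · rintro _ ⟨s, ⟨hsM, a, b, rfl⟩, rfl⟩
    refine ⟨⟨szTm h a b * m₀, M.mul_mem hsM hm₀, ?_⟩, ?_⟩
    · show (szTm h a b * m₀) • oInf F m = szTm h a b • oPt m (0 : F) 0
      rw [mul_smul, hm₀']
    · show szTm h a b • oPt m (0 : F) 0 ∉ ({oInf F m} : Set _)
      rw [szTm_smul_zero]
      exact oPt_ne_oInf a b
  · rw [Set.InjOn.ncard_image]
    · exact (Nat.card_coe_set_eq _).symm
    · rintro s ⟨-, a, b, rfl⟩ s' ⟨-, a', b', rfl⟩ hss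
      have hss' : szTm h a b • oPt m (0 : F) 0 = szTm h a' b' • oPt m (0 : F) 0 := hss
      rw [szTm_smul_zero, szTm_smul_zero] at hss'
      obtain ⟨e1, e2⟩ := oPt_inj hss'
      rw [e1, e2]

/-- the dichotomy -/
theorem sub_dichotomy (h : SzData F (2 ^ (m + 1))) (M : Subgroup ↥(Cfsg.Sz F m))
    (hT : szTm h 0 1 ∈ M) (m₀ : ↥(Cfsg.Sz F m)) (hm₀ : m₀ ∈ M)
    (hm₀' : m₀ • oInf F m = oPt m 0 0) :
    (Nat.card ↥(M ⊓ szZsub h) = 2 ∧ Nat.card ↥(M ⊓ szB F m) = Nat.card ↥(M ⊓ szTsub h)) ∨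
    (3 ≤ Nat.card ↥(M ⊓ szZsub h) ∧
      (∀ g ∈ M, ∀ a b : F, g • oInf F m = oPt m a b → szTm h a b ∈ M) ∧
      (∀ c : F, c ≠ 0 → szTm h 0 c ∈ M →
        ∃ g ∈ M ⊓ szB F m, g * szTm h 0 1 * g⁻¹ = szTm h 0 c)) := by
  have f1 := sub_F1 M
  have f2 := sub_F2 h M
  have f4 := sub_F4 h M
  have hCj := sub_Cj_subset h M hT
  obtain ⟨f5a, f5b⟩ := sub_F5 h M m₀ hm₀ hm₀'
  have f6 := sub_F6 h M
  -- cardinalities of the auxiliary sets
  have hinfOrb : oInf F m ∈ szOrb M := ⟨1, M.one_mem, one_smul _ _⟩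
  have hOrb1 : (szOrb M \ {oInf F m}).ncard = (szOrb M).ncard - 1 :=
    Set.ncard_sdiff_singleton_of_mem hinfOrb
  have hZ1 : (((M ⊓ szZsub h : Subgroup ↥(Cfsg.Sz F m)) : Set ↥(Cfsg.Sz F m)) \ {1}).ncard =
      Nat.card ↥(M ⊓ szZsub h) - 1 := by
    rw [Set.ncard_sdiff_singleton_of_mem (Subgroup.one_mem _)]
    congr 1
  have hBT : (((M ⊓ szB F m : Subgroup ↥(Cfsg.Sz F m)) : Set ↥(Cfsg.Sz F m)) \
          ((M ⊓ szTsub h : Subgroup ↥(Cfsg.Sz F m)) : Set ↥(Cfsg.Sz F m))).ncard =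
      Nat.card ↥(M ⊓ szB F m) - Nat.card ↥(M ⊓ szTsub h) := by
    have hsub : ((M ⊓ szTsub h : Subgroup ↥(Cfsg.Sz F m)) : Set ↥(Cfsg.Sz F m)) ⊆
        ((M ⊓ szB F m : Subgroup ↥(Cfsg.Sz F m)) : Set ↥(Cfsg.Sz F m)) := by
      rintro g ⟨hgM, a, b, rfl⟩
      exact ⟨hgM, szTm_mem_szB h a b⟩
    rw [Set.ncard_sdiff hsub]
    have e1 : Nat.card ↥(M ⊓ szB F m) =
        ((M ⊓ szB F m : Subgroup ↥(Cfsg.Sz F m)) : Set ↥(Cfsg.Sz F m)).ncard :=
      Nat.card_coe_set_eq _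
    have e2 : Nat.card ↥(M ⊓ szTsub h) =
        ((M ⊓ szTsub h : Subgroup ↥(Cfsg.Sz F m)) : Set ↥(Cfsg.Sz F m)).ncard :=
      Nat.card_coe_set_eq _
    rw [e1, e2]
  have hQL : Nat.card ↥(M ⊓ szTsub h) ≤ Nat.card ↥(M ⊓ szB F m) := by
    apply Subgroup.card_le_of_le
    rintro g ⟨hgM, a, b, rfl⟩
    exact ⟨hgM, szTm_mem_szB h a b⟩
  have hT1 : szTm (m := m) h 0 1 ≠ 1 := by
    intro hc
    rw [szTm_eq_one_iff] at hc
    exact one_ne_zero hc.2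
  have hZ2 : 2 ≤ Nat.card ↥(M ⊓ szZsub h) := by
    have hne : M ⊓ szZsub h ≠ ⊥ := by
      intro hc
      have hmem : szTm h 0 1 ∈ M ⊓ szZsub h := ⟨hT, 1, rfl⟩
      rw [hc, Subgroup.mem_bot] at hmem
      exact hT1 hmem
    exact (Subgroup.one_lt_card_iff_ne_bot _).mpr hne
  -- the involutions split according to whether they fix the point at infinity
  have hsplit : relConj M (M ⊓ szZsub h) =
      (((M ⊓ szZsub h : Subgroup ↥(Cfsg.Sz F m)) : Set ↥(Cfsg.Sz F m)) \ {1}) ∪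
        {u | u ∈ relConj M (M ⊓ szZsub h) ∧ u • oInf F m ≠ oInf F m} := by
    ext u
    constructor
    · intro hu
      by_cases hfix : u • oInf F m = oInf F m
      · left
        exact ⟨szInv_fix_inf h M u hu hfix, hu.1⟩
      · right
        exact ⟨hu, hfix⟩
    · rintro (⟨hu, hu1⟩ | ⟨hu, -⟩)
      · refine ⟨hu1, 1, M.one_mem, ?_⟩
        rw [inv_one, one_mul, mul_one]
        exact hu
      · exact hu
  have hdisj : Disjoint
      (((M ⊓ szZsub h : Subgroup ↥(Cfsg.Sz F m)) : Set ↥(Cfsg.Sz F m)) \ {1})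
      {u | u ∈ relConj M (M ⊓ szZsub h) ∧ u • oInf F m ≠ oInf F m} := by
    rw [Set.disjoint_left]
    rintro u ⟨⟨-, c, rfl⟩, -⟩ ⟨-, hne⟩
    exact hne (szTm_smul_inf h 0 c)
  have hIcard := Set.ncard_union_eq hdisj (Set.toFinite _) (Set.toFinite _)
  rw [← hsplit, hZ1] at hIcard
  have hCjle := Set.ncard_le_ncard hCj (Set.toFinite _)
  rw [hZ1] at hCjle
  rw [hOrb1, hBT] at f6
  have f5 : Nat.card ↥(M ⊓ szTsub h) ≤ (szOrb M).ncard - 1 := by
    rw [← f5b, ← hOrb1]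
    exact Set.ncard_le_ncard f5a (Set.toFinite _)
  have hNpos : 1 ≤ (szOrb M).ncard := by
    rw [Nat.one_le_iff_ne_zero]
    intro hc
    rw [Set.ncard_eq_zero (Set.toFinite _)] at hc
    rw [hc] at hinfOrb
    exact hinfOrb
  rcases sub_arith (szOrb M).ncard (Nat.card ↥(M ⊓ szB F m)) (Nat.card ↥(M ⊓ szTsub h))
    (Nat.card ↥(M ⊓ szZsub h) - 1) _ (relConj M (M ⊓ szZsub h)).ncard (Nat.card ↥M) f1 f2 f4
    hCjle f5 (by omega) hQL (by omega) Nat.card_pos hNpos Nat.card_pos with ⟨hz1, hLQ⟩ | ⟨hz2, hQN, hcz⟩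
  · left
    exact ⟨by omega, hLQ⟩
  · right
    refine ⟨by omega, ?_, ?_⟩
    · intro g hg a b hgab
      have himg : (fun s : ↥(Cfsg.Sz F m) => s • oPt m (0 : F) 0) ''
          ((M ⊓ szTsub h : Subgroup ↥(Cfsg.Sz F m)) : Set ↥(Cfsg.Sz F m)) =
          szOrb M \ {oInf F m} := by
        apply Set.eq_of_subset_of_ncard_le f5a _ (Set.toFinite _)
        rw [f5b, hOrb1, hQN]
      have hmem : oPt m a b ∈ szOrb M \ {oInf F m} :=
        ⟨⟨g, hg, hgab⟩, oPt_ne_oInf a b⟩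
      rw [← himg] at hmem
      obtain ⟨s, ⟨hsM, a', b', rfl⟩, hs⟩ := hmem
      have hs' : szTm h a' b' • oPt m (0 : F) 0 = oPt m a b := hs
      rw [szTm_smul_zero] at hs'
      obtain ⟨e1, e2⟩ := oPt_inj hs'
      rw [← e1, ← e2]
      exact hsM
    · intro c hc0 hcM
      have himg : (fun g : ↥(Cfsg.Sz F m) => g * szTm h 0 1 * g⁻¹) ''
          ((M ⊓ szB F m : Subgroup ↥(Cfsg.Sz F m)) : Set ↥(Cfsg.Sz F m)) =
          ((M ⊓ szZsub h : Subgroup ↥(Cfsg.Sz F m)) : Set ↥(Cfsg.Sz F m)) \ {1} := by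
        apply Set.eq_of_subset_of_ncard_le hCj _ (Set.toFinite _)
        rw [hZ1, hcz]
      have hmem : szTm h 0 c ∈
          ((M ⊓ szZsub h : Subgroup ↥(Cfsg.Sz F m)) : Set ↥(Cfsg.Sz F m)) \ {1} := by
        refine ⟨⟨hcM, c, rfl⟩, ?_⟩
        intro hcc
        rw [Set.mem_singleton_iff, szTm_eq_one_iff] at hcc
        exact hc0 hcc.2
      rw [← himg] at hmem
      obtain ⟨g, hg, hgc⟩ := hmem
      exact ⟨g, hg, hgc⟩

end Sub2

end Cfsg.Agent.Lib.Helper37
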