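-- helper37: Suzuki groups, part 40: subgroups with a single central involution at the
-- point at infinity lie in the normaliser of a torus.
import Mathlib
import Cfsg.Prelude.Def_LieExceptional
import Cfsg.Agent.Lib.Helper37.SzSub2
import Cfsg.Agent.Lib.Helper37.SzFix

set_option autoImplicit false

namespace Cfsg.Agent.Lib.Helper37

section Sub3

variable {F : Type*} [Field F] [Fintype F] {m : ℕ}

/-- the product of two involutions with different fixed points is semisimple -/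
theorem sz_invol_prod_odd (hm : 1 ≤ m) (hF : Fintype.card F = 2 ^ (2 * m + 1))
    (t u : ↥(Cfsg.Sz F m)) (ht : t * t = 1) (hu : u * u = 1) (ht1 : t ≠ 1)
    (p : ↥(Cfsg.suzukiOvoid F m)) (htp : t • p = p) (hup : u • p ≠ p) : szSS (t * u) := by
  have tinv : t⁻¹ = t := inv_eq_of_mul_eq_one_right ht
  have uinv : u⁻¹ = u := inv_eq_of_mul_eq_one_right hu
  constructor
  · intro hc
    have e1 : u = t⁻¹ := eq_inv_of_mul_eq_one_right hc
    apply hup
    rw [e1, tinv]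
    exact htp
  · intro h2
    obtain ⟨x, hx⟩ : ∃ x, x = t * u := ⟨_, rfl⟩
    rw [← hx] at h2
    have hpos : 0 < orderOf x := orderOf_pos x
    have ho : orderOf (x ^ (orderOf x / 2)) = 2 := orderOf_pow_orderOf_div hpos.ne' h2
    obtain ⟨y, hy⟩ : ∃ y, y = x ^ (orderOf x / 2) := ⟨_, rfl⟩
    rw [← hy] at ho
    have hyy : y * y = 1 := by
      have h0 := pow_orderOf_eq_one y
      rw [ho] at h0
      rw [← pow_two]
      exact h0
    have hy1 : y ≠ 1 := by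
      intro hc
      rw [hc, orderOf_one] at ho
      omega
    have hxinv : x⁻¹ = u * t := by rw [hx, mul_inv_rev, tinv, uinv]
    have htx : t * x * t⁻¹ = x⁻¹ := by
      rw [hxinv, hx, tinv, ← mul_assoc, ht, one_mul]
    have hux : u * x * u⁻¹ = x⁻¹ := by
      rw [hxinv, hx, uinv, mul_assoc, mul_assoc, hu, mul_one]
    have yinv : y⁻¹ = y := inv_eq_of_mul_eq_one_right hyy
    have hty : t * y * t⁻¹ = y := by
      rw [hy, ← conj_pow, htx, inv_pow, ← hy, yinv]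
    have huy : u * y * u⁻¹ = y := by
      rw [hy, ← conj_pow, hux, inv_pow, ← hy, yinv]
    obtain ⟨py, hpy⟩ := sz_involution_fixes hF y hyy
    have h1 : y • (t • py) = t • py := by
      have e : y * t = t * y := by
        calc y * t = (t * y * t⁻¹) * t := by rw [hty]
          _ = t * y := by group
      rw [← mul_smul, e, mul_smul, hpy]
    have h2' : y • (u • py) = u • py := by
      have e : y * u = u * y := by
        calc y * u = (u * y * u⁻¹) * u := by rw [huy]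
          _ = u * y := by group
      rw [← mul_smul, e, mul_smul, hpy]
    have e1 := sz_involution_fix_unique hm hF y hyy hy1 py (t • py) hpy h1
    have e2 := sz_involution_fix_unique hm hF y hyy hy1 py (u • py) hpy h2'
    have e3 := sz_involution_fix_unique hm hF t ht ht1 p py htp e1.symm
    apply hup
    rw [e3]
    exact e2.symm

/-- the case of a single central involution -/
theorem sub_case_one (hm : 1 ≤ m) (hF : Fintype.card F = 2 ^ (2 * m + 1))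
    (h : SzData F (2 ^ (m + 1))) (M : Subgroup ↥(Cfsg.Sz F m))
    (hT : szTm h 0 1 ∈ M) (m₀ : ↥(Cfsg.Sz F m)) (hm₀ : m₀ ∈ M)
    (hm₀' : m₀ • oInf F m = oPt m 0 0)
    (hZ : Nat.card ↥(M ⊓ szZsub h) = 2)
    (hLQ : Nat.card ↥(M ⊓ szB F m) = Nat.card ↥(M ⊓ szTsub h)) :
    ∃ U : Subgroup ↥(Cfsg.Sz F m), IsCyclic ↥U ∧
      Nat.card ↥U ∈ ({2 ^ (2 * m + 1) - 1, 2 ^ (2 * m + 1) + 2 ^ (m + 1) + 1,
        2 ^ (2 * m + 1) - 2 ^ (m + 1) + 1} : Set ℕ) ∧
      M ≤ Subgroup.normalizer (U : Set ↥(Cfsg.Sz F m)) := by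
  obtain ⟨t, htdef⟩ : ∃ t, t = szTm (m := m) h 0 1 := ⟨_, rfl⟩
  have htM : t ∈ M := by
    rw [htdef]
    exact hT
  have htt : t * t = 1 := by
    rw [htdef]
    exact szTm_central_sq h 1
  have ht1 : t ≠ 1 := by
    rw [htdef]
    intro hc
    rw [szTm_eq_one_iff] at hc
    exact one_ne_zero hc.2
  have htinf : t • oInf F m = oInf F m := by
    rw [htdef]
    exact szTm_smul_inf h 0 1
  have htZ : t ∈ M ⊓ szZsub h := ⟨htM, 1, htdef⟩
  have tinv : t⁻¹ = t := inv_eq_of_mul_eq_one_right htt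
  -- the central involutions of M at infinity
  have hZ2 : ∀ u ∈ M ⊓ szZsub h, u = 1 ∨ u = t := by
    intro u hu
    have hcard : ((M ⊓ szZsub h : Subgroup ↥(Cfsg.Sz F m)) : Set ↥(Cfsg.Sz F m)).ncard ≤ 2 := by
      rw [← Nat.card_coe_set_eq]
      exact le_of_eq hZ
    rcases three_in_two _ (Set.toFinite _) hcard 1 t u (Subgroup.one_mem _) htZ hu with
      h1 | h1 | h1
    · exact absurd h1.symm ht1
    · exact Or.inl h1.symm
    · exact Or.inr h1.symm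
  -- every involution of the class other than t moves infinity
  have hmove : ∀ u ∈ relConj M (M ⊓ szZsub h), u ≠ t → u • oInf F m ≠ oInf F m := by
    intro u hu hut hfix
    rcases hZ2 u (szInv_fix_inf h M u hu hfix) with h1 | h1
    · exact hu.1 h1
    · exact hut h1
  have hUT : relConj M (M ⊓ szTsub h) ⊆ relConj ⊤ (szTsub h) := by
    rintro w ⟨hw1, g, -, -, hg⟩
    exact ⟨hw1, g, Subgroup.mem_top _, hg⟩
  -- the set of semisimple elements
  obtain ⟨SS, hSS⟩ : ∃ SS : Set ↥(Cfsg.Sz F m),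
      SS = (M : Set ↥(Cfsg.Sz F m)) \ insert 1 (relConj M (M ⊓ szTsub h)) := ⟨_, rfl⟩
  have hSSmem : ∀ x, x ∈ SS ↔ x ∈ M ∧ x ≠ 1 ∧ x ∉ relConj M (M ⊓ szTsub h) := by
    intro x
    rw [hSS]
    constructor
    · rintro ⟨hxM, hx⟩
      exact ⟨hxM, fun hc => hx (Or.inl hc), fun hc => hx (Or.inr hc)⟩
    · rintro ⟨hxM, hx1, hxU⟩
      exact ⟨hxM, fun hc => hc.elim hx1 hxU⟩
  have hprod : ∀ u ∈ relConj M (M ⊓ szZsub h), u ≠ t → t * u ∈ SS ∧ szSS (t * u) := by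
    intro u hu hut
    obtain ⟨huM, hu1, huu⟩ := szInv_props h M u hu
    have hss := sz_invol_prod_odd hm hF t u htt huu ht1 (oInf F m) htinf (hmove u hu hut)
    refine ⟨(hSSmem _).mpr ⟨M.mul_mem htM huM, hss.1, fun hc => ?_⟩, hss⟩
    exact szSS_not_unip hm hF _ hss (hUT hc)
  -- counting
  have f1 := sub_F1 M
  have f2 := sub_F2 h M
  have f3 := sub_F3 h M
  rw [hZ] at f2
  rw [hLQ] at f1 f2 f3
  have hQpos : 0 < Nat.card ↥(M ⊓ szTsub h) := Nat.card_pos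
  have hI : (relConj M (M ⊓ szZsub h)).ncard = (szOrb M).ncard := by
    apply Nat.eq_of_mul_eq_mul_right hQpos
    rw [f2, f1]
    norm_num
  have hUc : (relConj M (M ⊓ szTsub h)).ncard =
      (szOrb M).ncard * (Nat.card ↥(M ⊓ szTsub h) - 1) := by
    apply Nat.eq_of_mul_eq_mul_right hQpos
    rw [f3, ← f1]
    ring
  have hSScard : SS.ncard = (szOrb M).ncard - 1 := by
    have hins : insert 1 (relConj M (M ⊓ szTsub h)) ⊆ (M : Set ↥(Cfsg.Sz F m)) := by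
      rintro x (rfl | hx)
      · exact M.one_mem
      · exact relConj_subset M _ inf_le_left hx
    have h1n : (1 : ↥(Cfsg.Sz F m)) ∉ relConj M (M ⊓ szTsub h) := fun hc => hc.1 rfl
    rw [hSS, Set.ncard_sdiff hins, Set.ncard_insert_of_notMem h1n, hUc]
    have e : (M : Set ↥(Cfsg.Sz F m)).ncard = Nat.card ↥M := (Nat.card_coe_set_eq _).symm
    rw [e, ← f1]
    obtain ⟨q', hq'⟩ : ∃ q', Nat.card ↥(M ⊓ szTsub h) = q' + 1 :=
      ⟨_, (Nat.succ_pred_eq_of_pos hQpos).symm⟩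
    rw [hq', Nat.add_sub_cancel, mul_add, mul_one]
    omega
  have htInv : t ∈ relConj M (M ⊓ szZsub h) := by
    refine ⟨ht1, 1, M.one_mem, ?_⟩
    rw [inv_one, one_mul, mul_one]
    exact htZ
  have hInv'card : (relConj M (M ⊓ szZsub h) \ {t}).ncard = (szOrb M).ncard - 1 := by
    rw [Set.ncard_sdiff_singleton_of_mem htInv, hI]
  have himg : (fun u => t * u) '' (relConj M (M ⊓ szZsub h) \ {t}) = SS := by
    apply Set.eq_of_subset_of_ncard_le _ _ (Set.toFinite _)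
    · rintro _ ⟨u, ⟨hu, hut⟩, rfl⟩
      exact (hprod u hu hut).1
    · rw [Set.ncard_image_of_injective _ (mul_right_injective t), hInv'card, hSScard]
  -- t inverts SS
  have hinv_t : ∀ x ∈ SS, t * x * t⁻¹ = x⁻¹ := by
    intro x hx
    rw [← himg] at hx
    obtain ⟨u, ⟨hu, -⟩, rfl⟩ := hx
    obtain ⟨-, -, huu⟩ := szInv_props h M u hu
    have uinv : u⁻¹ = u := inv_eq_of_mul_eq_one_right huu
    show t * (t * u) * t⁻¹ = (t * u)⁻¹
    rw [mul_inv_rev, uinv, ← mul_assoc, htt, one_mul]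
  -- SS is invariant under M
  have hSSconj : ∀ x ∈ SS, ∀ g ∈ M, g * x * g⁻¹ ∈ SS := by
    intro x hx g hg
    obtain ⟨hxM, hx1, hxU⟩ := (hSSmem x).mp hx
    refine (hSSmem _).mpr ⟨M.mul_mem (M.mul_mem hg hxM) (M.inv_mem hg), ?_, ?_⟩
    · intro hc
      apply hx1
      have e : x = g⁻¹ * (g * x * g⁻¹) * g := by group
      rw [e, hc]
      group
    · rintro ⟨-, k, hk, hkc⟩
      apply hxU
      refine ⟨hx1, g⁻¹ * k, M.mul_mem (M.inv_mem hg) hk, ?_⟩
      have e : (g⁻¹ * k)⁻¹ * x * (g⁻¹ * k) = k⁻¹ * (g * x * g⁻¹) * k := by group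
      rw [e]
      exact hkc
  -- a second involution
  obtain ⟨u₁, hu₁def⟩ : ∃ u₁, u₁ = m₀ * t * m₀⁻¹ := ⟨_, rfl⟩
  have hu₁M : u₁ ∈ M := by
    rw [hu₁def]
    exact M.mul_mem (M.mul_mem hm₀ htM) (M.inv_mem hm₀)
  have hu₁u₁ : u₁ * u₁ = 1 := by
    rw [hu₁def]
    have e : m₀ * t * m₀⁻¹ * (m₀ * t * m₀⁻¹) = m₀ * (t * t) * m₀⁻¹ := by group
    rw [e, htt]
    group
  have hu₁inf : u₁ • oInf F m ≠ oInf F m := by
    intro hfix
    rw [hu₁def, htdef] at hfix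
    have hab : ¬ ((0 : F) = 0 ∧ (1 : F) = 0) := fun hc => one_ne_zero hc.2
    have e := sz_T_conj_fix h m₀ 0 1 hab _ hfix
    rw [hm₀'] at e
    exact oPt_ne_oInf 0 0 e.symm
  have hinv_u : ∀ x ∈ SS, u₁ * x * u₁⁻¹ = x⁻¹ := by
    intro x hx
    have h1 := hSSconj x hx m₀⁻¹ (M.inv_mem hm₀)
    have h2 := hinv_t _ h1
    rw [inv_inv] at h2
    rw [hu₁def]
    have e : m₀ * t * m₀⁻¹ * x * (m₀ * t * m₀⁻¹)⁻¹ =
        m₀ * (t * (m₀⁻¹ * x * m₀) * t⁻¹) * m₀⁻¹ := by group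
    rw [e, h2]
    group
  have hx₀ss := sz_invol_prod_odd hm hF t u₁ htt hu₁u₁ ht1 (oInf F m) htinf hu₁inf
  obtain ⟨x₀, hx₀def⟩ : ∃ x₀, x₀ = t * u₁ := ⟨_, rfl⟩
  rw [← hx₀def] at hx₀ss
  have hx₀SS : x₀ ∈ SS := by
    refine (hSSmem _).mpr ⟨?_, hx₀ss.1, fun hc => ?_⟩
    · rw [hx₀def]
      exact M.mul_mem htM hu₁M
    · exact szSS_not_unip hm hF _ hx₀ss (hUT hc)
  have hcomm : ∀ x ∈ SS, x ∈ Subgroup.centralizer ({x₀} : Set ↥(Cfsg.Sz F m)) := by
    intro x hx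
    rw [mem_cent_singleton]
    have h1 := hinv_t x hx
    have h2 := hinv_u x hx
    have e : x₀ * x * x₀⁻¹ = x := by
      rw [hx₀def]
      have e1 : t * u₁ * x * (t * u₁)⁻¹ = t * (u₁ * x * u₁⁻¹) * t⁻¹ := by group
      rw [e1, h2]
      have e2 : t * x⁻¹ * t⁻¹ = (t * x * t⁻¹)⁻¹ := by group
      rw [e2, h1, inv_inv]
    calc x₀ * x = (x₀ * x * x₀⁻¹) * x₀ := by group
      _ = x * x₀ := by rw [e]
  refine ⟨Subgroup.centralizer ({x₀} : Set ↥(Cfsg.Sz F m)), (szSS_cent hm hF x₀ hx₀ss).1,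
    (szSS_cent hm hF x₀ hx₀ss).2, ?_⟩
  intro g hg
  have hy := hSSconj x₀ hx₀SS g hg
  have hyc := hcomm _ hy
  have hy1 : g * x₀ * g⁻¹ ≠ 1 := ((hSSmem _).mp hy).2.1
  have heq := szSS_cent_eq hm hF x₀ (g * x₀ * g⁻¹) hx₀ss hyc hy1
  have key : ∀ w' : ↥(Cfsg.Sz F m),
      w' ∈ Subgroup.centralizer ({x₀} : Set ↥(Cfsg.Sz F m)) ↔
        g⁻¹ * w' * g ∈ Subgroup.centralizer ({x₀} : Set ↥(Cfsg.Sz F m)) := by
    intro w'
    conv_lhs => rw [← heq]
    exact cent_conj_iff g x₀ w'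
  apply Subgroup.mem_normalizer_iff.mpr
  intro w
  show w ∈ Subgroup.centralizer ({x₀} : Set ↥(Cfsg.Sz F m)) ↔
    g * w * g⁻¹ ∈ Subgroup.centralizer ({x₀} : Set ↥(Cfsg.Sz F m))
  rw [key (g * w * g⁻¹)]
  have e : g⁻¹ * (g * w * g⁻¹) * g = w := by group
  rw [e]

end Sub3

end Cfsg.Agent.Lib.Helper37
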