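-- helper37: Suzuki groups, part 41: subgroups with several central involutions at the point
-- at infinity lie in a subfield subgroup.
import Mathlib
import Cfsg.Prelude.Def_LieExceptional
import Cfsg.Agent.Lib.Helper37.SzSub2
import Cfsg.Agent.Lib.Helper37.SzEmb
import Cfsg.Agent.Lib.Helper37.SzRigid
import Cfsg.Agent.Lib.Helper37.SzGen

set_option autoImplicit false

namespace Cfsg.Agent.Lib.Helper37

section Sub4a

theorem SzData.mem_of_pow_succ_mem {F : Type*} [Field F] {s : ℕ} (h : SzData F s)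
    (B : Subfield F) (a : F) (ha : a ^ s * a ∈ B) : a ∈ B := by
  by_cases a0 : a = 0
  · rw [a0]
    exact B.zero_mem
  have hs0 : a ^ s ≠ 0 := pow_ne_zero _ a0
  have e : a = (a ^ s * a) ^ s / (a ^ s * a) := by
    rw [mul_pow, h.sq]
    field_simp
  rw [e]
  exact B.div_mem (B.pow_mem ha s) ha

theorem map_smul_diag {K F : Type*} [Field K] [Field F] (ψ : K →+* F) (A d0 d1 d2 d3 : K) :
    (A • Matrix.diagonal ![d0, d1, d2, d3]).map ψ =
      ψ A • Matrix.diagonal ![ψ d0, ψ d1, ψ d2, ψ d3] := by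
  ext i j
  fin_cases i <;> fin_cases j <;> simp

theorem map_szH {K F : Type*} [Field K] [Field F] {m k : ℕ} (ψ : K →+* F)
    (hψ : ∀ x : K, ψ x ^ 2 ^ (m + 1) = ψ (x ^ 2 ^ (k + 1))) (ν : K) :
    (szHmat (2 ^ (k + 1)) ν).map ψ = szHmat (2 ^ (m + 1)) (ψ ν) := by
  have e : ∀ (x : K) (j : ℕ), ψ (x ^ (2 ^ (k + 1) + j)) = ψ x ^ (2 ^ (m + 1) + j) := by
    intro x j
    rw [pow_add, map_mul, ← hψ, map_pow, ← pow_add]
  unfold szHmat szD
  rw [map_smul_diag, e, e, e, map_inv₀, map_pow, map_one]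

/-- a power of two with odd exponent which is a power of a number at least three -/
theorem pow_two_odd_root (m Z d : ℕ) (hZ : 3 ≤ Z) (hpow : 2 ^ (2 * m + 1) = Z ^ d) :
    ∃ k, 1 ≤ k ∧ k ≤ m ∧ Z = 2 ^ (2 * k + 1) ∧ 2 * k + 1 ∣ 2 * m + 1 := by
  have hd : d ≠ 0 := by
    rintro rfl
    rw [pow_zero] at hpow
    have h1 : 2 ≤ 2 ^ (2 * m + 1) := Nat.le_self_pow (by omega) 2
    omega
  have hdvd : Z ∣ 2 ^ (2 * m + 1) := by
    rw [hpow]
    exact dvd_pow_self Z hd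
  obtain ⟨e, he, rfl⟩ := (Nat.dvd_prime_pow Nat.prime_two).mp hdvd
  rw [← pow_mul] at hpow
  have hed : 2 * m + 1 = e * d := Nat.pow_right_injective (le_refl 2) hpow
  have hodd : e % 2 = 1 := by
    by_contra hne
    have he2 : 2 ∣ e := by omega
    have h2 : 2 ∣ e * d := Dvd.dvd.mul_right he2 d
    omega
  have he3 : 3 ≤ e := by
    by_contra hlt
    have he1 : e = 1 := by omega
    rw [he1] at hZ
    norm_num at hZ
  refine ⟨e / 2, by omega, by omega, ?_, ?_⟩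
  · congr 1
    omega
  · have e2 : 2 * (e / 2) + 1 = e := by omega
    rw [e2]
    exact ⟨d, hed⟩

end Sub4a

section Sub4

variable {F : Type*} [Field F] [Fintype F] {m : ℕ}

/-- the normalised situation in the case of several central involutions -/
structure SubNorm (h : SzData F (2 ^ (m + 1))) (M : Subgroup ↥(Cfsg.Sz F m)) : Prop where
  hT : szTm h 0 1 ∈ M
  hreg : ∀ g ∈ M, ∀ a b : F, g • oInf F m = oPt m a b → szTm h a b ∈ M
  hconj : ∀ c : F, c ≠ 0 → szTm h 0 c ∈ M →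
    ∃ g ∈ M ⊓ szB F m, g * szTm h 0 1 * g⁻¹ = szTm h 0 c
  hmove : ∃ m₀ ∈ M, m₀ • oInf F m = oPt m (0 : F) 0

variable {h : SzData F (2 ^ (m + 1))} {M : Subgroup ↥(Cfsg.Sz F m)}

theorem SubNorm.reg0 (hS : SubNorm h M) (g : ↥(Cfsg.Sz F m)) (hg : g ∈ M) (a b : F)
    (hgab : g • oPt m (0 : F) 0 = oPt m a b) : szTm h a b ∈ M := by
  obtain ⟨m₀, hm₀, hm₀'⟩ := hS.hmove
  apply hS.hreg (g * m₀) (M.mul_mem hg hm₀) a b
  rw [mul_smul, hm₀', hgab]

theorem SubNorm.split (hS : SubNorm h M) (a b : F) (ν : Fˣ)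
    (hg : szTm h a b * szHsub h ν ∈ M) : szTm h a b ∈ M ∧ szHsub h ν ∈ M := by
  have h1 : szTm h a b ∈ M := by
    apply hS.reg0 _ hg a b
    rw [mul_smul, h.szHsub_smul_zero, szTm_smul_zero]
  refine ⟨h1, ?_⟩
  have e : szHsub h ν = (szTm h a b)⁻¹ * (szTm h a b * szHsub h ν) := by group
  rw [e]
  exact M.mul_mem (M.inv_mem h1) hg

theorem SubNorm.torus_mul (hS : SubNorm h M) (ν : Fˣ) (hν : szHsub h ν ∈ M) (b : F)
    (hb : szTm h 0 b ∈ M) : szTm h 0 (((ν : F) ^ 2) ^ (2 ^ (m + 1) + 1) * b) ∈ M := by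
  have h1 := M.mul_mem (M.mul_mem hν hb) (M.inv_mem hν)
  rw [szHsub_conj_szTm, mul_zero] at h1
  exact h1

theorem SubNorm.torus_ex (hS : SubNorm h M) (b : F) (hb0 : b ≠ 0) (hb : szTm h 0 b ∈ M) :
    ∃ ν : Fˣ, szHsub h ν ∈ M ∧ ((ν : F) ^ 2) ^ (2 ^ (m + 1) + 1) = b := by
  obtain ⟨g, ⟨hgM, hgB⟩, hgc⟩ := hS.hconj b hb0 hb
  obtain ⟨a', b', ν, rfl⟩ := sz_stab_inf' h g ((mem_szB _).mp hgB)
  refine ⟨ν, (hS.split a' b' ν hgM).2, ?_⟩
  rw [sz_conj_central] at hgc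
  have h1 := (szTm_inj h hgc).2
  rw [mul_one] at h1
  exact h1

/-- the central parameters form a subfield -/
theorem SubNorm.exists_subfield (hS : SubNorm h M) :
    ∃ B : Subfield F, ∀ b : F, b ∈ B ↔ szTm h 0 b ∈ M := by
  have hmul : ∀ b b' : F, szTm h 0 b ∈ M → szTm h 0 b' ∈ M → szTm h 0 (b * b') ∈ M := by
    intro b b' hb hb'
    by_cases hb0 : b = 0
    · rw [hb0, zero_mul, szTm_zero]
      exact M.one_mem
    · obtain ⟨ν, hν, hνb⟩ := hS.torus_ex b hb0 hb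
      rw [← hνb]
      exact hS.torus_mul ν hν b' hb'
  have hinv : ∀ b : F, szTm h 0 b ∈ M → szTm h 0 b⁻¹ ∈ M := by
    intro b hb
    by_cases hb0 : b = 0
    · rw [hb0, inv_zero, szTm_zero]
      exact M.one_mem
    · obtain ⟨ν, hν, hνb⟩ := hS.torus_ex b hb0 hb
      have h1 : szHsub h ν⁻¹ ∈ M := by
        rw [← szHsub_inv]
        exact M.inv_mem hν
      have h2 := hS.torus_mul ν⁻¹ h1 1 hS.hT
      rw [mul_one, Units.val_inv_eq_inv_val, inv_pow, inv_pow, hνb] at h2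
      exact h2
  have hadd : ∀ b b' : F, szTm h 0 b ∈ M → szTm h 0 b' ∈ M → szTm h 0 (b + b') ∈ M := by
    intro b b' hb hb'
    have h1 := M.mul_mem hb' hb
    rw [szTm_central_mul] at h1
    exact h1
  have hzero : szTm h 0 0 ∈ M := by
    rw [szTm_zero]
    exact M.one_mem
  have hneg : ∀ b : F, szTm h 0 b ∈ M → szTm h 0 (-b) ∈ M := by
    intro b hb
    rw [h.neg_eq]
    exact hb
  exact ⟨{ carrier := {b | szTm h 0 b ∈ M}
           mul_mem' := fun {a b} ha hb => hmul a b ha hb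
           one_mem' := hS.hT
           add_mem' := fun {a b} ha hb => hadd a b ha hb
           zero_mem' := hzero
           neg_mem' := fun {a} ha => hneg a ha
           inv_mem' := fun a ha => hinv a ha }, fun b => Iff.rfl⟩

/-- the inversion lies in the subgroup -/
theorem SubNorm.W_mem (hS : SubNorm h M) : szWm h ∈ M := by
  obtain ⟨m₀, hm₀, hm₀'⟩ := hS.hmove
  have hδ : m₀⁻¹ • oInf F m ≠ oInf F m := by
    intro hc
    have h1 : m₀ • oInf F m = oInf F m := by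
      conv_lhs => rw [← hc]
      rw [smul_inv_smul]
    rw [hm₀'] at h1
    exact oPt_ne_oInf 0 0 h1
  rcases oPt_or_oInf (m₀⁻¹ • oInf F m) with hc | ⟨a, b, hab⟩
  · exact absurd hc hδ
  have hTab : szTm h a b ∈ M := hS.hreg _ (M.inv_mem hm₀) a b hab
  obtain ⟨w, hw⟩ : ∃ w, w = m₀ * szTm h a b := ⟨_, rfl⟩
  have hwM : w ∈ M := by
    rw [hw]
    exact M.mul_mem hm₀ hTab
  have hw1 : w • oInf F m = oPt m (0 : F) 0 := by
    rw [hw, mul_smul, szTm_smul_inf, hm₀']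
  have hw2 : w • oPt m (0 : F) 0 = oInf F m := by
    rw [hw, mul_smul, szTm_smul_zero, ← hab, smul_inv_smul]
  obtain ⟨ν₀, hν₀⟩ := sz_swap h w hw1 hw2
  have hg : w * szTm h 0 1 * w⁻¹ ∈ M := M.mul_mem (M.mul_mem hwM hS.hT) (M.inv_mem hwM)
  have hwinv : w⁻¹ • oInf F m = oPt m (0 : F) 0 := by
    rw [inv_smul_eq_iff, hw2]
  have hginf : (w * szTm h 0 1 * w⁻¹) • oInf F m =
      oPt m ((ν₀ : F) ^ 2 * 1) (((ν₀ : F) ^ 2) ^ (2 ^ (m + 1) + 1) * 0) := by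
    rw [mul_smul, mul_smul, hwinv, szTm_smul_zero, hν₀, mul_smul,
      szWm_smul_pt_one h 0 1 h.szf_zero_one, szHsub_smul_pt]
  have hA := hS.hreg _ hg _ _ hginf
  rw [← szHsub_conj_szTm] at hA
  rw [hν₀] at hg hwM
  have hrel := sz_W_relation (m := m) h
  have hHWH : szHsub h ν₀ * szWm h * (szHsub h ν₀)⁻¹ ∈ M := by
    have e : szHsub h ν₀ * szWm h * (szHsub h ν₀)⁻¹ =
        (szHsub h ν₀ * szTm h 1 0 * (szHsub h ν₀)⁻¹)⁻¹ *
          (szHsub h ν₀ * szWm h * szTm h 0 1 * (szHsub h ν₀ * szWm h)⁻¹) *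
          (szHsub h ν₀ * szTm h 1 0 * (szHsub h ν₀)⁻¹) := by
      have e' : (szHsub h ν₀ * szTm h 1 0 * (szHsub h ν₀)⁻¹)⁻¹ *
          (szHsub h ν₀ * szWm h * szTm h 0 1 * (szHsub h ν₀ * szWm h)⁻¹) *
          (szHsub h ν₀ * szTm h 1 0 * (szHsub h ν₀)⁻¹) =
          szHsub h ν₀ * ((szTm h 1 0)⁻¹ * szWm h * szTm h 0 1 * (szWm h)⁻¹ * szTm h 1 0) *
            (szHsub h ν₀)⁻¹ := by group
      rw [e', szWm_inv, hrel]
    rw [e]
    exact M.mul_mem (M.mul_mem (M.inv_mem hA) hg) hA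
  have hH : szHsub h ν₀ ∈ M := by
    have e : szHsub h ν₀ = (szHsub h ν₀ * szWm h * (szHsub h ν₀)⁻¹) *
        (szHsub h ν₀ * szWm h)⁻¹ := by
      have e' : (szHsub h ν₀ * szWm h * (szHsub h ν₀)⁻¹) * (szHsub h ν₀ * szWm h)⁻¹ =
          szHsub h ν₀ * (szWm h * (szHsub h ν₀)⁻¹ * (szWm h)⁻¹) * (szHsub h ν₀)⁻¹ := by group
      rw [e', szWm_inv, szHsub_inv, szWm_conj_szHsub, inv_inv, szHsub_mul, szHsub_mul,
        mul_inv_cancel_right]
    rw [e]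
    exact M.mul_mem hHWH (M.inv_mem hwM)
  have e : szWm h = (szHsub h ν₀)⁻¹ * (szHsub h ν₀ * szWm h) := by group
  rw [e]
  exact M.mul_mem (M.inv_mem hH) hwM

theorem SubNorm.T_left (hS : SubNorm h M) (B : Subfield F)
    (hB : ∀ b : F, b ∈ B ↔ szTm h 0 b ∈ M) (a : F) (ha : a ∈ B) : szTm h a 0 ∈ M := by
  by_cases a0 : a = 0
  · rw [a0, szTm_zero]
    exact M.one_mem
  have hW := hS.W_mem
  obtain ⟨b, hbdef⟩ : ∃ b, b = (a ^ 2 ^ (m + 1) * a)⁻¹ := ⟨_, rfl⟩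
  have hbB : b ∈ B := by
    rw [hbdef]
    exact B.inv_mem (B.mul_mem (B.pow_mem ha _) ha)
  have hbM : szTm h 0 b ∈ M := (hB b).mp hbB
  have hs0 : a ^ 2 ^ (m + 1) ≠ 0 := pow_ne_zero _ a0
  have hb0 : b ≠ 0 := by
    rw [hbdef]
    exact inv_ne_zero (mul_ne_zero hs0 a0)
  have hf : szf (2 ^ (m + 1)) 0 b = b ^ 2 ^ (m + 1) := h.szf_zero_left b
  have hf0 : szf (2 ^ (m + 1)) 0 b ≠ 0 := by
    rw [hf]
    exact pow_ne_zero _ hb0
  have h1 : (szWm h * szTm h 0 b) • oPt m (0 : F) 0 =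
      oPt m (b / szf (2 ^ (m + 1)) 0 b) (0 / szf (2 ^ (m + 1)) 0 b) := by
    rw [mul_smul, szTm_smul_zero, szWm_smul_pt h 0 b hf0]
  have h2 := hS.reg0 _ (M.mul_mem hW hbM) _ _ h1
  have e1 : b / szf (2 ^ (m + 1)) 0 b = a := by
    rw [hf, hbdef, inv_pow, mul_pow, h.sq]
    field_simp
  rw [e1, zero_div] at h2
  exact h2

theorem SubNorm.T_mem (hS : SubNorm h M) (B : Subfield F)
    (hB : ∀ b : F, b ∈ B ↔ szTm h 0 b ∈ M) (a b : F) (hab : szTm h a b ∈ M) :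
    a ∈ B ∧ b ∈ B := by
  have h1 : szTm h 0 (a ^ 2 ^ (m + 1) * a) ∈ M := by
    rw [← szTm_sq]
    exact M.mul_mem hab hab
  have haB : a ∈ B := h.mem_of_pow_succ_mem B a ((hB _).mpr h1)
  refine ⟨haB, (hB b).mpr ?_⟩
  have h2 := hS.T_left B hB a haB
  have e : szTm h 0 b = (szTm h a 0)⁻¹ * szTm h a b := by
    rw [eq_inv_mul_iff_mul_eq, szTm_mul_central, zero_add]
  rw [e]
  exact M.mul_mem (M.inv_mem h2) hab

theorem SubNorm.H_mem (hS : SubNorm h M) (B : Subfield F)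
    (hB : ∀ b : F, b ∈ B ↔ szTm h 0 b ∈ M) (ν : Fˣ) (hν : szHsub h ν ∈ M) :
    (ν : F) ^ 2 ∈ B := by
  have h1 := hS.torus_mul ν hν 1 hS.hT
  rw [mul_one, pow_succ ((ν : F) ^ 2) (2 ^ (m + 1))] at h1
  exact h.mem_of_pow_succ_mem B _ ((hB _).mpr h1)

theorem SubNorm.card_B (hS : SubNorm h M) (B : Subfield F)
    (hB : ∀ b : F, b ∈ B ↔ szTm h 0 b ∈ M) : Nat.card ↥B = Nat.card ↥(M ⊓ szZsub h) := by
  apply Nat.card_eq_of_bijective (fun b : ↥B =>
    (⟨szTm h 0 (b : F), ⟨(hB _).mp b.2, (b : F), rfl⟩⟩ : ↥(M ⊓ szZsub h)))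
  constructor
  · intro b b' hbb
    have h1 : szTm h 0 (b : F) = szTm h 0 (b' : F) := congrArg Subtype.val hbb
    exact Subtype.ext (szTm_inj h h1).2
  · rintro ⟨g, hgM, c, rfl⟩
    exact ⟨⟨c, (hB c).mpr hgM⟩, rfl⟩

theorem SubNorm.top_of_card (hS : SubNorm h M) (B : Subfield F)
    (hB : ∀ b : F, b ∈ B ↔ szTm h 0 b ∈ M) (hcard : Nat.card ↥B = Nat.card F) : M = ⊤ := by
  have hall : ∀ b : F, b ∈ B := by
    have h1 : (B : Set F) = Set.univ := by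
      apply Set.eq_of_subset_of_ncard_le (Set.subset_univ _) _ (Set.toFinite _)
      rw [Set.ncard_univ, ← hcard]
      exact le_of_eq (Nat.card_coe_set_eq _)
    intro b
    have h2 : b ∈ (B : Set F) := by
      rw [h1]
      exact Set.mem_univ b
    exact h2
  have hT : ∀ a b : F, szTm h a b ∈ M := by
    intro a b
    have h1 := hS.T_left B hB a (hall a)
    have h2 := (hB b).mp (hall b)
    have h3 := M.mul_mem h1 h2
    rw [szTm_mul_central, zero_add] at h3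
    exact h3
  have hW := hS.W_mem
  exact sz_eq_top_of_T_Tw h M hT (fun a b => M.mul_mem (M.mul_mem hW (hT a b)) hW)

theorem SubNorm.le_range (hS : SubNorm h M) (B : Subfield F)
    (hB : ∀ b : F, b ∈ B ↔ szTm h 0 b ∈ M) {K : Type*} [Field K] [Finite K] {k : ℕ}
    (hK0 : SzData K (2 ^ (k + 1))) (ψ : K →+* F)
    (hψ : ∀ x : K, ψ x ^ 2 ^ (m + 1) = ψ (x ^ 2 ^ (k + 1)))
    (hrange : ∀ b ∈ B, ∃ y : K, ψ y = b) : M ≤ (szEmb hK0 h ψ hψ).range := by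
  have hRT : ∀ a b : F, a ∈ B → b ∈ B → szTm h a b ∈ (szEmb hK0 h ψ hψ).range := by
    intro a b ha hb
    obtain ⟨a', rfl⟩ := hrange a ha
    obtain ⟨b', rfl⟩ := hrange b hb
    exact ⟨szTm hK0 a' b', Subtype.ext (szEmb0_szTm hK0 ψ hψ a' b')⟩
  have hRW : szWm h ∈ (szEmb hK0 h ψ hψ).range :=
    ⟨szWm hK0, Subtype.ext (szEmb0_szWm hK0 h ψ)⟩
  have hRH : ∀ ν : Fˣ, (ν : F) ^ 2 ∈ B → szHsub h ν ∈ (szEmb hK0 h ψ hψ).range := by
    intro ν hν
    obtain ⟨y, hy⟩ := hrange _ hν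
    obtain ⟨ν', hν'⟩ := hK0.exists_sqrt y
    have e1 : ψ ν' = (ν : F) := by
      apply h.sq_inj
      rw [← map_pow, hν', hy]
    have hν'0 : ν' ≠ 0 := by
      rintro rfl
      rw [map_zero] at e1
      exact ν.ne_zero e1.symm
    refine ⟨szHsub hK0 (Units.mk0 ν' hν'0), ?_⟩
    apply Subtype.ext
    apply Subtype.ext
    show (szHmat (2 ^ (k + 1)) ν').map ψ = szHmat (2 ^ (m + 1)) (ν : F)
    rw [map_szH ψ hψ, e1]
  have hfix : ∀ g ∈ M, g • oInf F m = oInf F m → g ∈ (szEmb hK0 h ψ hψ).range := by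
    intro g hg hginf
    obtain ⟨a, b, ν, rfl⟩ := sz_stab_inf' h g hginf
    obtain ⟨h1, h2⟩ := hS.split a b ν hg
    obtain ⟨ha, hb⟩ := hS.T_mem B hB a b h1
    exact Subgroup.mul_mem _ (hRT a b ha hb) (hRH ν (hS.H_mem B hB ν h2))
  intro g hg
  by_cases hginf : g • oInf F m = oInf F m
  · exact hfix g hg hginf
  · rcases oPt_or_oInf (g • oInf F m) with hc | ⟨a, b, hab⟩
    · exact absurd hc hginf
    have hTab := hS.hreg g hg a b hab
    obtain ⟨ha, hb⟩ := hS.T_mem B hB a b hTab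
    have hg' : szWm h * (szTm h a b)⁻¹ * g ∈ M :=
      M.mul_mem (M.mul_mem hS.W_mem (M.inv_mem hTab)) hg
    have hg'inf : (szWm h * (szTm h a b)⁻¹ * g) • oInf F m = oInf F m := by
      rw [mul_smul, mul_smul, hab, inv_smul_eq_iff.mpr (szTm_smul_zero h a b).symm,
        szWm_smul_zero]
    have h3 := hfix _ hg' hg'inf
    have e : g = szTm h a b * (szWm h)⁻¹ * (szWm h * (szTm h a b)⁻¹ * g) := by group
    rw [e]
    exact Subgroup.mul_mem _ (Subgroup.mul_mem _ (hRT a b ha hb) (Subgroup.inv_mem _ hRW)) h3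

/-- the case of several central involutions -/
theorem sub_case_field (hm : 1 ≤ m) (hF : Fintype.card F = 2 ^ (2 * m + 1))
    (h : SzData F (2 ^ (m + 1))) (M : Subgroup ↥(Cfsg.Sz F m)) (hM : M ≠ ⊤)
    (hS : SubNorm h M) (hZ : 3 ≤ Nat.card ↥(M ⊓ szZsub h)) :
    ∃ (K : Type) (_ : Field K) (_ : Fintype K) (k : ℕ), 1 ≤ k ∧ k < m ∧
      Fintype.card K = 2 ^ (2 * k + 1) ∧ 2 * k + 1 ∣ 2 * m + 1 ∧
      ∃ S : Subgroup ↥(Cfsg.Sz F m), Nonempty (↥S ≃* ↥(Cfsg.Sz K k)) ∧ M ≤ S := by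
  classical
  obtain ⟨B, hB⟩ := hS.exists_subfield
  have hcardB := hS.card_B B hB
  haveI instB : Fintype ↥B := Fintype.ofFinite _
  have hpow : Fintype.card F = Fintype.card ↥B ^ Module.finrank ↥B F :=
    Module.card_eq_pow_finrank
  rw [hF, ← Nat.card_eq_fintype_card (α := ↥B)] at hpow
  obtain ⟨k, hk1, hkm, hZk, hdiv⟩ := pow_two_odd_root m (Nat.card ↥B) _
    (by rw [hcardB]; exact hZ) hpow
  have hklt : k < m := by
    rcases Nat.lt_or_ge k m with hlt | hge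
    · exact hlt
    · exfalso
      have hkeq : k = m := le_antisymm hkm hge
      apply hM
      apply hS.top_of_card B hB
      rw [hZk, hkeq, Nat.card_eq_fintype_card, hF]
  -- the small field
  haveI : Fact (Nat.Prime 2) := ⟨Nat.prime_two⟩
  letI instK : Fintype (GaloisField 2 (2 * k + 1)) := Fintype.ofFinite _
  have hK : Fintype.card (GaloisField 2 (2 * k + 1)) = 2 ^ (2 * k + 1) := by
    rw [← Nat.card_eq_fintype_card]
    exact GaloisField.card 2 (2 * k + 1) (by omega)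
  have hK0 := szData_of_card hk1 hK
  obtain ⟨ψ⟩ := exists_ringHom_of_dvd hF hK hdiv
  have hψ := th_compat (m := m) hK hdiv ψ
  have hrange : ∀ b ∈ B, ∃ y : GaloisField 2 (2 * k + 1), ψ y = b := by
    intro b hb
    rw [ringHom_range_iff ψ b, hK, ← hZk, Nat.card_eq_fintype_card]
    have h1 := FiniteField.pow_card (⟨b, hb⟩ : ↥B)
    exact congrArg Subtype.val h1
  exact ⟨GaloisField 2 (2 * k + 1), inferInstance, instK, k, hk1, hklt, hK, hdiv,
    (szEmb hK0 h ψ hψ).range, ⟨(MonoidHom.ofInjective (szEmb_injective hK0 h ψ hψ)).symm⟩,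
    hS.le_range B hB hK0 ψ hψ hrange⟩

end Sub4

end Cfsg.Agent.Lib.Helper37
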