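-- helper37: Suzuki groups, part 42: the subgroups of the Suzuki groups.
import Mathlib
import Cfsg.Prelude.Def_LieExceptional
import Cfsg.Agent.Lib.Helper37.SzSub3
import Cfsg.Agent.Lib.Helper37.SzSub4
import Cfsg.Agent.Lib.Helper37.SzMax

set_option autoImplicit false

namespace Cfsg.Agent.Lib.Helper37

section GenericGrp4

variable {G : Type*} [Group G]

theorem mem_map_conj (M : Subgroup G) (k x : G) :
    x ∈ M.map (MulAut.conj k).toMonoidHom ↔ k⁻¹ * x * k ∈ M := by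
  rw [Subgroup.mem_map]
  constructor
  · rintro ⟨y, hy, rfl⟩
    have e : k⁻¹ * ((MulAut.conj k).toMonoidHom y) * k = y := by
      show k⁻¹ * (k * y * k⁻¹) * k = y
      group
    rw [e]
    exact hy
  · intro hx
    refine ⟨k⁻¹ * x * k, hx, ?_⟩
    show k * (k⁻¹ * x * k) * k⁻¹ = x
    group

theorem conj_mem_map_conj (M : Subgroup G) (k x : G) (hx : x ∈ M) :
    k * x * k⁻¹ ∈ M.map (MulAut.conj k).toMonoidHom := by
  rw [mem_map_conj]
  have e : k⁻¹ * (k * x * k⁻¹) * k = x := by group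
  rw [e]
  exact hx

theorem map_conj_ne_top (M : Subgroup G) (k : G) (hM : M ≠ ⊤) :
    M.map (MulAut.conj k).toMonoidHom ≠ ⊤ := by
  intro hc
  apply hM
  rw [eq_top_iff]
  intro x _
  have h1 : k * x * k⁻¹ ∈ M.map (MulAut.conj k).toMonoidHom := by
    rw [hc]
    exact Subgroup.mem_top _
  rw [mem_map_conj] at h1
  have e : k⁻¹ * (k * x * k⁻¹) * k = x := by group
  rw [e] at h1
  exact h1

/-- transfer of a normalised cyclic subgroup along a conjugation -/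
theorem transfer_cyclic (M : Subgroup G) (k : G) (n : ℕ) (U' : Subgroup G)
    (hcyc : IsCyclic ↥U') (hcard : Nat.card ↥U' = n)
    (hle : M.map (MulAut.conj k).toMonoidHom ≤ Subgroup.normalizer (U' : Set G)) :
    ∃ U : Subgroup G, IsCyclic ↥U ∧ Nat.card ↥U = n ∧
      M ≤ Subgroup.normalizer (U : Set G) := by
  have hinj : Function.Injective (MulAut.conj k⁻¹).toMonoidHom := (MulAut.conj k⁻¹).injective
  refine ⟨U'.map (MulAut.conj k⁻¹).toMonoidHom,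
    (MulEquiv.isCyclic (U'.equivMapOfInjective _ hinj)).mp hcyc, ?_, ?_⟩
  · rw [← hcard]
    exact (Nat.card_congr (U'.equivMapOfInjective _ hinj).toEquiv).symm
  · intro g hg
    have h1 := hle (conj_mem_map_conj M k g hg)
    rw [Subgroup.mem_normalizer_iff] at h1
    apply Subgroup.mem_normalizer_iff.mpr
    intro w
    show w ∈ U'.map (MulAut.conj k⁻¹).toMonoidHom ↔
      g * w * g⁻¹ ∈ U'.map (MulAut.conj k⁻¹).toMonoidHom
    rw [mem_map_conj, mem_map_conj, inv_inv]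
    have h2 : k * w * k⁻¹ ∈ U' ↔ k * g * k⁻¹ * (k * w * k⁻¹) * (k * g * k⁻¹)⁻¹ ∈ U' :=
      h1 (k * w * k⁻¹)
    rw [h2]
    have e2 : k * g * k⁻¹ * (k * w * k⁻¹) * (k * g * k⁻¹)⁻¹ = k * (g * w * g⁻¹) * k⁻¹ := by
      group
    rw [e2]

/-- transfer of an overgroup with a given isomorphism type along a conjugation -/
theorem transfer_iso {H : Type*} [Group H] (M : Subgroup G) (k : G) (S' : Subgroup G)
    (e' : ↥S' ≃* H) (hle : M.map (MulAut.conj k).toMonoidHom ≤ S') :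
    ∃ S : Subgroup G, Nonempty (↥S ≃* H) ∧ M ≤ S := by
  have hinj : Function.Injective (MulAut.conj k⁻¹).toMonoidHom := (MulAut.conj k⁻¹).injective
  refine ⟨S'.map (MulAut.conj k⁻¹).toMonoidHom,
    ⟨(S'.equivMapOfInjective _ hinj).symm.trans e'⟩, ?_⟩
  intro g hg
  rw [mem_map_conj, inv_inv]
  exact hle (conj_mem_map_conj M k g hg)

end GenericGrp4

section Sub5

variable {F : Type*} [Field F] [Fintype F] {m : ℕ}

/-- the normalised case -/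
theorem sub_normalized (hm : 1 ≤ m) (hF : Fintype.card F = 2 ^ (2 * m + 1))
    (h : SzData F (2 ^ (m + 1))) (M : Subgroup ↥(Cfsg.Sz F m)) (hM : M ≠ ⊤)
    (hT : szTm h 0 1 ∈ M) (m₀ : ↥(Cfsg.Sz F m)) (hm₀ : m₀ ∈ M)
    (hm₀' : m₀ • oInf F m = oPt m 0 0) :
    (∃ U : Subgroup ↥(Cfsg.Sz F m), IsCyclic ↥U ∧ Nat.card ↥U ∈ ({2 ^ (2 * m + 1) - 1, 2 ^ (2 * m + 1) + 2 ^ (m + 1) + 1, 2 ^ (2 * m + 1) - 2 ^ (m + 1) + 1} : Set ℕ) ∧
      M ≤ Subgroup.normalizer (U : Set ↥(Cfsg.Sz F m))) ∨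
    (∃ (K : Type) (_ : Field K) (_ : Fintype K) (k : ℕ), 1 ≤ k ∧ k < m ∧ Fintype.card K = 2 ^ (2 * k + 1) ∧ 2 * k + 1 ∣ 2 * m + 1 ∧
      ∃ S : Subgroup ↥(Cfsg.Sz F m), Nonempty (↥S ≃* ↥(Cfsg.Sz K k)) ∧ M ≤ S) := by
  rcases sub_dichotomy h M hT m₀ hm₀ hm₀' with ⟨hZ, hLQ⟩ | ⟨hZ, hreg, hconj⟩
  · exact Or.inl (sub_case_one hm hF h M hT m₀ hm₀ hm₀' hZ hLQ)
  · exact Or.inr (sub_case_field hm hF h M hM ⟨hT, hreg, hconj, m₀, hm₀, hm₀'⟩ hZ)

theorem sub_transfer (M : Subgroup ↥(Cfsg.Sz F m)) (k : ↥(Cfsg.Sz F m))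
    (hres : (∃ U : Subgroup ↥(Cfsg.Sz F m), IsCyclic ↥U ∧ Nat.card ↥U ∈ ({2 ^ (2 * m + 1) - 1, 2 ^ (2 * m + 1) + 2 ^ (m + 1) + 1, 2 ^ (2 * m + 1) - 2 ^ (m + 1) + 1} : Set ℕ) ∧
      M.map (MulAut.conj k).toMonoidHom ≤ Subgroup.normalizer (U : Set ↥(Cfsg.Sz F m))) ∨
    (∃ (K : Type) (_ : Field K) (_ : Fintype K) (k' : ℕ), 1 ≤ k' ∧ k' < m ∧ Fintype.card K = 2 ^ (2 * k' + 1) ∧ 2 * k' + 1 ∣ 2 * m + 1 ∧
      ∃ S : Subgroup ↥(Cfsg.Sz F m), Nonempty (↥S ≃* ↥(Cfsg.Sz K k')) ∧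
        M.map (MulAut.conj k).toMonoidHom ≤ S)) :
    (∃ U : Subgroup ↥(Cfsg.Sz F m), IsCyclic ↥U ∧ Nat.card ↥U ∈ ({2 ^ (2 * m + 1) - 1, 2 ^ (2 * m + 1) + 2 ^ (m + 1) + 1, 2 ^ (2 * m + 1) - 2 ^ (m + 1) + 1} : Set ℕ) ∧
      M ≤ Subgroup.normalizer (U : Set ↥(Cfsg.Sz F m))) ∨
    (∃ (K : Type) (_ : Field K) (_ : Fintype K) (k' : ℕ), 1 ≤ k' ∧ k' < m ∧ Fintype.card K = 2 ^ (2 * k' + 1) ∧ 2 * k' + 1 ∣ 2 * m + 1 ∧
      ∃ S : Subgroup ↥(Cfsg.Sz F m), Nonempty (↥S ≃* ↥(Cfsg.Sz K k')) ∧ M ≤ S) := by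
  rcases hres with ⟨U', hcyc, hcard, hle⟩ | ⟨K, iF, iT, k', hk1, hkm, hK, hdiv, S', ⟨e'⟩, hle⟩
  · left
    obtain ⟨U, h1, h2, h3⟩ := transfer_cyclic M k _ U' hcyc rfl hle
    exact ⟨U, h1, by rw [h2]; exact hcard, h3⟩
  · right
    obtain ⟨S, h1, h2⟩ := transfer_iso M k S' e' hle
    exact ⟨K, iF, iT, k', hk1, hkm, hK, hdiv, S, h1, h2⟩

/-- the subgroups of the Suzuki groups -/
theorem sz_subgroups (hm : 1 ≤ m) (hF : Fintype.card F = 2 ^ (2 * m + 1))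
    (M : Subgroup ↥(Cfsg.Sz F m)) (hM : M ≠ ⊤) :
    (∃ P : Sylow 2 ↥(Cfsg.Sz F m), M ≤ Subgroup.normalizer ((P : Subgroup ↥(Cfsg.Sz F m)) : Set ↥(Cfsg.Sz F m))) ∨
    (∃ U : Subgroup ↥(Cfsg.Sz F m), IsCyclic ↥U ∧ Nat.card ↥U ∈ ({2 ^ (2 * m + 1) - 1, 2 ^ (2 * m + 1) + 2 ^ (m + 1) + 1, 2 ^ (2 * m + 1) - 2 ^ (m + 1) + 1} : Set ℕ) ∧
      M ≤ Subgroup.normalizer (U : Set ↥(Cfsg.Sz F m))) ∨
    (∃ (K : Type) (_ : Field K) (_ : Fintype K) (k : ℕ), 1 ≤ k ∧ k < m ∧ Fintype.card K = 2 ^ (2 * k + 1) ∧ 2 * k + 1 ∣ 2 * m + 1 ∧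
      ∃ S : Subgroup ↥(Cfsg.Sz F m), Nonempty (↥S ≃* ↥(Cfsg.Sz K k)) ∧ M ≤ S) := by
  have h := szData_of_card hm hF
  haveI : Fact (Nat.Prime 2) := ⟨Nat.prime_two⟩
  by_cases hodd : 2 ∣ Nat.card ↥M
  · -- an involution
    obtain ⟨x, hx⟩ := exists_prime_orderOf_dvd_card' 2 hodd
    obtain ⟨t, htdef⟩ : ∃ t : ↥(Cfsg.Sz F m), t = (x : ↥(Cfsg.Sz F m)) := ⟨_, rfl⟩
    have htM : t ∈ M := by
      rw [htdef]
      exact x.2
    have hto : orderOf t = 2 := by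
      rw [htdef, Subgroup.orderOf_coe]
      exact hx
    have htt : t * t = 1 := by
      have h0 := pow_orderOf_eq_one t
      rw [hto] at h0
      rw [← pow_two]
      exact h0
    have ht1 : t ≠ 1 := by
      intro hc
      rw [hc, orderOf_one] at hto
      omega
    obtain ⟨p, hp⟩ := sz_involution_fixes hF t htt
    by_cases hfix : ∀ g ∈ M, g • p = p
    · left
      obtain ⟨k₁, hk₁⟩ := sz_exists_smul_inf h p
      refine ⟨k₁ • szSyl hm hF, fun g hg => ?_⟩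
      have h1 : k₁⁻¹ * g * k₁ ∈ szB F m := by
        apply (mem_szB _).mpr
        rw [mul_smul, mul_smul, hk₁, hfix g hg, ← hk₁, inv_smul_smul]
      rw [← sz_normalizer_T h] at h1
      have h2 : (k₁⁻¹ * g * k₁) • szSyl hm hF = szSyl hm hF :=
        Sylow.smul_eq_iff_mem_normalizer.mpr h1
      apply Sylow.smul_eq_iff_mem_normalizer.mp
      have e : g • (k₁ • szSyl hm hF) = k₁ • ((k₁⁻¹ * g * k₁) • szSyl hm hF) := by
        rw [← mul_smul, ← mul_smul]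
        congr 1
        group
      rw [e, h2]
    · right
      have hex : ∃ g₁ ∈ M, g₁ • p ≠ p := by
        by_contra hc
        apply hfix
        intro g hg
        by_contra hne
        exact hc ⟨g, hg, hne⟩
      obtain ⟨g₁, hg₁, hg₁p⟩ := hex
      have h2t := h.sz_two_trans (m := m)
      rw [MulAction.is_two_pretransitive_iff] at h2t
      obtain ⟨k₂, hk₂p, hk₂q⟩ := h2t (a := p) (b := g₁ • p) (c := oInf F m)
        (d := oPt m (0 : F) 0) (fun hc => hg₁p hc.symm) (oPt_ne_oInf 0 0).symm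
      have ht₂ : (k₂ * t * k₂⁻¹) * (k₂ * t * k₂⁻¹) = 1 := by
        have e : (k₂ * t * k₂⁻¹) * (k₂ * t * k₂⁻¹) = k₂ * (t * t) * k₂⁻¹ := by group
        rw [e, htt]
        group
      have ht₂inf : (k₂ * t * k₂⁻¹) • oInf F m = oInf F m := by
        rw [mul_smul, mul_smul, ← hk₂p, inv_smul_smul, hp]
      obtain ⟨c, hc⟩ := sz_involution_inf h _ ht₂ ht₂inf
      have hc0 : c ≠ 0 := by
        rintro rfl
        rw [szTm_zero] at hc
        apply ht1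
        have e : t = k₂⁻¹ * (k₂ * t * k₂⁻¹) * k₂ := by group
        rw [e, hc]
        group
      obtain ⟨ρ, hρ⟩ := h.exists_unit_scale c⁻¹ (inv_ne_zero hc0)
      obtain ⟨k₃, hk₃⟩ : ∃ k₃, k₃ = szHsub h ρ * k₂ := ⟨_, rfl⟩
      have hT : szTm h 0 1 ∈ M.map (MulAut.conj k₃).toMonoidHom := by
        have e : szTm h 0 1 = k₃ * t * k₃⁻¹ := by
          rw [hk₃]
          have e1 : szHsub h ρ * k₂ * t * (szHsub h ρ * k₂)⁻¹ =
              szHsub h ρ * (k₂ * t * k₂⁻¹) * (szHsub h ρ)⁻¹ := by group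
          rw [e1, hc, szHsub_conj_szTm, mul_zero, hρ, inv_mul_cancel₀ hc0]
        rw [e]
        exact conj_mem_map_conj M k₃ t htM
      have hm₀ : k₃ * g₁ * k₃⁻¹ ∈ M.map (MulAut.conj k₃).toMonoidHom :=
        conj_mem_map_conj M k₃ g₁ hg₁
      have hm₀' : (k₃ * g₁ * k₃⁻¹) • oInf F m = oPt m (0 : F) 0 := by
        have e1 : k₃⁻¹ • oInf F m = p := by
          rw [inv_smul_eq_iff, hk₃, mul_smul, hk₂p, h.szHsub_smul_inf]
        rw [mul_smul, mul_smul, e1, hk₃, mul_smul, hk₂q, h.szHsub_smul_zero]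
      exact sub_transfer M k₃
        (sub_normalized hm hF h _ (map_conj_ne_top M k₃ hM) hT _ hm₀ hm₀')
  · -- odd order
    by_cases hbot : M = ⊥
    · left
      refine ⟨szSyl hm hF, ?_⟩
      rw [hbot]
      exact bot_le
    · right
      left
      obtain ⟨⟨x, hxM⟩, hx1⟩ := (Subgroup.ne_bot_iff_exists_ne_one).mp hbot
      have hx1' : x ≠ 1 := fun hc => hx1 (Subtype.ext hc)
      have hle := sz_odd_subgroup_le_cent hm hF M hodd x hxM hx1'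
      have hss : szSS x :=
        ⟨hx1', fun h2 => hodd (h2.trans (Subgroup.orderOf_dvd_natCard _ hxM))⟩
      exact ⟨Subgroup.centralizer {x}, (szSS_cent hm hF x hss).1, (szSS_cent hm hF x hss).2,
        hle.trans Subgroup.le_normalizer⟩

end Sub5

end Cfsg.Agent.Lib.Helper37
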