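-- helper37: Suzuki groups, part 44: tori, their normalisers, solvable subgroups, and the
-- criterion for two elements to generate a solvable subgroup when 2m+1 is prime.
import Mathlib
import Cfsg.Prelude.Def_LieExceptional
import Cfsg.Agent.Lib.Helper37.SzSol1
import Cfsg.Agent.Lib.Helper37.SzSub5

set_option autoImplicit false

namespace Cfsg.Agent.Lib.Helper37

section Arith2

/-- the three torus orders are pairwise coprime -/
theorem tori_orders_coprime (q s a b : ℕ) (hq2 : 2 ∣ q) (hs2 : 2 ∣ s) (hs : s * s = 2 * q)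
    (hs4 : 4 ≤ s) (hsq : 2 * s ≤ q)
    (ha : a ∈ ({q - 1, q + s + 1, q - s + 1} : Set ℕ))
    (hb : b ∈ ({q - 1, q + s + 1, q - s + 1} : Set ℕ)) (hab : a ≠ b) : Nat.Coprime a b := by
  obtain ⟨r, hr⟩ : ∃ r, r + 1 = q := ⟨q - 1, by omega⟩
  obtain ⟨c, hc⟩ : ∃ c, c + s = q + 1 := ⟨q + 1 - s, by omega⟩
  have e1 : q - 1 = r := by omega
  have e2 : q - s + 1 = c := by omega
  rw [e1, e2] at ha hb
  have hprod : (q + s + 1) * c = q ^ 2 + 1 := by
    have hcZ : (c : ℤ) = q + 1 - s := by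
      have : (c : ℤ) + s = q + 1 := by exact_mod_cast hc
      linarith
    have hsZ : (s : ℤ) * s = 2 * q := by exact_mod_cast hs
    have : (((q : ℤ) + s + 1) * c : ℤ) = (q : ℤ) ^ 2 + 1 := by
      rw [hcZ]
      linear_combination (-1 : ℤ) * hsZ
    exact_mod_cast this
  have hodd_r : ¬ 2 ∣ r := by
    obtain ⟨u, hu⟩ := hq2
    omega
  have hodd_c : ¬ 2 ∣ c := by
    obtain ⟨u, hu⟩ := hq2
    obtain ⟨v, hv⟩ := hs2
    omega
  have hcop1 : Nat.Coprime r (q ^ 2 + 1) := by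
    apply Nat.coprime_of_dvd
    intro p hp hp1 hp2
    have e : q ^ 2 + 1 = r * (r + 2) + 2 := by
      rw [← hr]
      ring
    rw [e] at hp2
    have h2 : p ∣ 2 := (Nat.dvd_add_right (Dvd.dvd.mul_right hp1 _)).mp hp2
    have h3 : p = 2 := (Nat.prime_dvd_prime_iff_eq hp Nat.prime_two).mp h2
    rw [h3] at hp1
    exact hodd_r hp1
  have hcop_r1 : Nat.Coprime r (q + s + 1) :=
    Nat.Coprime.coprime_dvd_right (Dvd.intro _ hprod) hcop1
  have hcop_r2 : Nat.Coprime r c :=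
    Nat.Coprime.coprime_dvd_right (Dvd.intro_left _ hprod) hcop1
  have hcop_12 : Nat.Coprime (q + s + 1) c := by
    have e : q + s + 1 = 2 * s + c := by omega
    rw [e, Nat.coprime_add_self_left]
    apply Nat.coprime_of_dvd
    intro p hp hp1 hp2
    have h2 : p ∣ 2 ∨ p ∣ s := (Nat.Prime.dvd_mul hp).mp hp1
    have h3 : p ∣ 2 * q := by
      rcases h2 with h2 | h2
      · exact Dvd.dvd.mul_right h2 q
      · rw [← hs]
        exact Dvd.dvd.mul_right h2 s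
    have h4 : p ∣ 2 := by
      rcases (Nat.Prime.dvd_mul hp).mp h3 with h5 | h5
      · exact h5
      · rcases h2 with h2 | h2
        · exact h2
        · have h6 : p ∣ c + s := Dvd.dvd.add hp2 h2
          rw [hc] at h6
          have h7 : p ∣ 1 := (Nat.dvd_add_right h5).mp h6
          exact Dvd.dvd.trans h7 (one_dvd 2)
    have h5 : p = 2 := (Nat.prime_dvd_prime_iff_eq hp Nat.prime_two).mp h4
    rw [h5] at hp2
    exact hodd_c hp2
  rcases ha with rfl | rfl | ha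
  · rcases hb with rfl | rfl | hb
    · exact absurd rfl hab
    · exact hcop_r1
    · rw [Set.mem_singleton_iff] at hb
      rw [hb]
      exact hcop_r2
  · rcases hb with rfl | rfl | hb
    · exact hcop_r1.symm
    · exact absurd rfl hab
    · rw [Set.mem_singleton_iff] at hb
      rw [hb]
      exact hcop_12
  · rw [Set.mem_singleton_iff] at ha
    rw [ha]
    rcases hb with rfl | rfl | hb
    · exact hcop_r2.symm
    · exact hcop_12.symm
    · rw [Set.mem_singleton_iff] at hb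
      rw [ha, hb] at hab
      exact absurd rfl hab

/-- two torus orders with a common divisor are equal -/
theorem tori_orders_common (q s a b d : ℕ) (hq2 : 2 ∣ q) (hs2 : 2 ∣ s) (hs : s * s = 2 * q)
    (hs4 : 4 ≤ s) (hsq : 2 * s ≤ q)
    (ha : a ∈ ({q - 1, q + s + 1, q - s + 1} : Set ℕ))
    (hb : b ∈ ({q - 1, q + s + 1, q - s + 1} : Set ℕ)) (hd : d ≠ 1) (hda : d ∣ a)
    (hdb : d ∣ b) : a = b := by
  by_contra hne
  have hcop := tori_orders_coprime q s a b hq2 hs2 hs hs4 hsq ha hb hne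
  have h1 : d ∣ Nat.gcd a b := Nat.dvd_gcd hda hdb
  rw [hcop] at h1
  exact hd (Nat.dvd_one.mp h1)

end Arith2

section GenericGrp5

variable {G : Type*} [Group G]

theorem cent_inv (u : G) :
    Subgroup.centralizer ({u⁻¹} : Set G) = Subgroup.centralizer ({u} : Set G) := by
  ext w
  rw [mem_cent_singleton, mem_cent_singleton]
  constructor
  · intro h
    calc u * w = u * (w * u⁻¹) * u := by group
      _ = u * (u⁻¹ * w) * u := by rw [h]
      _ = w * u := by group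
  · intro h
    calc u⁻¹ * w = u⁻¹ * (w * u) * u⁻¹ := by group
      _ = u⁻¹ * (u * w) * u⁻¹ := by rw [h]
      _ = w * u⁻¹ := by group

/-- an element inverting `u` normalises the centraliser of `u` -/
theorem normalizer_cent_of_inverts (u t : G) (hinv : t * u * t⁻¹ = u⁻¹) :
    t ∈ Subgroup.normalizer ((Subgroup.centralizer ({u} : Set G) : Subgroup G) : Set G) := by
  apply Subgroup.mem_normalizer_iff.mpr
  intro w
  have h1 := cent_conj_iff t u (t * w * t⁻¹)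
  rw [hinv, cent_inv] at h1
  rw [h1]
  have e : t⁻¹ * (t * w * t⁻¹) * t = w := by group
  rw [e]

end GenericGrp5

section Tor

variable {F : Type*} [Field F] [Fintype F] {m : ℕ}

/-- the normaliser of the torus of an element -/
abbrev szNT (a : ↥(Cfsg.Sz F m)) : Subgroup ↥(Cfsg.Sz F m) :=
  Subgroup.normalizer ((Subgroup.centralizer ({a} : Set ↥(Cfsg.Sz F m)) :
    Subgroup ↥(Cfsg.Sz F m)) : Set ↥(Cfsg.Sz F m))

theorem szSS_pow_four_mem (hm : 1 ≤ m) (hF : Fintype.card F = 2 ^ (2 * m + 1))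
    (u : ↥(Cfsg.Sz F m)) (hu : szSS u) (g : ↥(Cfsg.Sz F m)) (hg : g ∈ szNT u) :
    g ^ 4 ∈ Subgroup.centralizer ({u} : Set ↥(Cfsg.Sz F m)) := by
  haveI hnorm : ((Subgroup.centralizer ({u} : Set ↥(Cfsg.Sz F m))).subgroupOf (szNT u)).Normal :=
    Subgroup.normal_in_normalizer
  have h1 := Subgroup.pow_index_mem
    ((Subgroup.centralizer ({u} : Set ↥(Cfsg.Sz F m))).subgroupOf (szNT u))
    (⟨g, hg⟩ : ↥(szNT u))
  have hidx : ((Subgroup.centralizer ({u} : Set ↥(Cfsg.Sz F m))).subgroupOf (szNT u)).index *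
      Nat.card ↥(Subgroup.centralizer ({u} : Set ↥(Cfsg.Sz F m))) = Nat.card ↥(szNT u) :=
    relIndex_mul_card' _ _ Subgroup.le_normalizer
  have hCpos : 0 < Nat.card ↥(Subgroup.centralizer ({u} : Set ↥(Cfsg.Sz F m))) := Nat.card_pos
  rw [Subgroup.mem_subgroupOf] at h1
  have h1' : g ^ ((Subgroup.centralizer ({u} : Set ↥(Cfsg.Sz F m))).subgroupOf (szNT u)).index ∈
      Subgroup.centralizer ({u} : Set ↥(Cfsg.Sz F m)) := h1
  rcases szSS_normalizer hm hF u hu with ⟨-, h2⟩ | h4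
  · have hi : ((Subgroup.centralizer ({u} : Set ↥(Cfsg.Sz F m))).subgroupOf (szNT u)).index = 2 :=
      Nat.eq_of_mul_eq_mul_right hCpos (by rw [hidx, h2])
    rw [hi] at h1'
    have e : g ^ 4 = (g ^ 2) ^ 2 := by rw [← pow_mul]
    rw [e]
    exact Subgroup.pow_mem _ h1' 2
  · have hi : ((Subgroup.centralizer ({u} : Set ↥(Cfsg.Sz F m))).subgroupOf (szNT u)).index = 4 :=
      Nat.eq_of_mul_eq_mul_right hCpos (by rw [hidx, h4])
    rw [hi] at h1'
    exact h1'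

/-- elements of odd order in the normaliser of a torus lie in the torus -/
theorem szSS_norm_odd_mem (hm : 1 ≤ m) (hF : Fintype.card F = 2 ^ (2 * m + 1))
    (u : ↥(Cfsg.Sz F m)) (hu : szSS u) (y : ↥(Cfsg.Sz F m)) (hy : y ∈ szNT u)
    (hodd : ¬ 2 ∣ orderOf y) : y ∈ Subgroup.centralizer ({u} : Set ↥(Cfsg.Sz F m)) := by
  have h4 := szSS_pow_four_mem hm hF u hu y hy
  have hcop : Nat.Coprime 4 (orderOf y) := by
    have h2 : Nat.Coprime (2 ^ 2) (orderOf y) :=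
      Nat.Coprime.pow_left 2 ((Nat.Prime.coprime_iff_not_dvd Nat.prime_two).mpr hodd)
    exact h2
  obtain ⟨k, hk⟩ := exists_pow_eq_self_of_coprime hcop
  rw [← hk]
  exact Subgroup.pow_mem _ h4 k

/-- involutions in the normaliser of a torus invert the torus -/
theorem szSS_norm_inverts (hm : 1 ≤ m) (hF : Fintype.card F = 2 ^ (2 * m + 1))
    (u : ↥(Cfsg.Sz F m)) (hu : szSS u) (t : ↥(Cfsg.Sz F m)) (ht : t ∈ szNT u)
    (htt : t * t = 1) (ht1 : t ≠ 1) (a : ↥(Cfsg.Sz F m))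
    (ha : a ∈ Subgroup.centralizer ({u} : Set ↥(Cfsg.Sz F m))) : t * a * t⁻¹ = a⁻¹ := by
  haveI : Fact (Nat.Prime 2) := ⟨Nat.prime_two⟩
  have hcyc := (szSS_cent hm hF u hu).1
  have hta : t * a * t⁻¹ ∈ Subgroup.centralizer ({u} : Set ↥(Cfsg.Sz F m)) :=
    (Subgroup.mem_normalizer_iff.mp ht a).mp ha
  obtain ⟨b, hb⟩ : ∃ b, b = a * (t * a * t⁻¹) := ⟨_, rfl⟩
  have hbC : b ∈ Subgroup.centralizer ({u} : Set ↥(Cfsg.Sz F m)) := by
    rw [hb]
    exact Subgroup.mul_mem _ ha hta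
  have hcomm : a * (t * a * t⁻¹) = (t * a * t⁻¹) * a := cyc_sub_comm _ hcyc _ _ ha hta
  have e1 : t * b * t⁻¹ = (t * a * t⁻¹) * ((t * t) * a * (t * t)⁻¹) := by
    rw [hb]
    group
  rw [htt, one_mul, inv_one, mul_one, ← hcomm, ← hb] at e1
  have hb1 : b = 1 := by
    by_contra hb1
    have e2 : b * t = t * b := (mul_inv_eq_iff_eq_mul.mp e1).symm
    have htC : t ∈ Subgroup.centralizer ({b} : Set ↥(Cfsg.Sz F m)) :=
      (mem_cent_singleton b t).mpr e2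
    rw [szSS_cent_eq hm hF u b hu hbC hb1] at htC
    have hto : orderOf t = 2 := orderOf_eq_prime (by rw [pow_two]; exact htt) ht1
    apply szSS_cent_odd hm hF u hu
    rw [← hto]
    exact Subgroup.orderOf_dvd_natCard _ htC
  rw [hb] at hb1
  exact eq_inv_of_mul_eq_one_right hb1

theorem szNT_eq_of_mem (hm : 1 ≤ m) (hF : Fintype.card F = 2 ^ (2 * m + 1))
    (u a : ↥(Cfsg.Sz F m)) (hu : szSS u)
    (ha : a ∈ Subgroup.centralizer ({u} : Set ↥(Cfsg.Sz F m))) (ha1 : a ≠ 1) :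
    szNT a = szNT u := by
  have e := szSS_cent_eq hm hF u a hu ha ha1
  show Subgroup.normalizer ((Subgroup.centralizer ({a} : Set ↥(Cfsg.Sz F m)) :
    Subgroup ↥(Cfsg.Sz F m)) : Set ↥(Cfsg.Sz F m)) =
    Subgroup.normalizer ((Subgroup.centralizer ({u} : Set ↥(Cfsg.Sz F m)) :
    Subgroup ↥(Cfsg.Sz F m)) : Set ↥(Cfsg.Sz F m))
  rw [e]

/-- the centraliser of a split element -/
theorem split_cent (h : SzData F (2 ^ (m + 1))) (k : ↥(Cfsg.Sz F m)) (μ : Fˣ) (hμ : μ ≠ 1)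
    (g : ↥(Cfsg.Sz F m)) :
    g ∈ Subgroup.centralizer ({k * szHsub h μ * k⁻¹} : Set ↥(Cfsg.Sz F m)) ↔
      ∃ μ' : Fˣ, g = k * szHsub h μ' * k⁻¹ := by
  rw [cent_conj_iff, sz_cent_H h μ hμ, mem_szHgrp]
  constructor
  · rintro ⟨μ', hμ'⟩
    exact ⟨μ', by rw [← hμ']; group⟩
  · rintro ⟨μ', rfl⟩
    exact ⟨μ', by group⟩

/-- the normaliser of the torus of a split element -/
theorem split_norm (hm : 1 ≤ m) (hF : Fintype.card F = 2 ^ (2 * m + 1))
    (h : SzData F (2 ^ (m + 1))) (k : ↥(Cfsg.Sz F m)) (μ : Fˣ) (hμ : μ ≠ 1)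
    (g : ↥(Cfsg.Sz F m)) :
    g ∈ szNT (k * szHsub h μ * k⁻¹) ↔
      (∃ μ' : Fˣ, g = k * szHsub h μ' * k⁻¹) ∨
      (∃ μ' : Fˣ, g = k * (szHsub h μ' * szWm h) * k⁻¹) := by
  constructor
  · intro hg
    have h1 : k⁻¹ * g * k ∈ szNT (szHsub h μ) := by
      have h2 := normalizer_cent_conj_mem k⁻¹ (k * szHsub h μ * k⁻¹) g hg
      have e1 : k⁻¹ * (k * szHsub h μ * k⁻¹) * (k⁻¹)⁻¹ = szHsub h μ := by group
      rw [e1, inv_inv] at h2
      exact h2
    have h3 : k⁻¹ * g * k ∈ Subgroup.normalizer ((szHgrp h : Subgroup ↥(Cfsg.Sz F m)) :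
        Set ↥(Cfsg.Sz F m)) := by
      rw [← sz_cent_H h μ hμ]
      exact h1
    rcases (mem_normalizer_szHgrp hm hF _).mp h3 with ⟨μ', hμ'⟩ | ⟨μ', hμ'⟩
    · left
      exact ⟨μ', by rw [← hμ']; group⟩
    · right
      exact ⟨μ', by rw [← hμ']; group⟩
  · intro hg
    have h3 : ∀ g' : ↥(Cfsg.Sz F m),
        ((∃ μ' : Fˣ, g' = szHsub h μ') ∨ (∃ μ' : Fˣ, g' = szHsub h μ' * szWm h)) →
        k * g' * k⁻¹ ∈ szNT (k * szHsub h μ * k⁻¹) := by
      intro g' hg'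
      apply normalizer_cent_conj_mem k (szHsub h μ) g'
      rw [sz_cent_H h μ hμ]
      exact (mem_normalizer_szHgrp hm hF g').mpr hg'
    rcases hg with ⟨μ', rfl⟩ | ⟨μ', rfl⟩
    · exact h3 _ (Or.inl ⟨μ', rfl⟩)
    · exact h3 _ (Or.inr ⟨μ', rfl⟩)

theorem split_cent_card (hF : Fintype.card F = 2 ^ (2 * m + 1))
    (h : SzData F (2 ^ (m + 1))) (k : ↥(Cfsg.Sz F m)) (μ : Fˣ) (hμ : μ ≠ 1) :
    Nat.card ↥(Subgroup.centralizer ({k * szHsub h μ * k⁻¹} : Set ↥(Cfsg.Sz F m))) =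
      2 ^ (2 * m + 1) - 1 := by
  rw [card_cent_conj, sz_cent_H h μ hμ, card_szHgrp, hF]

theorem split_norm_card (hm : 1 ≤ m) (hF : Fintype.card F = 2 ^ (2 * m + 1))
    (h : SzData F (2 ^ (m + 1))) (k : ↥(Cfsg.Sz F m)) (μ : Fˣ) (hμ : μ ≠ 1) :
    Nat.card ↥(szNT (k * szHsub h μ * k⁻¹)) = 2 * (2 ^ (2 * m + 1) - 1) := by
  show Nat.card ↥(Subgroup.normalizer ((Subgroup.centralizer ({k * szHsub h μ * k⁻¹} :
    Set ↥(Cfsg.Sz F m)) : Subgroup ↥(Cfsg.Sz F m)) : Set ↥(Cfsg.Sz F m))) = _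
  rw [card_normalizer_cent_conj, sz_cent_H h μ hμ]
  exact card_normalizer_szHgrp hm hF

theorem szSS_split (hm : 1 ≤ m) (hF : Fintype.card F = 2 ^ (2 * m + 1))
    (h : SzData F (2 ^ (m + 1))) (k : ↥(Cfsg.Sz F m)) (μ : Fˣ) (hμ : μ ≠ 1) :
    szSS (k * szHsub h μ * k⁻¹) := by
  have h1 : k * szHsub h μ * k⁻¹ ≠ 1 := by
    intro hc
    apply hμ
    apply szHsub_inj h
    rw [szHsub_one]
    have e : szHsub h μ = k⁻¹ * (k * szHsub h μ * k⁻¹) * k := by group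
    rw [e, hc]
    group
  refine ⟨h1, fun h2 => ?_⟩
  have h3 := Subgroup.orderOf_dvd_natCard _ (self_mem_cent (k * szHsub h μ * k⁻¹))
  rw [split_cent_card hF h k μ hμ] at h3
  have h4 := h2.trans h3
  have h5 : 1 ≤ 2 ^ (2 * m + 1) := Nat.one_le_two_pow
  have h6 : 2 ∣ 2 ^ (2 * m + 1) := dvd_pow_self 2 (by omega)
  omega

/-- the normaliser of the torus of a fixed-point-free element -/
theorem szFpf_norm_card (hm : 1 ≤ m) (hF : Fintype.card F = 2 ^ (2 * m + 1))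
    (g : ↥(Cfsg.Sz F m)) (hg : szFpf g) :
    Nat.card ↥(szNT g) = 4 * Nat.card ↥(Subgroup.centralizer ({g} : Set ↥(Cfsg.Sz F m))) := by
  have hg1 := szFpf_ne_one g hg
  obtain ⟨x₁, x₂, hx₁, hx₂, hc1, hc2, hN1, hN2, hall⟩ := sz_tori hm hF
  have key : ∀ x : ↥(Cfsg.Sz F m), szFpf x →
      Nat.card ↥(Subgroup.normalizer ((Subgroup.centralizer ({x} : Set ↥(Cfsg.Sz F m)) :
        Subgroup ↥(Cfsg.Sz F m)) : Set ↥(Cfsg.Sz F m))) =
        4 * Nat.card ↥(Subgroup.centralizer ({x} : Set ↥(Cfsg.Sz F m))) →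
      g ∈ relConj ⊤ (Subgroup.centralizer ({x} : Set ↥(Cfsg.Sz F m))) →
      Nat.card ↥(Subgroup.normalizer ((Subgroup.centralizer ({g} : Set ↥(Cfsg.Sz F m)) :
        Subgroup ↥(Cfsg.Sz F m)) : Set ↥(Cfsg.Sz F m))) =
        4 * Nat.card ↥(Subgroup.centralizer ({g} : Set ↥(Cfsg.Sz F m))) := by
    rintro x hx hN ⟨-, k, -, hk⟩
    have hk1 : k⁻¹ * g * k ≠ 1 := by
      intro hc
      apply hg1
      have e : g = k * (k⁻¹ * g * k) * k⁻¹ := by group
      rw [e, hc]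
      group
    have e1 := szFpf_centralizer_eq hm hF x _ hx hk hk1
    have e2 := card_cent_conj k⁻¹ g
    have e3 := card_normalizer_cent_conj k⁻¹ g
    rw [inv_inv] at e2 e3
    rw [← e2, ← e3, e1]
    exact hN
  rcases hall g hg with h2 | h2
  · exact key x₁ hx₁ hN1 h2
  · exact key x₂ hx₂ hN2 h2

/-- the two types of semisimple elements -/
theorem szSS_type (hm : 1 ≤ m) (hF : Fintype.card F = 2 ^ (2 * m + 1))
    (h : SzData F (2 ^ (m + 1))) (a : ↥(Cfsg.Sz F m)) (ha : szSS a) :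
    (∃ (k : ↥(Cfsg.Sz F m)) (μ : Fˣ), μ ≠ 1 ∧ a = k * szHsub h μ * k⁻¹) ∨
    (szFpf a ∧
      Nat.card ↥(szNT a) = 4 * Nat.card ↥(Subgroup.centralizer ({a} : Set ↥(Cfsg.Sz F m)))) := by
  rcases sz_cover h a ha.1 with h1 | h1 | h1
  · exact absurd h1 (szSS_not_unip hm hF a ha)
  · left
    obtain ⟨k, μ, hμ, rfl⟩ := (relH_iff h a).mp h1
    exact ⟨k, μ, hμ, rfl⟩
  · right
    exact ⟨h1, szFpf_norm_card hm hF a h1⟩

/-- a cyclic subgroup of torus order is the centraliser of a semisimple element -/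
theorem torus_eq_cent (hm : 1 ≤ m) (hF : Fintype.card F = 2 ^ (2 * m + 1))
    (U : Subgroup ↥(Cfsg.Sz F m)) (hcyc : IsCyclic ↥U)
    (hcard : Nat.card ↥U ∈ ({2 ^ (2 * m + 1) - 1, 2 ^ (2 * m + 1) + 2 ^ (m + 1) + 1,
      2 ^ (2 * m + 1) - 2 ^ (m + 1) + 1} : Set ℕ)) :
    ∃ u : ↥(Cfsg.Sz F m), szSS u ∧ U = Subgroup.centralizer ({u} : Set ↥(Cfsg.Sz F m)) := by
  obtain ⟨hq2, hs2, hss, hs4, hsq⟩ := two_pow_facts m hm
  obtain ⟨g, hg⟩ := hcyc.exists_generator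
  have ho : orderOf (g : ↥(Cfsg.Sz F m)) = Nat.card ↥U := by
    rw [Subgroup.orderOf_coe]
    exact orderOf_eq_card_of_forall_mem_zpowers hg
  have hodd := tori_orders_odd _ _ _ hq2 hs2 (by omega) (by omega) hcard
  have hU1 : Nat.card ↥U ≠ 1 := by
    intro hc
    rw [hc] at hcard
    rcases hcard with h1 | h1 | h1
    · omega
    · omega
    · rw [Set.mem_singleton_iff] at h1
      omega
  have hu1 : (g : ↥(Cfsg.Sz F m)) ≠ 1 := by
    intro hc
    rw [hc, orderOf_one] at ho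
    exact hU1 ho.symm
  have hss' : szSS (g : ↥(Cfsg.Sz F m)) := ⟨hu1, by rw [ho]; exact hodd⟩
  refine ⟨(g : ↥(Cfsg.Sz F m)), hss', ?_⟩
  have hle : U ≤ Subgroup.centralizer ({(g : ↥(Cfsg.Sz F m))} : Set ↥(Cfsg.Sz F m)) := by
    intro w hw
    rw [mem_cent_singleton]
    exact cyc_sub_comm U hcyc _ _ g.2 hw
  have hdvd := Subgroup.card_dvd_of_le hle
  have heq := tori_orders_dvd _ _ _ _ hq2 hs2 hss hs4 hsq hcard (szSS_cent hm hF _ hss').2 hdvd
  exact Subgroup.eq_of_le_of_card_ge hle (le_of_eq heq.symm)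

end Tor

section Solvable

variable {F : Type*} [Field F] [Fintype F] {m : ℕ}

theorem szB_solvable (hm : 1 ≤ m) (hF : Fintype.card F = 2 ^ (2 * m + 1)) :
    Group.IsSolvable ↥(szB F m) := by
  have h := szData_of_card hm hF
  haveI : Fact (Nat.Prime 2) := ⟨Nat.prime_two⟩
  have hT : Group.IsSolvable ↥(szTsub h) := by
    haveI : Group.IsNilpotent ↥(szTsub h) := (szTsub_isPGroup hm hF).isNilpotent
    exact IsNilpotent.to_isSolvable
  have hTB : szTsub h ≤ szB F m := by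
    rintro g ⟨a, b, rfl⟩
    exact szTm_mem_szB h a b
  have key : ∀ (a₁ a₂ b₁ b₂ : F) (μ ν : Fˣ), ∃ c₁ c₂ : F,
      (szTm h a₁ a₂ * szHsub h μ) * (szTm h b₁ b₂ * szHsub h ν) =
        szTm h c₁ c₂ * szHsub h (μ * ν) := by
    intro a₁ a₂ b₁ b₂ μ ν
    refine ⟨a₁ + (μ : F) ^ 2 * b₁, a₂ + ((μ : F) ^ 2) ^ (2 ^ (m + 1) + 1) * b₂ +
      a₁ ^ 2 ^ (m + 1) * ((μ : F) ^ 2 * b₁), ?_⟩
    rw [mul_assoc, ← mul_assoc (szHsub h μ), szHsub_mul_szTm, mul_assoc, szHsub_mul,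
      ← mul_assoc, szTm_mul]
  apply sub_solvable_of_comm_quot (szB F m) (szTsub h) hTB
    (fun k hk n hn => szB_conj_T h k hk n hn) hT
  intro a ha b hb
  obtain ⟨a₁, a₂, μ, rfl⟩ := sz_stab_inf' h a ((mem_szB _).mp ha)
  obtain ⟨b₁, b₂, ν, rfl⟩ := sz_stab_inf' h b ((mem_szB _).mp hb)
  obtain ⟨c₁, c₂, e1⟩ := key a₁ a₂ b₁ b₂ μ ν
  obtain ⟨d₁, d₂, e2⟩ := key b₁ b₂ a₁ a₂ ν μ
  rw [e1, e2, mul_comm ν μ]
  have e3 : (szTm h c₁ c₂ * szHsub h (μ * ν))⁻¹ * (szTm h d₁ d₂ * szHsub h (μ * ν)) =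
      (szHsub h (μ * ν))⁻¹ * ((szTm h c₁ c₂)⁻¹ * szTm h d₁ d₂) *
        ((szHsub h (μ * ν))⁻¹)⁻¹ := by group
  rw [e3]
  exact szB_conj_T h _ ((szB F m).inv_mem (szHsub_mem_szB h _)) _
    ((szTsub h).mul_mem ((szTsub h).inv_mem (szTm_mem h _ _)) (szTm_mem h _ _))

/-- a subgroup fixing a point is solvable -/
theorem sz_solvable_of_fix (hm : 1 ≤ m) (hF : Fintype.card F = 2 ^ (2 * m + 1))
    (M : Subgroup ↥(Cfsg.Sz F m)) (p : ↥(Cfsg.suzukiOvoid F m))
    (hfix : ∀ g ∈ M, g • p = p) : Group.IsSolvable ↥M := by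
  have h := szData_of_card hm hF
  obtain ⟨k, hk⟩ := sz_exists_smul_inf h p
  apply solvable_of_conj_le M (szB F m) k (szB_solvable hm hF)
  intro g hg
  apply (mem_szB _).mpr
  rw [mul_smul, mul_smul, hk, hfix g hg, ← hk, inv_smul_smul]

/-- the normaliser of a torus is solvable -/
theorem szNT_solvable (hm : 1 ≤ m) (hF : Fintype.card F = 2 ^ (2 * m + 1))
    (u : ↥(Cfsg.Sz F m)) (hu : szSS u) : Group.IsSolvable ↥(szNT u) := by
  haveI : Fact (Nat.Prime 2) := ⟨Nat.prime_two⟩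
  have hcyc := (szSS_cent hm hF u hu).1
  have hC : Group.IsSolvable ↥(Subgroup.centralizer ({u} : Set ↥(Cfsg.Sz F m))) := by
    apply Group.isSolvable_of_comm
    intro a b
    exact Subtype.ext (cyc_sub_comm _ hcyc _ _ a.2 b.2)
  have hnorm : ∀ k ∈ szNT u, ∀ n ∈ Subgroup.centralizer ({u} : Set ↥(Cfsg.Sz F m)),
      k * n * k⁻¹ ∈ Subgroup.centralizer ({u} : Set ↥(Cfsg.Sz F m)) :=
    fun k hk n hn => (Subgroup.mem_normalizer_iff.mp hk n).mp hn
  rcases szSS_normalizer hm hF u hu with ⟨-, h2⟩ | h4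
  · exact sub_solvable_of_pgroup_quot (szNT u) _ Subgroup.le_normalizer hnorm hC 2 1
      (by rw [pow_one]; exact h2)
  · exact sub_solvable_of_pgroup_quot (szNT u) _ Subgroup.le_normalizer hnorm hC 2 2
      (by norm_num; exact h4)

theorem sz_not_solvable (hm : 1 ≤ m) (hF : Fintype.card F = 2 ^ (2 * m + 1)) :
    ¬ Group.IsSolvable ↥(Cfsg.Sz F m) := by
  have h := szData_of_card hm hF
  haveI := sz_simple hm hF
  intro hs
  have hcomm := (IsSimpleGroup.comm_iff_isSolvable (G := ↥(Cfsg.Sz F m))).mpr hs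
  have h1 := hcomm (szTm h 0 1) (szWm h)
  have h2 : szTm h 0 1 • (szWm h • oInf F m) = szWm h • (szTm h 0 1 • oInf F m) := by
    rw [← mul_smul, ← mul_smul, h1]
  rw [szWm_smul_inf, szTm_smul_inf, szWm_smul_inf, szTm_smul_zero] at h2
  exact one_ne_zero (oPt_inj h2).2

/-- two elements generate a solvable subgroup exactly when they fix a common point or
normalise a common torus (for `2m+1` prime) -/
theorem sz_solvable_iff (hm : 1 ≤ m) (hp : (2 * m + 1).Prime)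
    (hF : Fintype.card F = 2 ^ (2 * m + 1)) (x y : ↥(Cfsg.Sz F m)) :
    Group.IsSolvable ↥(Subgroup.closure ({x, y} : Set ↥(Cfsg.Sz F m))) ↔
      ((∃ p : ↥(Cfsg.suzukiOvoid F m), x • p = p ∧ y • p = p) ∨
       (∃ u : ↥(Cfsg.Sz F m), szSS u ∧ x ∈ szNT u ∧ y ∈ szNT u)) := by
  have h := szData_of_card hm hF
  constructor
  · intro hs
    have hM : Subgroup.closure ({x, y} : Set ↥(Cfsg.Sz F m)) ≠ ⊤ := by
      intro hc
      rw [hc] at hs
      exact sz_not_solvable hm hF (solvable_top_imp hs)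
    have hxy : x ∈ Subgroup.closure ({x, y} : Set ↥(Cfsg.Sz F m)) ∧
        y ∈ Subgroup.closure ({x, y} : Set ↥(Cfsg.Sz F m)) :=
      (closure_pair_le _ x y).mp le_rfl
    rcases sz_subgroups hm hF _ hM with ⟨P, hP⟩ | ⟨U, hcyc, hcard, hU⟩ |
      ⟨K, iF, iT, k, hk1, hkm, hK, hdiv, -⟩
    · left
      obtain ⟨k, rfl⟩ := sz_sylow_conj hm hF P
      have hfix : ∀ g ∈ Subgroup.closure ({x, y} : Set ↥(Cfsg.Sz F m)),
          g • (k • oInf F m) = k • oInf F m := by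
        intro g hg
        have h1 : g • (k • szSyl hm hF) = k • szSyl hm hF :=
          Sylow.smul_eq_iff_mem_normalizer.mpr (hP hg)
        have h2 : (k⁻¹ * g * k) • szSyl hm hF = szSyl hm hF := by
          rw [mul_smul, mul_smul, h1, inv_smul_smul]
        have h3 : k⁻¹ * g * k ∈ szB F m := by
          rw [← sz_normalizer_T h]
          exact Sylow.smul_eq_iff_mem_normalizer.mp h2
        have h4 := (mem_szB _).mp h3
        rw [mul_smul, mul_smul] at h4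
        have h5 := congrArg (fun q => k • q) h4
        simp only [smul_inv_smul] at h5
        exact h5
      exact ⟨k • oInf F m, hfix x hxy.1, hfix y hxy.2⟩
    · right
      obtain ⟨u, hu, rfl⟩ := torus_eq_cent hm hF U hcyc hcard
      exact ⟨u, hu, hU hxy.1, hU hxy.2⟩
    · exfalso
      rcases Nat.Prime.eq_one_or_self_of_dvd hp _ hdiv with h1 | h1
      · omega
      · omega
  · rintro (⟨p, hxp, hyp⟩ | ⟨u, hu, hxu, hyu⟩)
    · apply sz_solvable_of_fix hm hF _ p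
      have hle : Subgroup.closure ({x, y} : Set ↥(Cfsg.Sz F m)) ≤
          MulAction.stabilizer ↥(Cfsg.Sz F m) p :=
        (closure_pair_le _ x y).mpr ⟨MulAction.mem_stabilizer_iff.mpr hxp,
          MulAction.mem_stabilizer_iff.mpr hyp⟩
      intro g hg
      exact MulAction.mem_stabilizer_iff.mp (hle hg)
    · exact solvable_of_le _ (szNT u) (szNT_solvable hm hF u hu)
        ((closure_pair_le _ x y).mpr ⟨hxu, hyu⟩)

end Solvable

end Cfsg.Agent.Lib.Helper37
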