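-- helper37: Qd(p) inside alternating groups: characters of `qd p` into the units of the integers
-- are trivial (p odd), the affine action on p^2 points, and p-subgroups of Sym(n), n < p^2,
-- are commutative.
import Mathlib
import Cfsg.Prelude.Def_PLocal
import Cfsg.Prelude.Def_LocalEven
import Cfsg.Agent.Lib.Helper37.PJoin
import Cfsg.Agent.Lib.Helper37.QdFacts

set_option autoImplicit false

namespace Cfsg.Agent.Lib.Helper37

open Matrix

universe u v w

/-- A span `A → G` injective, `A → H` surjective shows `H` is involved in `G`. -/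
theorem involves_of_span' {H : Type u} [Group H] {G : Type v} [Group G] {A : Type w} [Group A]
    (i : A →* G) (hi : Function.Injective i) (f : A →* H) (hf : Function.Surjective f) :
    Cfsg.Involves H G := by
  let e : A ≃* i.range := MonoidHom.ofInjective hi
  let f' : i.range →* H := f.comp e.symm.toMonoidHom
  have hf' : Function.Surjective f' := hf.comp e.symm.surjective
  have hker : (f'.ker.map i.range.subtype).subgroupOf i.range = f'.ker :=
    Subgroup.comap_map_eq_self_of_injective (Subgroup.subtype_injective _) _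
  have hn : ((f'.ker.map i.range.subtype).subgroupOf i.range).Normal := by
    rw [hker]; infer_instance
  refine ⟨i.range, f'.ker.map i.range.subtype, hn, ⟨?_⟩⟩
  exact (QuotientGroup.quotientMulEquivOfEq hker).trans
    (QuotientGroup.quotientKerEquivOfSurjective f' hf')

/-- If all `p`-subgroups of the finite group `G` are commutative and `H` has a `p`-subgroup with two
non-commuting elements, then `H` is not involved in `G`. -/
theorem not_involves_of_comm' {p : ℕ} [Fact p.Prime] {H : Type*} {G : Type*} [Group H] [Group G]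
    [Finite G]
    (hG : ∀ P : Subgroup G, IsPGroup p P → ∀ a ∈ P, ∀ b ∈ P, a * b = b * a)
    (U : Subgroup H) (hU : IsPGroup p U) (x y : H) (hx : x ∈ U) (hy : y ∈ U)
    (hxy : x * y ≠ y * x) : ¬ Cfsg.Involves H G := by
  rintro ⟨K, R, hN, ⟨e⟩⟩
  let f : K →* H := e.toMonoidHom.comp (QuotientGroup.mk' (R.subgroupOf K))
  have hf : Function.Surjective f := e.surjective.comp (QuotientGroup.mk'_surjective _)
  let g : U.comap f →* U := f.subgroupComap U
  have hg : Function.Surjective g := f.subgroupComap_surjective_of_surjective U hf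
  obtain ⟨S⟩ : Nonempty (Sylow p (U.comap f)) := inferInstance
  have htop := sylow_map_eq_top_of_isPGroup g hg hU S
  have hS : ∀ a ∈ (S : Subgroup (U.comap f)), ∀ b ∈ (S : Subgroup (U.comap f)), a * b = b * a := by
    intro a ha b hb
    let ι : (U.comap f) →* G := K.subtype.comp (U.comap f).subtype
    have hι : Function.Injective ι :=
      (Subgroup.subtype_injective K).comp (Subgroup.subtype_injective _)
    have h := hG ((S : Subgroup _).map ι) (S.isPGroup'.map ι) (ι a) ⟨a, ha, rfl⟩ (ι b) ⟨b, hb, rfl⟩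
    apply hι
    simpa using h
  have hx' : (⟨x, hx⟩ : U) ∈ (S : Subgroup _).map g := by rw [htop]; trivial
  have hy' : (⟨y, hy⟩ : U) ∈ (S : Subgroup _).map g := by rw [htop]; trivial
  obtain ⟨a, ha, hax⟩ := hx'
  obtain ⟨b, hb, hby⟩ := hy'
  apply hxy
  have h := congrArg g (hS a ha b hb)
  rw [map_mul, map_mul, hax, hby] at h
  exact congrArg Subtype.val h

theorem units_int_eq_one_of_pow (p : ℕ) [Fact p.Prime] (hp : p ≠ 2) (u : ℤˣ) (h : u ^ p = 1) :
    u = 1 := by
  have hodd : Odd p := (Fact.out : p.Prime).odd_of_ne_two hp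
  obtain ⟨k, hk⟩ := hodd
  rw [hk, pow_succ, pow_mul, Int.units_sq, one_pow, one_mul] at h
  exact h

theorem pow_char_eq_one_of_cube_zero {R : Type*} [Ring R] (p : ℕ) [Fact p.Prime] [CharP R p]
    (hp : p ≠ 2) (x : R) (h : (x - 1) * (x - 1) * (x - 1) = 0) : x ^ p = 1 := by
  have h1 : (x - 1) ^ p = x ^ p - 1 ^ p := sub_pow_char_of_commute p (Commute.one_right x)
  have hp3 : 3 ≤ p := by
    have := (Fact.out : p.Prime).two_le
    omega
  have h2 : (x - 1) ^ p = 0 := by
    calc (x - 1) ^ p = (x - 1) ^ (3 + (p - 3)) := by congr 1; omega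
      _ = 0 := by rw [pow_add, pow_succ, pow_two, h, zero_mul]
  rw [h2, one_pow] at h1
  exact sub_eq_zero.mp h1.symm

section QdAlt
variable {p : ℕ} [Fact p.Prime]

/-- the matrix of an element of `qd p` -/
def qmat (x : ↥(Cfsg.qd p)) : Matrix (Fin 3) (Fin 3) (ZMod p) :=
  ((x : SpecialLinearGroup (Fin 3) (ZMod p)) : Matrix (Fin 3) (Fin 3) (ZMod p))

theorem qmat_mul (x y : ↥(Cfsg.qd p)) : qmat (x * y) = qmat x * qmat y := rfl

theorem qmat_one : qmat (1 : ↥(Cfsg.qd p)) = 1 := rfl

omit [Fact p.Prime] in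
theorem qmat_injective : Function.Injective (qmat (p := p)) :=
  fun _ _ h => Subtype.ext (Subtype.ext h)

theorem qmat_pow (x : ↥(Cfsg.qd p)) (k : ℕ) : qmat (x ^ k) = qmat x ^ k := by
  induction k with
  | zero => rw [pow_zero, pow_zero, qmat_one]
  | succ k ih => rw [pow_succ, pow_succ, qmat_mul, ih]

theorem qmat_20 (x : ↥(Cfsg.qd p)) : qmat x 2 0 = 0 := by
  have h := qd_entry x.1 x.2 0
  simp at h
  exact h

theorem qmat_21 (x : ↥(Cfsg.qd p)) : qmat x 2 1 = 0 := by
  have h := qd_entry x.1 x.2 1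
  simp at h
  exact h

theorem qmat_22 (x : ↥(Cfsg.qd p)) : qmat x 2 2 = 1 := by
  have h := qd_entry x.1 x.2 2
  simp at h
  exact h

theorem qmat_det (x : ↥(Cfsg.qd p)) : (qmat x).det = 1 := x.1.2

/-- general transvections in `qd p` -/
def tq (p : ℕ) [Fact p.Prime] (i j : Fin 3) (h : i ≠ j) (hi : i ≠ 2) (c : ZMod p) :
    ↥(Cfsg.qd p) :=
  ⟨⟨transvection i j c, det_transvection_of_ne i j h c⟩, by
    apply Subgroup.subset_closure
    refine ⟨?_, ?_, ?_⟩
    · show (transvection i j c) 2 0 = 0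
      rw [transvection, Matrix.add_apply, single_apply_of_row_ne hi]; simp
    · show (transvection i j c) 2 1 = 0
      rw [transvection, Matrix.add_apply, single_apply_of_row_ne hi]; simp
    · show (transvection i j c) 2 2 = 1
      rw [transvection, Matrix.add_apply, single_apply_of_row_ne hi]; simp⟩

theorem qmat_tq (i j : Fin 3) (h : i ≠ j) (hi : i ≠ 2) (c : ZMod p) :
    qmat (tq p i j h hi c) = transvection i j c := rfl

theorem tq_pow (i j : Fin 3) (h : i ≠ j) (hi : i ≠ 2) (c : ZMod p) : tq p i j h hi c ^ p = 1 := by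
  apply qmat_injective
  rw [qmat_pow, qmat_one, qmat_tq]
  apply pow_char_eq_one_of_sq_zero
  rw [transvection, add_sub_cancel_left, single_mul_single_of_ne (h := h.symm)]

theorem chi_of_pow (hp : p ≠ 2) (χ : ↥(Cfsg.qd p) →* ℤˣ) (x : ↥(Cfsg.qd p)) (hx : x ^ p = 1) :
    χ x = 1 := by
  apply units_int_eq_one_of_pow p hp
  rw [← map_pow, hx, map_one]

theorem chi_unitri (hp : p ≠ 2) (χ : ↥(Cfsg.qd p) →* ℤˣ) (x : ↥(Cfsg.qd p))
    (h00 : qmat x 0 0 = 1) (h10 : qmat x 1 0 = 0) : χ x = 1 := by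
  have e20 := qmat_20 x
  have e21 := qmat_21 x
  have e22 := qmat_22 x
  have hdet := qmat_det x
  rw [det_fin_three, h00, h10, e20, e21, e22] at hdet
  have h11 : qmat x 1 1 = 1 := by linear_combination hdet
  apply chi_of_pow hp χ
  apply qmat_injective
  rw [qmat_pow, qmat_one]
  apply pow_char_eq_one_of_cube_zero p hp
  set N : Matrix (Fin 3) (Fin 3) (ZMod p) := qmat x - 1 with hN
  have a00 : N 0 0 = 0 := by rw [hN, Matrix.sub_apply, h00, one_apply_eq, sub_self]
  have a10 : N 1 0 = 0 := by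
    rw [hN, Matrix.sub_apply, h10, one_apply_ne (by decide), sub_self]
  have a20 : N 2 0 = 0 := by
    rw [hN, Matrix.sub_apply, e20, one_apply_ne (by decide), sub_self]
  have a11 : N 1 1 = 0 := by rw [hN, Matrix.sub_apply, h11, one_apply_eq, sub_self]
  have a21 : N 2 1 = 0 := by
    rw [hN, Matrix.sub_apply, e21, one_apply_ne (by decide), sub_self]
  have a22 : N 2 2 = 0 := by rw [hN, Matrix.sub_apply, e22, one_apply_eq, sub_self]
  have n0 : ∀ i, N i 0 = 0 := by
    intro i; fin_cases i; exacts [a00, a10, a20]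
  have n2 : ∀ j, N 2 j = 0 := by
    intro j; fin_cases j; exacts [a20, a21, a22]
  have m0 : ∀ i, (N * N) i 0 = 0 := by
    intro i
    simp only [mul_apply, Fin.sum_univ_three, a00, a10, a20, mul_zero, add_zero]
  have m1 : ∀ i, (N * N) i 1 = 0 := by
    intro i
    simp only [mul_apply, Fin.sum_univ_three, n0 i, a11, a21, mul_zero, zero_mul, add_zero]
  ext i j
  rw [mul_apply, Fin.sum_univ_three, m0 i, m1 i, n2 j, zero_mul, zero_mul, mul_zero, add_zero,
    add_zero]
  rfl

theorem chi_tq (hp : p ≠ 2) (χ : ↥(Cfsg.qd p) →* ℤˣ) (i j : Fin 3) (h : i ≠ j) (hi : i ≠ 2)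
    (c : ZMod p) : χ (tq p i j h hi c) = 1 :=
  chi_of_pow hp χ _ (tq_pow i j h hi c)

theorem chi_col0_one (hp : p ≠ 2) (χ : ↥(Cfsg.qd p) →* ℤˣ) (x : ↥(Cfsg.qd p))
    (h00 : qmat x 0 0 = 1) : χ x = 1 := by
  have h := chi_unitri hp χ (tq p 1 0 (by decide) (by decide) (-(qmat x 1 0)) * x) ?_ ?_
  · rw [map_mul, chi_tq hp, one_mul] at h
    exact h
  · rw [qmat_mul, qmat_tq, transvection_mul_apply_of_ne (i := 1) (j := 0) 0 0 (by decide)]
    exact h00
  · rw [qmat_mul, qmat_tq, transvection_mul_apply_same, h00]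
    ring

theorem chi_row1_ne (hp : p ≠ 2) (χ : ↥(Cfsg.qd p) →* ℤˣ) (x : ↥(Cfsg.qd p))
    (h10 : qmat x 1 0 ≠ 0) : χ x = 1 := by
  have h := chi_col0_one hp χ
    (tq p 0 1 (by decide) (by decide) ((1 - qmat x 0 0) / qmat x 1 0) * x) ?_
  · rw [map_mul, chi_tq hp, one_mul] at h
    exact h
  · rw [qmat_mul, qmat_tq, transvection_mul_apply_same, div_mul_cancel₀ _ h10]
    ring

/-- for odd `p`, every homomorphism from `qd p` to the units of the integers is trivial -/
theorem chi_trivial (hp : p ≠ 2) (χ : ↥(Cfsg.qd p) →* ℤˣ) (x : ↥(Cfsg.qd p)) : χ x = 1 := by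
  by_cases h10 : qmat x 1 0 = 0
  · have h00 : qmat x 0 0 ≠ 0 := by
      intro h00
      have hdet := qmat_det x
      rw [det_fin_three, h00, h10, qmat_20 x] at hdet
      simp at hdet
    have h := chi_row1_ne hp χ (tq p 1 0 (by decide) (by decide) 1 * x) ?_
    · rw [map_mul, chi_tq hp, one_mul] at h
      exact h
    · rw [qmat_mul, qmat_tq, transvection_mul_apply_same, h10, zero_add, one_mul]
      exact h00
  · exact chi_row1_ne hp χ x h10

/-- the affine plane `{v | v 2 = 1}` -/
def AffPt (p : ℕ) : Type := {v : Fin 3 → ZMod p // v 2 = 1}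

theorem qmat_mulVec_two (x : ↥(Cfsg.qd p)) (v : Fin 3 → ZMod p) : (qmat x *ᵥ v) 2 = v 2 := by
  rw [mulVec, dotProduct, Fin.sum_univ_three, qmat_20, qmat_21, qmat_22]
  ring

instance affAction : MulAction ↥(Cfsg.qd p) (AffPt p) where
  smul x v := ⟨qmat x *ᵥ v.1, (qmat_mulVec_two x v.1).trans v.2⟩
  one_smul v := Subtype.ext (one_mulVec v.1)
  mul_smul x y v := Subtype.ext (mulVec_mulVec v.1 (qmat x) (qmat y)).symm

theorem aff_smul_val (x : ↥(Cfsg.qd p)) (v : AffPt p) : (x • v).1 = qmat x *ᵥ v.1 := rfl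

theorem aff_faithful (x : ↥(Cfsg.qd p)) (h : ∀ v : AffPt p, x • v = v) : x = 1 := by
  apply qmat_injective
  rw [qmat_one]
  have h2 : qmat x *ᵥ Pi.single 2 1 = Pi.single 2 1 :=
    congrArg Subtype.val (h ⟨Pi.single 2 1, Pi.single_eq_same 2 1⟩)
  have hj : ∀ j : Fin 3, qmat x *ᵥ Pi.single j 1 = Pi.single j 1 := by
    intro j
    by_cases hj2 : j = 2
    · subst hj2
      exact h2
    · have h3 : qmat x *ᵥ (Pi.single j 1 + Pi.single 2 1) = Pi.single j 1 + Pi.single 2 1 :=
        congrArg Subtype.val (h ⟨Pi.single j 1 + Pi.single 2 1, by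
          rw [Pi.add_apply, Pi.single_eq_same, Pi.single_eq_of_ne (Ne.symm hj2), zero_add]⟩)
      rw [mulVec_add, h2] at h3
      exact add_right_cancel h3
  ext i k
  have h4 := congrFun (hj k) i
  rw [mulVec_single_one] at h4
  have h5 : qmat x i k = (Pi.single k 1 : Fin 3 → ZMod p) i := h4
  rw [h5, Matrix.one_apply, Pi.single_apply]

instance affPt_finite : Finite (AffPt p) := by
  have : NeZero p := ⟨(Fact.out : p.Prime).ne_zero⟩
  unfold AffPt
  infer_instance

/-- the permutation representation of `qd p` on the affine plane -/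
def affHom (p : ℕ) [Fact p.Prime] : ↥(Cfsg.qd p) →* Equiv.Perm (AffPt p) :=
  MulAction.toPermHom _ _

theorem affHom_injective : Function.Injective (affHom p) := by
  rw [injective_iff_map_eq_one]
  intro x hx
  apply aff_faithful
  intro v
  exact congrArg (fun σ : Equiv.Perm (AffPt p) => σ v) hx

theorem card_affPt_le : Nat.card (AffPt p) ≤ p ^ 2 := by
  have : NeZero p := ⟨(Fact.out : p.Prime).ne_zero⟩
  have hinj : Function.Injective (fun (v : AffPt p) (i : Fin 2) => v.1 (Fin.castSucc i)) := by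
    intro v w h
    apply Subtype.ext
    funext i
    fin_cases i
    · exact congrFun h 0
    · exact congrFun h 1
    · exact v.2.trans w.2.symm
  have h1 := Nat.card_le_card_of_injective _ hinj
  have h2 : Nat.card (Fin 2 → ZMod p) = p ^ 2 := by
    rw [Nat.card_eq_fintype_card, Fintype.card_fun, ZMod.card, Fintype.card_fin]
  rw [h2] at h1
  exact h1

/-- for odd `p` and `n ≥ p²`, the alternating group of degree `n` has a subgroup `≃ qd p` -/
theorem exists_qd_in_alt (hp : p ≠ 2) (n : ℕ) (hn : p ^ 2 ≤ n) :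
    ∃ H : Subgroup (alternatingGroup (Fin n)), Nonempty (↥H ≃* ↥(Cfsg.qd p)) := by
  classical
  have : Fintype (AffPt p) := Fintype.ofFinite _
  have hcard : Fintype.card (AffPt p) ≤ Fintype.card (Fin n) := by
    rw [Fintype.card_fin, ← Nat.card_eq_fintype_card]
    exact card_affPt_le.trans hn
  obtain ⟨ι⟩ := Function.Embedding.nonempty_of_card_le hcard
  have hφ : Function.Injective ((Equiv.Perm.extendDomainHom
      (Equiv.ofInjective ι ι.injective)).comp (affHom p)) :=
    (Equiv.Perm.extendDomainHom_injective _).comp affHom_injective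
  have hsign : ∀ x, ((Equiv.Perm.extendDomainHom
      (Equiv.ofInjective ι ι.injective)).comp (affHom p)) x ∈ alternatingGroup (Fin n) := by
    intro x
    rw [Equiv.Perm.mem_alternatingGroup]
    exact chi_trivial hp (Equiv.Perm.sign.comp ((Equiv.Perm.extendDomainHom
      (Equiv.ofInjective ι ι.injective)).comp (affHom p))) x
  refine ⟨(MonoidHom.codRestrict _ (alternatingGroup (Fin n)) hsign).range, ⟨?_⟩⟩
  exact (MonoidHom.ofInjective ((MonoidHom.injective_codRestrict _ _ hsign).mpr hφ)).symm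

/-- `qd p` has a non-commutative `p`-subgroup -/
theorem qd_noncomm_pgroup :
    ∃ U : Subgroup ↥(Cfsg.qd p), IsPGroup p U ∧ ∃ x ∈ U, ∃ y ∈ U, x * y ≠ y * x := by
  have hA : IsPGroup p (Subgroup.zpowers (tq p 0 1 (by decide) (by decide) 1)) :=
    isPGroup_zpowers_of_pow_eq_one p _ (tq_pow 0 1 (by decide) (by decide) 1)
  refine ⟨Subgroup.zpowers (tq p 0 1 (by decide) (by decide) 1) ⊔ (qdBlock p).ker,
    hA.to_sup_of_normal_right qdBlock_ker_isPGroup, tq p 0 1 (by decide) (by decide) 1, ?_,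
    tq p 1 2 (by decide) (by decide) 1, ?_, ?_⟩
  · exact Subgroup.mem_sup_left (Subgroup.mem_zpowers _)
  · apply Subgroup.mem_sup_right
    rw [MonoidHom.mem_ker]
    ext i j
    rw [qdBlock_apply]
    show (transvection 1 2 (1 : ZMod p)) _ _ = _
    fin_cases i <;> fin_cases j <;> simp [transvection]
  · intro h
    have h1 := congrArg (fun x : ↥(Cfsg.qd p) => qmat x 0 2) h
    simp only [qmat_mul, qmat_tq] at h1
    rw [transvection_mul_apply_same,
      transvection_mul_apply_of_ne (i := 1) (j := 2) 0 2 (by decide)] at h1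
    simp [transvection] at h1

/-- `p`-subgroups of the symmetric group of degree `n < p²` are commutative -/
theorem perm_pgroup_comm {n : ℕ} (hn : n < p ^ 2) (P : Subgroup (Equiv.Perm (Fin n)))
    (hP : IsPGroup p P) (a b : Equiv.Perm (Fin n)) (ha : a ∈ P) (hb : b ∈ P) :
    a * b = b * a := by
  apply Equiv.ext
  intro x
  obtain ⟨j, hj⟩ := hP.card_orbit x
  have hp0 := (Fact.out : p.Prime).pos
  have hle : Nat.card (MulAction.orbit ↥P x) ≤ n := by
    have h1 := Nat.card_le_card_of_injective (Subtype.val : MulAction.orbit ↥P x → Fin n)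
      Subtype.val_injective
    simpa using h1
  have hj1 : j ≤ 1 := by
    by_contra hcon
    have h2 : p ^ 2 ≤ p ^ j := Nat.pow_le_pow_right hp0 (by omega)
    omega
  have hcardO : Nat.card (MulAction.orbit ↥P x) ≤ p := by
    rw [hj]
    calc p ^ j ≤ p ^ 1 := Nat.pow_le_pow_right hp0 hj1
      _ = p := pow_one p
  have hR : IsPGroup p (MulAction.toPermHom ↥P (MulAction.orbit ↥P x)).range :=
    hP.of_surjective (MonoidHom.rangeRestrict _) (MonoidHom.rangeRestrict_surjective _)
  obtain ⟨k, hk⟩ := IsPGroup.iff_card.mp hR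
  have hdvd : p ^ k ∣ p.factorial := by
    rw [← hk]
    calc Nat.card (MulAction.toPermHom ↥P (MulAction.orbit ↥P x)).range
        ∣ Nat.card (Equiv.Perm (MulAction.orbit ↥P x)) := Subgroup.card_subgroup_dvd_card _
      _ = (Nat.card (MulAction.orbit ↥P x)).factorial := Nat.card_perm
      _ ∣ p.factorial := Nat.factorial_dvd_factorial hcardO
  have hk1 : k ≤ 1 := by
    by_contra hcon
    have h2 : p ^ 2 ∣ p.factorial := dvd_trans (pow_dvd_pow p (by omega)) hdvd
    rw [← Nat.mul_factorial_pred hp0.ne', pow_two] at h2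
    have h3 : p ∣ (p - 1).factorial := (Nat.mul_dvd_mul_iff_left hp0).mp h2
    have h4 := (Fact.out : p.Prime).dvd_factorial.mp h3
    omega
  have hcyc : IsCyclic (MulAction.toPermHom ↥P (MulAction.orbit ↥P x)).range := by
    apply isCyclic_of_card_dvd_prime (p := p)
    rw [hk]
    calc p ^ k ∣ p ^ 1 := pow_dvd_pow p hk1
      _ = p := pow_one p
  have hcomm := (IsCyclic.isMulCommutative (α :=
      (MulAction.toPermHom ↥P (MulAction.orbit ↥P x)).range)).is_comm.comm
    ⟨MulAction.toPermHom ↥P (MulAction.orbit ↥P x) ⟨a, ha⟩, ⟨_, rfl⟩⟩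
    ⟨MulAction.toPermHom ↥P (MulAction.orbit ↥P x) ⟨b, hb⟩, ⟨_, rfl⟩⟩
  have h5 := congrArg (fun σ : (MulAction.toPermHom ↥P (MulAction.orbit ↥P x)).range =>
    (((σ : Equiv.Perm (MulAction.orbit ↥P x)) ⟨x, MulAction.mem_orbit_self x⟩ :
      MulAction.orbit ↥P x) : Fin n)) hcomm
  exact h5

end QdAlt

end Cfsg.Agent.Lib.Helper37
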