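import Mathlib
import Cfsg.Prelude.Def_Characters
import Cfsg.Prelude.Def_Blocks
import Cfsg.Agent.Lib.Helper80.CharOps
import Cfsg.Agent.Lib.Helper26.VChar
import Cfsg.Agent.Lib.Helper25.LinChar
import Cfsg.Agent.Lib.Helper79.Linear

/-!
# Inner products of induced class functions for subgroups with trivial intersections
-/

set_option autoImplicit false

namespace Cfsg.Agent.Lib.Helper37

open scoped ComplexConjugate

section IndInner

variable {G : Type*} [Group G] [Fintype G]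

/-- the inner product of two induced functions as a double sum -/
theorem classInner_ind_ind (A : Subgroup G) [Fintype A] (φ φ' : A → ℂ) :
    Cfsg.classInner (Cfsg.indFun A φ) (Cfsg.indFun A φ') =
      ((Nat.card A : ℂ)⁻¹) ^ 2 *
        ∑ x : G, ∑ a : A, φ a * conj (Cfsg.extendByZero A φ' (x⁻¹ * (a : G) * x)) := by
  rw [Cfsg.Agent.Lib.Helper80.frobenius_reciprocity A φ _
    (Cfsg.Agent.Lib.Helper80.isClassFunction_indFun A φ')]
  unfold Cfsg.classInner Cfsg.indFun
  rw [Finset.sum_comm, pow_two, mul_assoc]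
  congr 1
  rw [Finset.mul_sum]
  apply Finset.sum_congr rfl
  intro a _
  rw [map_mul, map_inv₀, Complex.conj_natCast, map_sum, Finset.mul_sum, Finset.mul_sum,
    Finset.mul_sum]
  apply Finset.sum_congr rfl
  intro x _
  ring

/-- splitting a sum over the group along a subgroup off which the summand is constant -/
theorem sum_split_subgroup (N : Subgroup G) [Fintype N] (f : G → ℂ) (c : ℂ)
    (hf : ∀ x : G, x ∉ N → f x = c) :
    ∑ x : G, f x = ∑ x : N, f x + ((Nat.card G : ℂ) - (Nat.card N : ℂ)) * c := by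
  classical
  have h1 : ∑ x : G, (f x - c) = ∑ x : N, (f (x : G) - c) := by
    rw [← Finset.sum_subtype (Finset.univ.filter (fun x : G => x ∈ N)) (by simp)
      (fun x => f x - c)]
    rw [Finset.sum_filter]
    apply Finset.sum_congr rfl
    intro x _
    split_ifs with hx
    · rfl
    · rw [hf x hx, sub_self]
  rw [Finset.sum_sub_distrib, Finset.sum_sub_distrib] at h1
  simp only [Finset.sum_const, Finset.card_univ, nsmul_eq_mul] at h1
  rw [Nat.card_eq_fintype_card, Nat.card_eq_fintype_card]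
  linear_combination h1

/-- the inner product of two induced functions, for a subgroup meeting its conjugates
outside `N` trivially -/
theorem classInner_ind_ind_TI (A N : Subgroup G) [Fintype A] [Fintype N]
    (hTI : ∀ x : G, x ∉ N → ∀ a : G, a ∈ A → a ≠ 1 → x⁻¹ * a * x ∉ A) (φ φ' : A → ℂ) :
    Cfsg.classInner (Cfsg.indFun A φ) (Cfsg.indFun A φ') =
      ((Nat.card A : ℂ)⁻¹) ^ 2 *
        (∑ x : N, ∑ a : A, φ a * conj (Cfsg.extendByZero A φ' ((x : G)⁻¹ * (a : G) * x)) +
          ((Nat.card G : ℂ) - (Nat.card N : ℂ)) * (φ 1 * conj (φ' 1))) := by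
  rw [classInner_ind_ind]
  congr 1
  apply sum_split_subgroup N
    (fun x => ∑ a : A, φ a * conj (Cfsg.extendByZero A φ' (x⁻¹ * (a : G) * x)))
  intro x hx
  rw [Finset.sum_eq_single (1 : A)]
  · have h1 : x⁻¹ * ((1 : A) : G) * x = ((1 : A) : G) := by
      rw [Subgroup.coe_one, mul_one, inv_mul_cancel]
    rw [h1, Cfsg.Agent.Lib.Helper80.extendByZero_apply_mem]
  · intro a _ ha
    have ha1 : (a : G) ≠ 1 := fun hc => ha (Subtype.ext hc)
    rw [Cfsg.Agent.Lib.Helper80.extendByZero_apply_not_mem A φ' (hTI x hx a a.2 ha1), map_zero,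
      mul_zero]
  · intro hc
    exact absurd (Finset.mem_univ _) hc

/-- the inner product of an induced function with a class function vanishing on the
nonidentity elements of the subgroup -/
theorem classInner_ind_vanish (A : Subgroup G) [Fintype A] (φ : A → ℂ) (Ψ : G → ℂ)
    (hΨ : Cfsg.IsClassFunction G Ψ) (hv : ∀ a : G, a ∈ A → a ≠ 1 → Ψ a = 0) :
    Cfsg.classInner (Cfsg.indFun A φ) Ψ = (Nat.card A : ℂ)⁻¹ * (φ 1 * conj (Ψ 1)) := by
  rw [Cfsg.Agent.Lib.Helper80.frobenius_reciprocity A φ Ψ hΨ]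
  unfold Cfsg.classInner
  congr 1
  rw [Finset.sum_eq_single (1 : A)]
  · show φ 1 * conj (Ψ ((1 : A) : G)) = _
    rw [Subgroup.coe_one]
  · intro a _ ha
    have ha1 : (a : G) ≠ 1 := fun hc => ha (Subtype.ext hc)
    show φ a * conj (Ψ (a : G)) = 0
    rw [hv a a.2 ha1, map_zero, mul_zero]
  · intro hc
    exact absurd (Finset.mem_univ _) hc

/-- a generalized character of norm one with positive degree is irreducible -/
theorem irr_of_norm_one {θ : G → ℂ} (hθ : Cfsg.IsGeneralizedCharacter G θ)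
    (h1 : Cfsg.classInner θ θ = 1) (d : ℕ) (hd : θ 1 = (d : ℂ)) (hd0 : 0 < d) :
    Cfsg.IsIrrCharacter G θ := by
  haveI : Fintype (Cfsg.IrrCharacter G) := Fintype.ofFinite _
  rcases Cfsg.Agent.Lib.Helper26.irr_or_neg_of_norm_one hθ h1 with h | h
  · exact h
  · exfalso
    obtain ⟨n, hn, hn1⟩ := Cfsg.Agent.Lib.Helper26.irr_degree h
    rw [Pi.neg_apply, hd] at hn1
    have h2 : ((d + n : ℕ) : ℂ) = 0 := by
      push_cast
      linear_combination -hn1
    have h3 : d + n = 0 := by exact_mod_cast h2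
    omega

end IndInner

section SelfCent

variable {G : Type*} [Group G]

/-- conjugation by an element of a subgroup `N` stabilising `A`, as an endomorphism of `A` -/
def conjN (A N : Subgroup G) (hN : ∀ x ∈ N, ∀ a ∈ A, x⁻¹ * a * x ∈ A) (x : N) : A →* A where
  toFun a := ⟨(x : G)⁻¹ * a * x, hN x x.2 a a.2⟩
  map_one' := by
    apply Subtype.ext
    simp
  map_mul' a b := by
    apply Subtype.ext
    simp [mul_assoc]

theorem conjN_coe (A N : Subgroup G) (hN : ∀ x ∈ N, ∀ a ∈ A, x⁻¹ * a * x ∈ A) (x : N) (a : A) :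
    ((conjN A N hN x a : A) : G) = (x : G)⁻¹ * a * x := rfl

theorem conjN_surjective (A N : Subgroup G) (hN : ∀ x ∈ N, ∀ a ∈ A, x⁻¹ * a * x ∈ A) (x : N) :
    Function.Surjective (conjN A N hN x) := by
  intro a
  have h1 : (x : G) * a * (x : G)⁻¹ ∈ A := by
    have := hN (x : G)⁻¹ (inv_mem x.2) a a.2
    rwa [inv_inv] at this
  refine ⟨⟨_, h1⟩, ?_⟩
  apply Subtype.ext
  rw [conjN_coe]
  simp [mul_assoc]

/-- a nontrivial linear character of a self-centralising abelian subgroup is fixed exactly by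
the elements of the subgroup -/
theorem conjN_fix_iff (A N : Subgroup G) [Finite A]
    (hN : ∀ x ∈ N, ∀ a ∈ A, x⁻¹ * a * x ∈ A)
    (hcomm : ∀ a ∈ A, ∀ b ∈ A, a * b = b * a)
    (hcent : ∀ a ∈ A, a ≠ 1 → ∀ x : G, x * a = a * x → x ∈ A)
    (l : A →* ℂˣ) (hl : l ≠ 1) (x : N) :
    l = l.comp (conjN A N hN x) ↔ (x : G) ∈ A := by
  constructor
  · intro h
    by_contra hx
    apply hl
    have hinj : Function.Injective (fun a : A => a⁻¹ * conjN A N hN x a) := by
      intro a b hab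
      have h1 : ((a⁻¹ * conjN A N hN x a : A) : G) = ((b⁻¹ * conjN A N hN x b : A) : G) :=
        congrArg Subtype.val hab
      rw [Subgroup.coe_mul, Subgroup.coe_mul, conjN_coe, conjN_coe, Subgroup.coe_inv,
        Subgroup.coe_inv] at h1
      have h2 : (x : G) * ((b : G) * (a : G)⁻¹) = ((b : G) * (a : G)⁻¹) * (x : G) := by
        have h3 : (b : G) * (a : G)⁻¹ = (x : G)⁻¹ * ((b : G) * (a : G)⁻¹) * (x : G) := by
          have h4 : (b : G) * ((a : G)⁻¹ * ((x : G)⁻¹ * a * x)) * ((x : G)⁻¹ * a * x)⁻¹ =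
              (b : G) * ((b : G)⁻¹ * ((x : G)⁻¹ * b * x)) * ((x : G)⁻¹ * a * x)⁻¹ := by
            rw [h1]
          have h5 : (b : G) * ((a : G)⁻¹ * ((x : G)⁻¹ * a * x)) * ((x : G)⁻¹ * a * x)⁻¹ =
              (b : G) * (a : G)⁻¹ := by group
          have h6 : (b : G) * ((b : G)⁻¹ * ((x : G)⁻¹ * b * x)) * ((x : G)⁻¹ * a * x)⁻¹ =
              (x : G)⁻¹ * ((b : G) * (a : G)⁻¹) * (x : G) := by group
          exact h5.symm.trans (h4.trans h6)
        calc (x : G) * ((b : G) * (a : G)⁻¹)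
            = (x : G) * ((x : G)⁻¹ * ((b : G) * (a : G)⁻¹) * (x : G)) := by rw [← h3]
          _ = ((b : G) * (a : G)⁻¹) * (x : G) := by group
      by_contra hne
      have hc1 : (b : G) * (a : G)⁻¹ ≠ 1 := by
        intro hc
        apply hne
        apply Subtype.ext
        have := mul_inv_eq_one.mp hc
        exact this.symm
      exact hx (hcent _ (mul_mem b.2 (inv_mem a.2)) hc1 x h2)
    have hsurj : Function.Surjective (fun a : A => a⁻¹ * conjN A N hN x a) :=
      Finite.injective_iff_surjective.mp hinj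
    apply MonoidHom.ext
    intro a
    obtain ⟨b, rfl⟩ := hsurj a
    have h1 : l (conjN A N hN x b) = l b := by
      have := DFunLike.congr_fun h b
      rw [MonoidHom.comp_apply] at this
      exact this.symm
    show l (b⁻¹ * conjN A N hN x b) = 1
    rw [map_mul, map_inv, h1, inv_mul_cancel]
  · intro hx
    apply MonoidHom.ext
    intro a
    rw [MonoidHom.comp_apply]
    congr 1
    apply Subtype.ext
    rw [conjN_coe]
    have h1 := hcomm (x : G) hx a a.2
    calc (a : G) = (x : G)⁻¹ * ((x : G) * (a : G)) := by group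
      _ = (x : G)⁻¹ * (a : G) * (x : G) := by rw [h1, mul_assoc]

/-- the number of linear characters of an abelian subgroup -/
theorem card_hom_of_comm (A : Subgroup G) [Finite A] (hcomm : ∀ a ∈ A, ∀ b ∈ A, a * b = b * a) :
    Nat.card (A →* ℂˣ) = Nat.card A := by
  rw [Cfsg.Agent.Lib.Helper79.card_monoidHom_units]
  have h1 : commutator A = ⊥ := by
    rw [commutator_eq_bot_iff_center_eq_top]
    ext a
    simp only [Subgroup.mem_top, iff_true]
    rw [Subgroup.mem_center_iff]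
    intro b
    apply Subtype.ext
    exact hcomm b b.2 a a.2
  rw [h1, Subgroup.index_bot]

variable [Fintype G]

open Classical in
/-- the double sum for two linear characters of a subgroup normalised by `N` -/
theorem sum_linChar_conjN (A N : Subgroup G) [Fintype A] [Fintype N]
    (hN : ∀ x ∈ N, ∀ a ∈ A, x⁻¹ * a * x ∈ A) (l₁ l₂ : A →* ℂˣ) :
    ∑ x : N, ∑ a : A, (l₁ a : ℂ) *
        conj (Cfsg.extendByZero A (fun a => (l₂ a : ℂ)) ((x : G)⁻¹ * (a : G) * x)) =
      (Nat.card A : ℂ) *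
        ((Finset.univ.filter (fun x : N => l₁ = l₂.comp (conjN A N hN x))).card : ℂ) := by
  have h1 : ∀ x : N, ∑ a : A, (l₁ a : ℂ) *
        conj (Cfsg.extendByZero A (fun a => (l₂ a : ℂ)) ((x : G)⁻¹ * (a : G) * x)) =
      if l₁ = l₂.comp (conjN A N hN x) then (Nat.card A : ℂ) else 0 := by
    intro x
    have h2 := Cfsg.Agent.Lib.Helper25.sum_linChar_mul_conj l₁ (l₂.comp (conjN A N hN x))
    have h3 : ∑ a : A, (l₁ a : ℂ) *
        conj (Cfsg.extendByZero A (fun a => (l₂ a : ℂ)) ((x : G)⁻¹ * (a : G) * x)) =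
        ∑ a : A, (l₁ a : ℂ) * conj ((l₂.comp (conjN A N hN x)) a : ℂ) := by
      apply Finset.sum_congr rfl
      intro a _
      have h4 : (x : G)⁻¹ * (a : G) * x = ((conjN A N hN x a : A) : G) := rfl
      rw [h4, Cfsg.Agent.Lib.Helper80.extendByZero_apply_mem]
      rfl
    rw [h3, h2, Nat.card_eq_fintype_card]
  simp_rw [h1]
  rw [Finset.sum_ite, Finset.sum_const_zero, add_zero, Finset.sum_const, nsmul_eq_mul, mul_comm]

open Classical in
/-- the inner product of the functions induced from two linear characters -/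
theorem classInner_ind_linChar (A N : Subgroup G) [Fintype A] [Fintype N]
    (hN : ∀ x ∈ N, ∀ a ∈ A, x⁻¹ * a * x ∈ A)
    (hTI : ∀ x : G, x ∉ N → ∀ a : G, a ∈ A → a ≠ 1 → x⁻¹ * a * x ∉ A) (l₁ l₂ : A →* ℂˣ) :
    Cfsg.classInner (Cfsg.indFun A (fun a => (l₁ a : ℂ))) (Cfsg.indFun A (fun a => (l₂ a : ℂ))) =
      ((Nat.card A : ℂ)⁻¹) ^ 2 * ((Nat.card A : ℂ) *
        ((Finset.univ.filter (fun x : N => l₁ = l₂.comp (conjN A N hN x))).card : ℂ) +
          ((Nat.card G : ℂ) - (Nat.card N : ℂ))) := by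
  rw [classInner_ind_ind_TI A N hTI, sum_linChar_conjN A N hN]
  simp only [map_one, Units.val_one, mul_one]

open Classical in
/-- the stabiliser count -/
theorem card_conjN_fix (A N : Subgroup G) [Fintype A] [Fintype N] (hAN : A ≤ N)
    (hN : ∀ x ∈ N, ∀ a ∈ A, x⁻¹ * a * x ∈ A)
    (hcomm : ∀ a ∈ A, ∀ b ∈ A, a * b = b * a)
    (hcent : ∀ a ∈ A, a ≠ 1 → ∀ x : G, x * a = a * x → x ∈ A)
    (l : A →* ℂˣ) (hl : l ≠ 1) :
    (Finset.univ.filter (fun x : N => l = l.comp (conjN A N hN x))).card = Nat.card A := by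
  have h1 : Finset.univ.filter (fun x : N => l = l.comp (conjN A N hN x)) =
      Finset.univ.image (fun a : A => (⟨a, hAN a.2⟩ : N)) := by
    ext x
    simp only [Finset.mem_filter, Finset.mem_univ, true_and, Finset.mem_image]
    rw [conjN_fix_iff A N hN hcomm hcent l hl x]
    constructor
    · intro hx
      exact ⟨⟨x, hx⟩, rfl⟩
    · rintro ⟨a, rfl⟩
      exact a.2
  have hinj : Function.Injective (fun a : A => (⟨a, hAN a.2⟩ : N)) :=
    fun a b hab => Subtype.ext (congrArg (fun y : N => (y : G)) hab)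
  rw [h1, Finset.card_image_of_injective _ hinj, Finset.card_univ, Nat.card_eq_fintype_card]

/-- the norm of the function induced from a nontrivial linear character -/
theorem classInner_ind_linChar_self (A N : Subgroup G) [Fintype A] [Fintype N] (hAN : A ≤ N)
    (hN : ∀ x ∈ N, ∀ a ∈ A, x⁻¹ * a * x ∈ A)
    (hTI : ∀ x : G, x ∉ N → ∀ a : G, a ∈ A → a ≠ 1 → x⁻¹ * a * x ∉ A)
    (hcomm : ∀ a ∈ A, ∀ b ∈ A, a * b = b * a)
    (hcent : ∀ a ∈ A, a ≠ 1 → ∀ x : G, x * a = a * x → x ∈ A)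
    (l : A →* ℂˣ) (hl : l ≠ 1) :
    Cfsg.classInner (Cfsg.indFun A (fun a => (l a : ℂ))) (Cfsg.indFun A (fun a => (l a : ℂ))) =
      ((Nat.card A : ℂ)⁻¹) ^ 2 * ((Nat.card A : ℂ) * (Nat.card A : ℂ) +
          ((Nat.card G : ℂ) - (Nat.card N : ℂ))) := by
  rw [classInner_ind_linChar A N hN hTI, card_conjN_fix A N hAN hN hcomm hcent l hl]

/-- the fibres of induction on nontrivial linear characters are small -/
theorem ind_fibre_card_le (A N : Subgroup G) [Fintype A] [Fintype N] (hAN : A ≤ N)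
    (hN : ∀ x ∈ N, ∀ a ∈ A, x⁻¹ * a * x ∈ A)
    (hTI : ∀ x : G, x ∉ N → ∀ a : G, a ∈ A → a ≠ 1 → x⁻¹ * a * x ∉ A)
    (hcomm : ∀ a ∈ A, ∀ b ∈ A, a * b = b * a)
    (hcent : ∀ a ∈ A, a ≠ 1 → ∀ x : G, x * a = a * x → x ∈ A)
    (l₀ : A →* ℂˣ) (Φ : Finset (A →* ℂˣ))
    (hΦ : ∀ l ∈ Φ, l ≠ 1 ∧ Cfsg.indFun A (fun a => (l a : ℂ)) =
      Cfsg.indFun A (fun a => (l₀ a : ℂ))) :
    Φ.card * Nat.card A ≤ Nat.card N := by
  classical
  have hA0 : (Nat.card A : ℂ) ≠ 0 := by
    rw [Nat.card_eq_fintype_card]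
    exact_mod_cast Fintype.card_ne_zero
  have hcard : ∀ l ∈ Φ,
      (Finset.univ.filter (fun x : N => l₀ = l.comp (conjN A N hN x))).card = Nat.card A := by
    intro l hl
    obtain ⟨hl1, hl2⟩ := hΦ l hl
    have h1 := classInner_ind_linChar A N hN hTI l₀ l
    have h2 := classInner_ind_linChar_self A N hAN hN hTI hcomm hcent l hl1
    rw [← hl2, h2] at h1
    have h3 : (Nat.card A : ℂ) * (Nat.card A : ℂ) = (Nat.card A : ℂ) *
        ((Finset.univ.filter (fun x : N => l₀ = l.comp (conjN A N hN x))).card : ℂ) := by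
      have h4 := mul_left_cancel₀ (pow_ne_zero 2 (inv_ne_zero hA0)) h1
      linear_combination h4
    have h5 := mul_left_cancel₀ hA0 h3
    exact_mod_cast h5.symm
  have hdisj : (Φ : Set (A →* ℂˣ)).PairwiseDisjoint
      (fun l => Finset.univ.filter (fun x : N => l₀ = l.comp (conjN A N hN x))) := by
    intro l _ l' _ hne
    rw [Function.onFun, Finset.disjoint_left]
    intro x hx hx'
    rw [Finset.mem_filter] at hx hx'
    apply hne
    apply MonoidHom.ext
    intro a
    obtain ⟨b, rfl⟩ := conjN_surjective A N hN x a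
    have e1 := DFunLike.congr_fun hx.2 b
    have e2 := DFunLike.congr_fun hx'.2 b
    rw [MonoidHom.comp_apply] at e1 e2
    rw [← e1, ← e2]
  have h1 := Finset.card_biUnion hdisj
  rw [Finset.sum_congr rfl hcard, Finset.sum_const, smul_eq_mul] at h1
  rw [← h1, Nat.card_eq_fintype_card (α := N), ← Finset.card_univ]
  exact Finset.card_le_card (Finset.subset_univ _)

/-- the family of irreducible characters attached to a self-centralising abelian subgroup `A`
with trivial intersections, given a character `Ψ` vanishing on the nonidentity elements of `A`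
with the right norm and degree -/
theorem torus_family (A N : Subgroup G) [Fintype A] [Fintype N] (hAN : A ≤ N)
    (hN : ∀ x ∈ N, ∀ a ∈ A, x⁻¹ * a * x ∈ A)
    (hTI : ∀ x : G, x ∉ N → ∀ a : G, a ∈ A → a ≠ 1 → x⁻¹ * a * x ∉ A)
    (hcomm : ∀ a ∈ A, ∀ b ∈ A, a * b = b * a)
    (hcent : ∀ a ∈ A, a ≠ 1 → ∀ x : G, x * a = a * x → x ∈ A)
    (Ψ : G → ℂ) (hΨ : Cfsg.IsCharacter G Ψ) (hv : ∀ a : G, a ∈ A → a ≠ 1 → Ψ a = 0)
    (P d e : ℕ) (hP : Ψ 1 = (P : ℂ)) (hd0 : 0 < d) (hPd : P = A.index + d)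
    (he : Nat.card N = e * Nat.card A)
    (hnorm : Cfsg.classInner Ψ Ψ - 2 * ((Nat.card A : ℂ)⁻¹ * (P : ℂ)) +
      ((Nat.card A : ℂ)⁻¹) ^ 2 * ((Nat.card A : ℂ) * (Nat.card A : ℂ) +
        ((Nat.card G : ℂ) - (Nat.card N : ℂ))) = 1) :
    ∃ S : Finset (Cfsg.IrrCharacter G), (∀ χ ∈ S, (χ : G → ℂ) 1 = (d : ℂ)) ∧
      Nat.card A - 1 ≤ e * S.card := by
  classical
  haveI : Fintype (Cfsg.IrrCharacter G) := Fintype.ofFinite _
  haveI : Finite (A →* ℂˣ) := Cfsg.Agent.Lib.Helper79.finite_monoidHom_units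
  letI : Fintype (A →* ℂˣ) := Fintype.ofFinite _
  have hchar : ∀ l : A →* ℂˣ, Cfsg.IsCharacter G (Cfsg.indFun A (fun a => (l a : ℂ))) :=
    fun l => Cfsg.Agent.Lib.Helper80.isCharacter_indFun A
      (Cfsg.Agent.Lib.Helper26.isCharacter_of_irr (Cfsg.Agent.Lib.Helper80.isIrrCharacter_of_hom l))
  have hcl : Cfsg.IsClassFunction G Ψ := Cfsg.Agent.Lib.Helper26.isClassFunction_of_isCharacter hΨ
  have hirr : ∀ l : A →* ℂˣ, l ≠ 1 →
      Cfsg.IsIrrCharacter G (Ψ - Cfsg.indFun A (fun a => (l a : ℂ))) := by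
    intro l hl
    apply irr_of_norm_one (Cfsg.Agent.Lib.Helper26.isGen_sub
      (Cfsg.Agent.Lib.Helper26.isGen_of_isCharacter hΨ)
      (Cfsg.Agent.Lib.Helper26.isGen_of_isCharacter (hchar l))) _ d _ hd0
    · have h1 := classInner_ind_vanish A (fun a => (l a : ℂ)) Ψ hcl hv
      rw [hP, Complex.conj_natCast, map_one, Units.val_one, one_mul] at h1
      have h2 := Cfsg.Agent.Lib.Helper26.classInner_conj_symm
        (Cfsg.indFun A (fun a => (l a : ℂ))) Ψ
      rw [h1, map_mul, map_inv₀, Complex.conj_natCast, Complex.conj_natCast] at h2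
      have h3 := classInner_ind_linChar_self A N hAN hN hTI hcomm hcent l hl
      rw [Cfsg.Agent.Lib.Helper26.classInner_sub_left, Cfsg.Agent.Lib.Helper26.classInner_sub_right,
        Cfsg.Agent.Lib.Helper26.classInner_sub_right, h1, ← h2, h3]
      linear_combination hnorm
    · rw [Pi.sub_apply, hP, Cfsg.Agent.Lib.Helper80.indFun_one, map_one, Units.val_one, hPd]
      push_cast
      ring
  let f : (A →* ℂˣ) → Cfsg.IrrCharacter G := fun l =>
    if h : l ≠ 1 then ⟨Ψ - Cfsg.indFun A (fun a => (l a : ℂ)), hirr l h⟩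
    else ⟨fun _ => 1, Cfsg.Agent.Lib.Helper80.isIrrCharacter_one⟩
  have hf : ∀ l : A →* ℂˣ, l ≠ 1 →
      ((f l : Cfsg.IrrCharacter G) : G → ℂ) = Ψ - Cfsg.indFun A (fun a => (l a : ℂ)) := by
    intro l hl
    show ((if h : l ≠ 1 then (⟨Ψ - Cfsg.indFun A (fun a => (l a : ℂ)), hirr l h⟩ :
        Cfsg.IrrCharacter G)
      else ⟨fun _ => 1, Cfsg.Agent.Lib.Helper80.isIrrCharacter_one⟩ : Cfsg.IrrCharacter G) :
        G → ℂ) = _
    rw [dif_pos hl]
  let L : Finset (A →* ℂˣ) := Finset.univ.filter (fun l => l ≠ 1)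
  have hLcard : L.card = Nat.card A - 1 := by
    show (Finset.univ.filter (fun l : A →* ℂˣ => l ≠ 1)).card = _
    rw [Finset.filter_ne' Finset.univ (1 : A →* ℂˣ), Finset.card_erase_of_mem (Finset.mem_univ _),
      Finset.card_univ, ← Nat.card_eq_fintype_card, card_hom_of_comm A hcomm]
  have hA0 : 0 < Nat.card A := Nat.card_pos
  refine ⟨L.image f, ?_, ?_⟩
  · intro χ hχ
    obtain ⟨l, hl, rfl⟩ := Finset.mem_image.mp hχ
    have hl1 : l ≠ 1 := (Finset.mem_filter.mp hl).2
    rw [hf l hl1, Pi.sub_apply, hP, Cfsg.Agent.Lib.Helper80.indFun_one, map_one, Units.val_one,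
      hPd]
    push_cast
    ring
  · rw [← hLcard]
    apply Finset.card_le_mul_card_image
    intro b hb
    obtain ⟨l₀, hl₀, rfl⟩ := Finset.mem_image.mp hb
    have hl₀1 : l₀ ≠ 1 := (Finset.mem_filter.mp hl₀).2
    have h1 := ind_fibre_card_le A N hAN hN hTI hcomm hcent l₀
      (L.filter (fun l => f l = f l₀)) (by
        intro l hl
        rw [Finset.mem_filter] at hl
        have hl1 : l ≠ 1 := (Finset.mem_filter.mp hl.1).2
        refine ⟨hl1, ?_⟩
        have h2 : ((f l : Cfsg.IrrCharacter G) : G → ℂ) = ((f l₀ : Cfsg.IrrCharacter G) : G → ℂ) :=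
          congrArg Subtype.val hl.2
        rw [hf l hl1, hf l₀ hl₀1] at h2
        exact sub_right_injective h2)
    rw [he] at h1
    exact Nat.le_of_mul_le_mul_right h1 hA0

/-- an induced function vanishes off the conjugates of the subgroup -/
theorem indFun_eq_zero_of_not_conj (H : Subgroup G) (θ : H → ℂ) (g : G)
    (hg : ∀ x : G, x⁻¹ * g * x ∉ H) : Cfsg.indFun H θ g = 0 := by
  unfold Cfsg.indFun
  rw [Finset.sum_eq_zero, mul_zero]
  intro x _
  exact Cfsg.Agent.Lib.Helper80.extendByZero_apply_not_mem H θ (hg x)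

end SelfCent

section SelfCent2

variable {G : Type*} [Group G]

/-- a subgroup which is the centraliser of each of its nonidentity elements is abelian -/
theorem selfCent_comm (A : Subgroup G)
    (hcent : ∀ a ∈ A, a ≠ 1 → ∀ x : G, x * a = a * x ↔ x ∈ A) :
    ∀ a ∈ A, ∀ b ∈ A, a * b = b * a := by
  intro a ha b hb
  by_cases hb1 : b = 1
  · rw [hb1, mul_one, one_mul]
  · exact (hcent b hb hb1 a).mpr ha

theorem normalizer_conj_mem (A : Subgroup G) :
    ∀ x ∈ Subgroup.normalizer (A : Set G), ∀ a ∈ A, x⁻¹ * a * x ∈ A := by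
  intro x hx a ha
  have h1 := (Subgroup.mem_normalizer_iff.mp (inv_mem hx) a).mp ha
  rwa [inv_inv] at h1

/-- a subgroup which is the centraliser of each of its nonidentity elements meets its
conjugates outside its normaliser trivially -/
theorem selfCent_TI (A : Subgroup G)
    (hcent : ∀ a ∈ A, a ≠ 1 → ∀ x : G, x * a = a * x ↔ x ∈ A) :
    ∀ x : G, x ∉ Subgroup.normalizer (A : Set G) → ∀ a : G, a ∈ A → a ≠ 1 →
      x⁻¹ * a * x ∉ A := by
  intro x hx a ha ha1 hc
  apply hx
  have hc1 : x⁻¹ * a * x ≠ 1 := by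
    intro h1
    apply ha1
    have h2 : a = x * (x⁻¹ * a * x) * x⁻¹ := by group
    rw [h2, h1]
    group
  have hcomm := selfCent_comm A hcent
  rw [Subgroup.mem_normalizer_iff]
  intro g
  constructor
  · intro hg
    have h1 : g * (x⁻¹ * a * x) = (x⁻¹ * a * x) * g := hcomm g hg _ hc
    apply (hcent a ha ha1 (x * g * x⁻¹)).mp
    have h2 : x * g * x⁻¹ * a = x * (g * (x⁻¹ * a * x)) * x⁻¹ := by group
    rw [h2, h1]
    group
  · intro hg
    have h1 : (x * g * x⁻¹) * a = a * (x * g * x⁻¹) := hcomm _ hg a ha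
    apply (hcent _ hc hc1 g).mp
    have h2 : g * (x⁻¹ * a * x) = x⁻¹ * ((x * g * x⁻¹) * a) * x := by group
    rw [h2, h1]
    group

end SelfCent2

end Cfsg.Agent.Lib.Helper37
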