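-- helper37: Suzuki groups, part 30: a lower bound for the degree of the nontrivial complex
-- representations (Heisenberg-type bound on the eigenspaces of the centre of a Sylow 2-subgroup).
import Mathlib
import Cfsg.Prelude.Def_LieExceptional
import Cfsg.Agent.Lib.Helper37.SzCover

set_option autoImplicit false

namespace Cfsg.Agent.Lib.Helper37

section Heis

variable {A : Type*} [AddCommGroup A] [Finite A]
variable {V : Type*} [AddCommGroup V] [Module ℂ V] [FiniteDimensional ℂ V]

/-- operators commuting up to the signs of an alternating bicharacter: the dimension of an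
invariant subspace is bounded below. -/
theorem heis_bound (hA2 : ∀ a : A, a + a = 0)
    (X : A → Module.End ℂ V) (β : A → A → ℂ) (W : Submodule ℂ V)
    (hβ1 : ∀ x y, β x y = 1 ∨ β x y = -1)
    (hβadd : ∀ x x' y, β (x + x') y = β x y * β x' y)
    (hβsymm : ∀ x y, β x y = β y x)
    (hβself : ∀ x, β x x = 1)
    (hX : ∀ a c, ∀ v ∈ W, X a (X c v) = β a c • X c (X a v))
    (hinj : ∀ a, Function.Injective (X a)) :
    ∀ (n : ℕ) (U : AddSubgroup A) (E : Submodule ℂ V), Module.finrank ℂ E = n → E ≠ ⊥ → E ≤ W →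
      (∀ u ∈ U, ∀ v ∈ E, X u v ∈ E) →
      Nat.card U ≤ (Module.finrank ℂ E) ^ 2 * {u : A | u ∈ U ∧ ∀ c ∈ U, β u c = 1}.ncard := by
  classical
  have hβ0 : ∀ y, β 0 y = 1 := by
    intro y
    have h1 := hβadd 0 0 y
    rw [add_zero] at h1
    rcases hβ1 0 y with h2 | h2
    · exact h2
    · rw [h2] at h1
      norm_num at h1
  have hneg : ∀ x : A, -x = x := fun x => neg_eq_of_add_eq_zero_right (hA2 x)
  intro n
  induction n using Nat.strong_induction_on with
  | _ n ih =>
  intro U E hn hE hEW hinv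
  have hEpos : 1 ≤ Module.finrank ℂ E := by
    rcases Nat.eq_zero_or_pos (Module.finrank ℂ E) with h0 | h0
    · exact absurd (Submodule.finrank_eq_zero.mp h0) hE
    · exact h0
  by_cases hex : ∃ a ∈ U, ∃ c ∈ U, β a c = -1
  · obtain ⟨a, ha, c, hc, hac⟩ := hex
    have hnt : Nontrivial ↥E := (Submodule.nontrivial_iff_ne_bot).mpr hE
    obtain ⟨μ, hμ⟩ := Module.End.exists_eigenvalue ((X a).restrict (hinv a ha))
    obtain ⟨w, hw⟩ := hμ.exists_hasEigenvector
    have hw1 : X a (w : V) = μ • (w : V) := by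
      have h1 := Module.End.mem_eigenspace_iff.mp hw.1
      have h2 := congrArg Subtype.val h1
      simpa using h2
    have hw0 : (w : V) ≠ 0 := fun hc => hw.2 (Subtype.ext hc)
    have hμ0 : μ ≠ 0 := by
      rintro rfl
      rw [zero_smul] at hw1
      exact hw0 (hinj a (by rw [hw1, map_zero]))
    have hE1ne : E ⊓ Module.End.eigenspace (X a) μ ≠ ⊥ := by
      intro hc
      have h1 : (w : V) ∈ E ⊓ Module.End.eigenspace (X a) μ :=
        ⟨w.2, Module.End.mem_eigenspace_iff.mpr hw1⟩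
      rw [hc] at h1
      exact hw0 ((Submodule.mem_bot ℂ).mp h1)
    have hdisj : (E ⊓ Module.End.eigenspace (X a) μ) ⊓
        (E ⊓ Module.End.eigenspace (X a) μ).map (X c) = ⊥ := by
      rw [eq_bot_iff]
      rintro v ⟨hv1, hv2⟩
      obtain ⟨v', hv', rfl⟩ := hv2
      have e1 : X a (X c v') = μ • X c v' := Module.End.mem_eigenspace_iff.mp hv1.2
      have e2 : X a (X c v') = -(μ • X c v') := by
        rw [hX a c v' (hEW hv'.1), hac, Module.End.mem_eigenspace_iff.mp hv'.2, map_smul,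
          neg_one_smul]
      have e3 : (2 * μ) • X c v' = 0 := by
        have e4 : μ • X c v' = -(μ • X c v') := e1.symm.trans e2
        have e5 : μ • X c v' + μ • X c v' = 0 := by
          nth_rewrite 1 [e4]
          exact neg_add_cancel _
        rw [two_mul, add_smul]
        exact e5
      rcases smul_eq_zero.mp e3 with h0 | h0
      · exfalso
        rcases mul_eq_zero.mp h0 with h1 | h1
        · exact two_ne_zero h1
        · exact hμ0 h1
      · exact (Submodule.mem_bot ℂ).mpr h0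
    have hE2le : (E ⊓ Module.End.eigenspace (X a) μ).map (X c) ≤ E := by
      rintro v ⟨v', hv', rfl⟩
      exact hinv c hc v' hv'.1
    have hrank2 : Module.finrank ℂ ↥((E ⊓ Module.End.eigenspace (X a) μ).map (X c)) =
        Module.finrank ℂ ↥(E ⊓ Module.End.eigenspace (X a) μ) :=
      (LinearEquiv.finrank_eq (Submodule.equivMapOfInjective (X c) (hinj c) _)).symm
    have hsum : 2 * Module.finrank ℂ ↥(E ⊓ Module.End.eigenspace (X a) μ) ≤
        Module.finrank ℂ E := by
      have h1 := Submodule.finrank_sup_add_finrank_inf_eq (E ⊓ Module.End.eigenspace (X a) μ)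
        ((E ⊓ Module.End.eigenspace (X a) μ).map (X c))
      rw [hdisj, finrank_bot, add_zero, hrank2] at h1
      have h2 : Module.finrank ℂ ↥((E ⊓ Module.End.eigenspace (X a) μ) ⊔
          (E ⊓ Module.End.eigenspace (X a) μ).map (X c)) ≤ Module.finrank ℂ E :=
        Submodule.finrank_mono (sup_le inf_le_left hE2le)
      omega
    have hE1pos : 1 ≤ Module.finrank ℂ ↥(E ⊓ Module.End.eigenspace (X a) μ) := by
      rcases Nat.eq_zero_or_pos (Module.finrank ℂ ↥(E ⊓ Module.End.eigenspace (X a) μ))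
        with h0 | h0
      · exact absurd (Submodule.finrank_eq_zero.mp h0) hE1ne
      · exact h0
    let U' : AddSubgroup A :=
      { carrier := {u | u ∈ U ∧ β u a = 1 ∧ β u c = 1}
        zero_mem' := ⟨U.zero_mem, hβ0 a, hβ0 c⟩
        add_mem' := fun {x y} hx hy => ⟨U.add_mem hx.1 hy.1,
          by rw [hβadd, hx.2.1, hy.2.1, one_mul], by rw [hβadd, hx.2.2, hy.2.2, one_mul]⟩
        neg_mem' := fun {x} hx => by rw [hneg x]; exact hx }
    have hU'mem : ∀ u : A, u ∈ U' ↔ u ∈ U ∧ β u a = 1 ∧ β u c = 1 := fun u => Iff.rfl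
    have hinv' : ∀ u ∈ U', ∀ v ∈ E ⊓ Module.End.eigenspace (X a) μ,
        X u v ∈ E ⊓ Module.End.eigenspace (X a) μ := by
      intro u hu v hv
      refine ⟨hinv u hu.1 v hv.1, Module.End.mem_eigenspace_iff.mpr ?_⟩
      rw [hX a u v (hEW hv.1), hβsymm a u, hu.2.1, one_smul,
        Module.End.mem_eigenspace_iff.mp hv.2, map_smul]
    have hIH := ih (Module.finrank ℂ ↥(E ⊓ Module.End.eigenspace (X a) μ)) (by omega) U'
      (E ⊓ Module.End.eigenspace (X a) μ) rfl hE1ne (le_trans inf_le_left hEW) hinv'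
    -- adjusting an element of `U` into `U'`
    have hca : β c a = -1 := by rw [hβsymm]; exact hac
    have hadj : ∀ u ∈ U, u + (if β u a = 1 then 0 else c) + (if β u c = 1 then 0 else a) ∈ U' := by
      intro u hu
      rw [hU'mem]
      refine ⟨U.add_mem (U.add_mem hu ?_) ?_, ?_, ?_⟩
      · split_ifs
        · exact U.zero_mem
        · exact hc
      · split_ifs
        · exact U.zero_mem
        · exact ha
      · rw [hβadd, hβadd]
        by_cases h1 : β u a = 1 <;> by_cases h2 : β u c = 1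
        · rw [if_pos h1, if_pos h2, hβ0, h1]
          norm_num
        · rw [if_pos h1, if_neg h2, hβ0, hβself, h1]
          norm_num
        · have h3 : β u a = -1 := (hβ1 u a).resolve_left h1
          rw [if_neg h1, if_pos h2, hβ0, hca, h3]
          norm_num
        · have h3 : β u a = -1 := (hβ1 u a).resolve_left h1
          rw [if_neg h1, if_neg h2, hβself, hca, h3]
          norm_num
      · rw [hβadd, hβadd]
        by_cases h1 : β u a = 1 <;> by_cases h2 : β u c = 1
        · rw [if_pos h1, if_pos h2, hβ0, h2]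
          norm_num
        · have h3 : β u c = -1 := (hβ1 u c).resolve_left h2
          rw [if_pos h1, if_neg h2, hβ0, hac, h3]
          norm_num
        · rw [if_neg h1, if_pos h2, hβ0, hβself, h2]
          norm_num
        · have h3 : β u c = -1 := (hβ1 u c).resolve_left h2
          rw [if_neg h1, if_neg h2, hβself, hac, h3]
          norm_num
    have hcard : Nat.card U ≤ 4 * Nat.card U' := by
      let f : ↥U → ↥U' × Bool × Bool := fun u =>
        (⟨(u : A) + (if β u a = 1 then 0 else c) + (if β u c = 1 then 0 else a), hadj u u.2⟩,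
          decide (β u a = 1), decide (β u c = 1))
      have hf : Function.Injective f := by
        intro u u' huu
        simp only [f, Prod.mk.injEq, Subtype.mk.injEq, decide_eq_decide] at huu
        obtain ⟨e1, e2, e3⟩ := huu
        apply Subtype.ext
        have e4 : (if β (u : A) a = 1 then (0 : A) else c) = (if β (u' : A) a = 1 then 0 else c) := by
          simp only [e2]
        have e5 : (if β (u : A) c = 1 then (0 : A) else a) = (if β (u' : A) c = 1 then 0 else a) := by
          simp only [e3]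
        rw [e4, e5] at e1
        exact add_right_cancel (add_right_cancel e1)
      have h1 := Nat.card_le_card_of_injective f hf
      have h2 : Nat.card (↥U' × Bool × Bool) = 4 * Nat.card U' := by
        rw [Nat.card_prod, Nat.card_prod, Nat.card_eq_fintype_card (α := Bool), Fintype.card_bool]
        ring
      omega
    have hrad : {u : A | u ∈ U' ∧ ∀ c' ∈ U', β u c' = 1} ⊆ {u : A | u ∈ U ∧ ∀ c' ∈ U, β u c' = 1} := by
      rintro u ⟨hu, hu2⟩
      refine ⟨hu.1, ?_⟩
      intro x hx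
      have h1 := hu2 _ (hadj x hx)
      rw [hβsymm, hβadd, hβadd] at h1
      have h2 : β (if β x a = 1 then 0 else c) u = 1 := by
        split_ifs
        · exact hβ0 u
        · rw [hβsymm]; exact hu.2.2
      have h3 : β (if β x c = 1 then 0 else a) u = 1 := by
        split_ifs
        · exact hβ0 u
        · rw [hβsymm]; exact hu.2.1
      rw [h2, h3, mul_one, mul_one] at h1
      rw [hβsymm]
      exact h1
    have hncard := Set.ncard_le_ncard hrad (Set.toFinite _)
    calc Nat.card U ≤ 4 * Nat.card U' := hcard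
      _ ≤ 4 * ((Module.finrank ℂ ↥(E ⊓ Module.End.eigenspace (X a) μ)) ^ 2 *
            {u : A | u ∈ U' ∧ ∀ c' ∈ U', β u c' = 1}.ncard) := Nat.mul_le_mul_left 4 hIH
      _ = (2 * Module.finrank ℂ ↥(E ⊓ Module.End.eigenspace (X a) μ)) ^ 2 *
            {u : A | u ∈ U' ∧ ∀ c' ∈ U', β u c' = 1}.ncard := by ring
      _ ≤ (Module.finrank ℂ E) ^ 2 * {u : A | u ∈ U ∧ ∀ c' ∈ U, β u c' = 1}.ncard :=
          Nat.mul_le_mul (Nat.pow_le_pow_left hsum 2) hncard
  · have hall : ∀ a ∈ U, ∀ c ∈ U, β a c = 1 := by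
      intro a ha c hc
      rcases hβ1 a c with h1 | h1
      · exact h1
      · exact absurd ⟨a, ha, c, hc, h1⟩ hex
    have hset : {u : A | u ∈ U ∧ ∀ c ∈ U, β u c = 1} = (U : Set A) := by
      ext u
      constructor
      · intro hu
        exact hu.1
      · intro hu
        exact ⟨hu, hall u hu⟩
    rw [hset]
    have h1 : (U : Set A).ncard = Nat.card U := (Nat.card_coe_set_eq (U : Set A)).symm
    rw [h1]
    exact Nat.le_mul_of_pos_left _ (Nat.pos_of_ne_zero (by positivity))

end Heis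

section Chars

variable {F : Type*} [Field F] [Fintype F] {s : ℕ}

omit [Fintype F] in
theorem addChar_sq (h : SzData F s) (χ : AddChar F ℂ) (b : F) : χ b * χ b = 1 := by
  rw [← AddChar.map_add_eq_mul, h.add_self, AddChar.map_zero_eq_one]

omit [Fintype F] in
theorem addChar_pm (h : SzData F s) (χ : AddChar F ℂ) (b : F) : χ b = 1 ∨ χ b = -1 := by
  have h1 := addChar_sq h χ b
  have h2 : (χ b - 1) * (χ b + 1) = 0 := by linear_combination h1
  rcases mul_eq_zero.mp h2 with h3 | h3
  · left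
    linear_combination h3
  · right
    linear_combination h3

/-- the character `b ↦ χ (ζ * b)` -/
noncomputable def scaleChar (χ : AddChar F ℂ) (ζ : F) : AddChar F ℂ :=
  χ.compAddMonoidHom (AddMonoidHom.mulLeft ζ)

omit [Fintype F] in
theorem scaleChar_apply (χ : AddChar F ℂ) (ζ b : F) : scaleChar χ ζ b = χ (ζ * b) := rfl

omit [Fintype F] in
theorem scaleChar_inj (h : SzData F s) (χ : AddChar F ℂ) (hχ : χ ≠ 1) {ζ ζ' : F}
    (hζ : scaleChar χ ζ = scaleChar χ ζ') : ζ = ζ' := by
  by_contra hne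
  apply hχ
  have hne' : ζ + ζ' ≠ 0 := by
    intro hc
    apply hne
    linear_combination hc - ζ' * h.two
  apply AddChar.ext
  intro b
  rw [AddChar.one_apply]
  have e1 : b = ζ * ((ζ + ζ')⁻¹ * b) + ζ' * ((ζ + ζ')⁻¹ * b) := by
    field_simp
  rw [e1, AddChar.map_add_eq_mul, ← scaleChar_apply χ ζ, ← scaleChar_apply χ ζ', hζ]
  exact addChar_sq h _ _

theorem addChar_orth (h : SzData F s) (χ χ' : AddChar F ℂ) :
    ∑ b : F, χ b * χ' b = if χ = χ' then (Fintype.card F : ℂ) else 0 := by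
  split_ifs with hc
  · rw [hc]
    simp only [addChar_sq h]
    rw [Finset.sum_const, Finset.card_univ, nsmul_eq_mul, mul_one]
  · have hne : χ * χ' ≠ 1 := by
      intro h1
      apply hc
      apply AddChar.ext
      intro b
      have h2 : (χ * χ') b = 1 := by rw [h1, AddChar.one_apply]
      rw [AddChar.mul_apply] at h2
      have h3 := addChar_sq h χ' b
      linear_combination (χ' b) * h2 - (χ b) * h3
    have h4 := AddChar.sum_eq_zero_of_ne_one hne
    simp only [AddChar.mul_apply] at h4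
    exact h4

/-- the image of `t ↦ t + t ^ s` has index two, with `1` outside -/
theorem sz_artin_schreier (h : SzData F s) (x : F) :
    (∃ t : F, t + t ^ s = x) ∨ (∃ t : F, t + t ^ s = x + 1) := by
  classical
  have hφadd : ∀ t t' : F, (t + t') + (t + t') ^ s = (t + t ^ s) + (t' + t' ^ s) := by
    intro t t'
    rw [h.add]
    ring
  have hker : ∀ t : F, t + t ^ s = 0 → t = 0 ∨ t = 1 := by
    intro t ht
    have h1 : t ^ s = t := by linear_combination ht - t * h.two
    have h2 : t ^ 2 = t := by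
      rw [← h.sq, h1, h1]
    have h3 : t * (t - 1) = 0 := by linear_combination h2
    rcases mul_eq_zero.mp h3 with h4 | h4
    · exact Or.inl h4
    · exact Or.inr (sub_eq_zero.mp h4)
  have hfib : ∀ t t' : F, t + t ^ s = t' + t' ^ s → t' = t ∨ t' = t + 1 := by
    intro t t' htt
    have h1 : (t + t') + (t + t') ^ s = 0 := by
      rw [hφadd, htt]
      exact h.add_self _
    rcases hker _ h1 with h2 | h2
    · left
      linear_combination -h2 + t' * h.two
    · right
      linear_combination -h2 + (t' - 1) * h.two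
  have hno : ∀ t : F, t + t ^ s ≠ 1 := by
    intro t ht
    apply h.no_root t
    linear_combination ht + h.two
  have hcard1 : (Finset.univ : Finset F).card ≤
      2 * ((Finset.univ : Finset F).image (fun t : F => t + t ^ s)).card := by
    apply Finset.card_le_mul_card_image
    intro a ha
    obtain ⟨t0, -, rfl⟩ := Finset.mem_image.mp ha
    have hsub : (Finset.univ.filter fun x : F => x + x ^ s = t0 + t0 ^ s) ⊆ {t0, t0 + 1} := by
      intro x hx
      rw [Finset.mem_filter] at hx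
      rw [Finset.mem_insert, Finset.mem_singleton]
      exact hfib t0 x hx.2.symm
    exact le_trans (Finset.card_le_card hsub) Finset.card_le_two
  have hdisj : Disjoint ((Finset.univ : Finset F).image (fun t : F => t + t ^ s))
      (((Finset.univ : Finset F).image (fun t : F => t + t ^ s)).image (fun y : F => y + 1)) := by
    rw [Finset.disjoint_left]
    intro y hy hy'
    obtain ⟨t, -, rfl⟩ := Finset.mem_image.mp hy
    obtain ⟨y', hy'', hy3⟩ := Finset.mem_image.mp hy'
    obtain ⟨t', -, rfl⟩ := Finset.mem_image.mp hy''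
    apply hno (t + t')
    rw [hφadd, ← hy3]
    linear_combination (t' + t' ^ s) * h.two
  have hcard2 : (((Finset.univ : Finset F).image (fun t : F => t + t ^ s)).image
      (fun y : F => y + 1)).card = ((Finset.univ : Finset F).image (fun t : F => t + t ^ s)).card :=
    Finset.card_image_of_injective _ (add_left_injective 1)
  have huniv : (Finset.univ : Finset F).image (fun t : F => t + t ^ s) ∪
      (((Finset.univ : Finset F).image (fun t : F => t + t ^ s)).image (fun y : F => y + 1)) =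
      Finset.univ := by
    apply Finset.eq_univ_of_card
    rw [Finset.card_union_of_disjoint hdisj, hcard2]
    have h1 := Finset.card_le_univ ((Finset.univ : Finset F).image (fun t : F => t + t ^ s) ∪
      (((Finset.univ : Finset F).image (fun t : F => t + t ^ s)).image (fun y : F => y + 1)))
    rw [Finset.card_union_of_disjoint hdisj, hcard2] at h1
    rw [Finset.card_univ] at hcard1
    omega
  have hx : x ∈ (Finset.univ : Finset F).image (fun t : F => t + t ^ s) ∪
      (((Finset.univ : Finset F).image (fun t : F => t + t ^ s)).image (fun y : F => y + 1)) := by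
    rw [huniv]
    exact Finset.mem_univ x
  rcases Finset.mem_union.mp hx with h1 | h1
  · obtain ⟨t, -, ht⟩ := Finset.mem_image.mp h1
    exact Or.inl ⟨t, ht⟩
  · obtain ⟨y, hy, hy2⟩ := Finset.mem_image.mp h1
    obtain ⟨t, -, ht⟩ := Finset.mem_image.mp hy
    refine Or.inr ⟨t, ?_⟩
    rw [ht, ← hy2]
    linear_combination (-1 : F) * h.two

/-- a nontrivial character that is trivial on the image of `t ↦ t + t ^ s` is `-1` at `1` -/
theorem addChar_one_of_trivial (h : SzData F s) (χ : AddChar F ℂ) (hχ : χ ≠ 1)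
    (htriv : ∀ t : F, χ (t + t ^ s) = 1) : χ 1 = -1 := by
  rcases addChar_pm h χ 1 with h1 | h1
  · exfalso
    apply hχ
    apply AddChar.ext
    intro x
    rw [AddChar.one_apply]
    rcases sz_artin_schreier h x with ⟨t, ht⟩ | ⟨t, ht⟩
    · rw [← ht]
      exact htriv t
    · have h2 := htriv t
      rw [ht, AddChar.map_add_eq_mul, h1, mul_one] at h2
      exact h2
  · exact h1

/-- two nontrivial characters that are trivial on the image of `t ↦ t + t ^ s` coincide -/
theorem addChar_eq_of_trivial (h : SzData F s) (χ χ' : AddChar F ℂ) (hχ : χ ≠ 1) (hχ' : χ' ≠ 1)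
    (htriv : ∀ t : F, χ (t + t ^ s) = 1) (htriv' : ∀ t : F, χ' (t + t ^ s) = 1) : χ = χ' := by
  have h1 := addChar_one_of_trivial h χ hχ htriv
  have h1' := addChar_one_of_trivial h χ' hχ' htriv'
  apply AddChar.ext
  intro x
  rcases sz_artin_schreier h x with ⟨t, ht⟩ | ⟨t, ht⟩
  · rw [← ht, htriv t, htriv' t]
  · have h2 := htriv t
    have h2' := htriv' t
    rw [ht, AddChar.map_add_eq_mul, h1] at h2
    rw [ht, AddChar.map_add_eq_mul, h1'] at h2'
    linear_combination (-1 : ℂ) * h2 + h2'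

/-- the radical of the commutator form attached to a nontrivial character has at most one
nonzero element -/
theorem sz_rad_unique (h : SzData F s) (χ : AddChar F ℂ) (hχ : χ ≠ 1) (a a' : F) (ha0 : a ≠ 0)
    (ha0' : a' ≠ 0) (ha : ∀ c : F, χ (a ^ s * c + c ^ s * a) = 1)
    (ha' : ∀ c : F, χ (a' ^ s * c + c ^ s * a') = 1) : a = a' := by
  have hne : ∀ ζ : F, ζ ≠ 0 → scaleChar χ ζ ≠ 1 := by
    intro ζ hζ hc
    apply hχ
    apply AddChar.ext
    intro b
    have h1 : scaleChar χ ζ (ζ⁻¹ * b) = 1 := by rw [hc, AddChar.one_apply]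
    rw [scaleChar_apply, mul_inv_cancel_left₀ hζ] at h1
    rw [h1, AddChar.one_apply]
  have htriv : ∀ (a : F), (∀ c : F, χ (a ^ s * c + c ^ s * a) = 1) →
      ∀ t : F, scaleChar χ (a ^ (s + 1)) (t + t ^ s) = 1 := by
    intro a ha t
    rw [scaleChar_apply]
    have h1 := ha (a * t)
    have e : a ^ (s + 1) * (t + t ^ s) = a ^ s * (a * t) + (a * t) ^ s * a := by
      rw [mul_pow]
      ring
    rw [e]
    exact h1
  have h1 := addChar_eq_of_trivial h _ _ (hne _ (pow_ne_zero _ ha0)) (hne _ (pow_ne_zero _ ha0'))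
    (htriv a ha) (htriv a' ha')
  have h2 := scaleChar_inj h χ hχ h1
  have h3 : (a / a') ^ (s + 1) = 1 := by
    rw [div_pow, h2]
    exact div_self (pow_ne_zero _ ha0')
  have h4 := h.pow_succ_eq_one h3
  rw [div_eq_one_iff_eq ha0'] at h4
  exact h4

end Chars

section Rep

variable {F : Type*} [Field F] [Fintype F] {m : ℕ}
variable {V : Type*} [AddCommGroup V] [Module ℂ V]

omit [Fintype F] in
theorem rho_mul (ρ : Representation ℂ ↥(Cfsg.Sz F m) V) (g g' : ↥(Cfsg.Sz F m)) (v : V) :
    ρ (g * g') v = ρ g (ρ g' v) := by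
  rw [map_mul]
  rfl

omit [Fintype F] in
theorem rho_one (ρ : Representation ℂ ↥(Cfsg.Sz F m) V) (v : V) : ρ 1 v = v := by
  rw [map_one]
  rfl

omit [Fintype F] in
theorem rho_injective (ρ : Representation ℂ ↥(Cfsg.Sz F m) V) (g : ↥(Cfsg.Sz F m)) :
    Function.Injective (ρ g) := by
  intro v w hvw
  have h1 : ρ g⁻¹ (ρ g v) = ρ g⁻¹ (ρ g w) := by rw [hvw]
  rw [← rho_mul, ← rho_mul, inv_mul_cancel, rho_one, rho_one] at h1
  exact h1

/-- simultaneous eigenspace of the central translations -/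
def szEig (h : SzData F (2 ^ (m + 1))) (ρ : Representation ℂ ↥(Cfsg.Sz F m) V)
    (χ : AddChar F ℂ) : Submodule ℂ V where
  carrier := {v | ∀ b : F, ρ (szTm h 0 b) v = χ b • v}
  add_mem' := by
    intro x y hx hy b
    rw [map_add, hx b, hy b, smul_add]
  zero_mem' := by
    intro b
    rw [map_zero, smul_zero]
  smul_mem' := by
    intro c x hx b
    rw [map_smul, hx b, smul_comm]

theorem szProj_mem (h : SzData F (2 ^ (m + 1))) (ρ : Representation ℂ ↥(Cfsg.Sz F m) V)
    (χ : AddChar F ℂ) (v : V) : ∑ b : F, χ b • ρ (szTm h 0 b) v ∈ szEig h ρ χ := by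
  intro c
  rw [map_sum, Finset.smul_sum]
  refine Fintype.sum_equiv (Equiv.addRight c) _ _ (fun b => ?_)
  rw [map_smul, ← rho_mul, szTm_central_mul, Equiv.coe_addRight, smul_smul,
    AddChar.map_add_eq_mul]
  congr 1
  have h1 := addChar_sq h χ c
  linear_combination (-(χ b)) * h1

theorem szProj_apply (h : SzData F (2 ^ (m + 1))) (ρ : Representation ℂ ↥(Cfsg.Sz F m) V)
    (χ χ' : AddChar F ℂ) (v : V) (hv : v ∈ szEig h ρ χ') :
    ∑ b : F, χ b • ρ (szTm h 0 b) v = (if χ = χ' then (Fintype.card F : ℂ) else 0) • v := by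
  rw [← addChar_orth h χ χ', Finset.sum_smul]
  refine Finset.sum_congr rfl (fun b _ => ?_)
  rw [hv b, smul_smul]

theorem szEig_sum_le [FiniteDimensional ℂ V] (h : SzData F (2 ^ (m + 1)))
    (ρ : Representation ℂ ↥(Cfsg.Sz F m) V) {ι : Type*} [Fintype ι] (Λ : ι → AddChar F ℂ)
    (hΛ : Function.Injective Λ) :
    ∑ i, Module.finrank ℂ (szEig h ρ (Λ i)) ≤ Module.finrank ℂ V := by
  classical
  let Φ : (∀ i, ↥(szEig h ρ (Λ i))) →ₗ[ℂ] V :=
    ∑ i, (szEig h ρ (Λ i)).subtype ∘ₗ LinearMap.proj i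
  have hΦ : ∀ w, Φ w = ∑ i, (w i : V) := by
    intro w
    simp [Φ]
  have hinj : Function.Injective Φ := by
    rw [← LinearMap.ker_eq_bot, LinearMap.ker_eq_bot']
    intro w hw
    funext j
    apply Subtype.ext
    have h1 : ∑ b : F, (Λ j) b • ρ (szTm h 0 b) (Φ w) = 0 := by
      rw [hw]
      simp
    rw [hΦ] at h1
    simp only [map_sum, Finset.smul_sum] at h1
    rw [Finset.sum_comm] at h1
    have h2 : ∀ i, ∑ b : F, (Λ j) b • ρ (szTm h 0 b) (w i : V) =
        (if Λ j = Λ i then (Fintype.card F : ℂ) else 0) • (w i : V) :=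
      fun i => szProj_apply h ρ (Λ j) (Λ i) (w i : V) (w i).2
    simp only [h2] at h1
    rw [Finset.sum_eq_single j] at h1
    · rw [if_pos rfl] at h1
      rcases smul_eq_zero.mp h1 with h3 | h3
      · exfalso
        have h4 : (Fintype.card F : ℂ) ≠ 0 := by exact_mod_cast Fintype.card_ne_zero
        exact h4 h3
      · exact h3
    · intro i _ hi
      rw [if_neg (fun hc => hi (hΛ hc).symm), zero_smul]
    · intro h0
      exact absurd (Finset.mem_univ j) h0
  have h5 := LinearMap.finrank_le_finrank_of_injective hinj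
  rw [Module.finrank_pi_fintype] at h5
  exact h5

theorem szEig_exists (h : SzData F (2 ^ (m + 1))) (ρ : Representation ℂ ↥(Cfsg.Sz F m) V)
    (hne : ρ (szTm h 0 1) ≠ 1) : ∃ χ : AddChar F ℂ, χ ≠ 1 ∧ szEig h ρ χ ≠ ⊥ := by
  classical
  by_contra hcon0
  have hcon : ∀ χ : AddChar F ℂ, χ ≠ 1 → szEig h ρ χ = ⊥ := by
    intro χ hχ
    by_contra hc
    exact hcon0 ⟨χ, hχ, hc⟩
  apply hne
  apply LinearMap.ext
  intro v
  have hsum : ∑ χ : AddChar F ℂ, ∑ b : F, χ b • ρ (szTm h 0 b) v = (Fintype.card F : ℂ) • v := by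
    rw [Finset.sum_comm]
    have h1 : ∀ b : F, ∑ χ : AddChar F ℂ, χ b • ρ (szTm h 0 b) v =
        (if b = 0 then (Fintype.card F : ℂ) else 0) • ρ (szTm h 0 b) v := by
      intro b
      rw [← Finset.sum_smul, AddChar.sum_apply_eq_ite]
    simp only [h1]
    rw [Finset.sum_eq_single 0]
    · rw [if_pos rfl, szTm_zero, rho_one]
    · intro b _ hb
      rw [if_neg hb, zero_smul]
    · intro h0
      exact absurd (Finset.mem_univ _) h0
  have hterm : ∀ χ : AddChar F ℂ, χ ≠ 1 → ∑ b : F, χ b • ρ (szTm h 0 b) v = 0 := by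
    intro χ hχ
    have h1 := szProj_mem h ρ χ v
    rw [hcon χ hχ] at h1
    exact (Submodule.mem_bot ℂ).mp h1
  rw [Finset.sum_eq_single (1 : AddChar F ℂ)] at hsum
  · have hmem := szProj_mem h ρ (1 : AddChar F ℂ) v
    rw [hsum] at hmem
    have hv : v ∈ szEig h ρ 1 := by
      have h1 := (szEig h ρ 1).smul_mem ((Fintype.card F : ℂ)⁻¹) hmem
      have h4 : (Fintype.card F : ℂ) ≠ 0 := by exact_mod_cast Fintype.card_ne_zero
      rwa [smul_smul, inv_mul_cancel₀ h4, one_smul] at h1
    have h2 := hv 1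
    rw [AddChar.one_apply, one_smul] at h2
    rw [h2]
    rfl
  · intro χ _ hχ
    exact hterm χ hχ
  · intro h0
    exact absurd (Finset.mem_univ _) h0

theorem szEig_torus [FiniteDimensional ℂ V] (h : SzData F (2 ^ (m + 1)))
    (ρ : Representation ℂ ↥(Cfsg.Sz F m) V) (χ : AddChar F ℂ) (ζ : F) (hζ : ζ ≠ 0) :
    Module.finrank ℂ (szEig h ρ χ) ≤ Module.finrank ℂ (szEig h ρ (scaleChar χ ζ)) := by
  obtain ⟨μ, hμ⟩ := h.exists_unit_scale ζ⁻¹ (inv_ne_zero hζ)
  have hmap : (szEig h ρ χ).map (ρ (szHsub h μ)) ≤ szEig h ρ (scaleChar χ ζ) := by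
    rintro _ ⟨v, hv, rfl⟩
    intro x
    have e : szTm h 0 x * szHsub h μ = szHsub h μ * szTm h 0 (ζ * x) := by
      rw [szHsub_mul_szTm, hμ, mul_zero, inv_mul_cancel_left₀ hζ]
    rw [← rho_mul, e, rho_mul, hv (ζ * x), map_smul, scaleChar_apply]
  have hinj : Function.Injective (ρ (szHsub h μ)) := rho_injective ρ _
  calc Module.finrank ℂ (szEig h ρ χ)
      = Module.finrank ℂ ((szEig h ρ χ).map (ρ (szHsub h μ))) :=
        LinearEquiv.finrank_eq (Submodule.equivMapOfInjective _ hinj _)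
    _ ≤ Module.finrank ℂ (szEig h ρ (scaleChar χ ζ)) := Submodule.finrank_mono hmap

theorem szEig_heis [FiniteDimensional ℂ V] (hF : Fintype.card F = 2 ^ (2 * m + 1))
    (h : SzData F (2 ^ (m + 1))) (ρ : Representation ℂ ↥(Cfsg.Sz F m) V) (χ : AddChar F ℂ)
    (hχ : χ ≠ 1) (hne : szEig h ρ χ ≠ ⊥) : 2 ^ m ≤ Module.finrank ℂ (szEig h ρ χ) := by
  have hβadd : ∀ x x' y : F,
      χ ((x + x') ^ 2 ^ (m + 1) * y + y ^ 2 ^ (m + 1) * (x + x')) =
      χ (x ^ 2 ^ (m + 1) * y + y ^ 2 ^ (m + 1) * x) *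
        χ (x' ^ 2 ^ (m + 1) * y + y ^ 2 ^ (m + 1) * x') := by
    intro x x' y
    rw [← AddChar.map_add_eq_mul, h.add]
    congr 1
    ring
  have hβsymm : ∀ x y : F, χ (x ^ 2 ^ (m + 1) * y + y ^ 2 ^ (m + 1) * x) =
      χ (y ^ 2 ^ (m + 1) * x + x ^ 2 ^ (m + 1) * y) := by
    intro x y
    rw [add_comm]
  have hβself : ∀ x : F, χ (x ^ 2 ^ (m + 1) * x + x ^ 2 ^ (m + 1) * x) = 1 := by
    intro x
    rw [h.add_self, AddChar.map_zero_eq_one]
  have hX : ∀ a c : F, ∀ v ∈ szEig h ρ χ, ρ (szTm h a 0) (ρ (szTm h c 0) v) =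
      χ (a ^ 2 ^ (m + 1) * c + c ^ 2 ^ (m + 1) * a) • ρ (szTm h c 0) (ρ (szTm h a 0) v) := by
    intro a c v hv
    rw [← rho_mul, ← rho_mul, szTm_mul, szTm_mul, ← map_smul,
      ← hv (a ^ 2 ^ (m + 1) * c + c ^ 2 ^ (m + 1) * a), ← rho_mul, szTm_mul_central]
    have e1 : a + c = c + a := add_comm a c
    have e2 : (0 : F) + 0 + a ^ 2 ^ (m + 1) * c =
        0 + 0 + c ^ 2 ^ (m + 1) * a + (a ^ 2 ^ (m + 1) * c + c ^ 2 ^ (m + 1) * a) := by
      linear_combination (-(c ^ 2 ^ (m + 1) * a)) * h.two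
    rw [e1, e2]
  have hinv : ∀ u ∈ (⊤ : AddSubgroup F), ∀ v ∈ szEig h ρ χ, ρ (szTm h u 0) v ∈ szEig h ρ χ := by
    intro u _ v hv b
    rw [← rho_mul, szTm_central_mul, ← szTm_mul_central, rho_mul, hv b, map_smul]
  have hb := heis_bound (A := F) (V := V) (fun a => h.add_self a) (fun a => ρ (szTm h a 0))
    (fun a c => χ (a ^ 2 ^ (m + 1) * c + c ^ 2 ^ (m + 1) * a)) (szEig h ρ χ)
    (fun x y => addChar_pm h χ _) hβadd hβsymm hβself hX (fun a => rho_injective ρ _) _ ⊤
    (szEig h ρ χ) rfl hne le_rfl hinv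
  have hcard : Nat.card (⊤ : AddSubgroup F) = 2 ^ (2 * m + 1) := by
    rw [AddSubgroup.card_top, Nat.card_eq_fintype_card, hF]
  have hrad : {u : F | u ∈ (⊤ : AddSubgroup F) ∧ ∀ c ∈ (⊤ : AddSubgroup F),
      χ (u ^ 2 ^ (m + 1) * c + c ^ 2 ^ (m + 1) * u) = 1}.ncard ≤ 2 := by
    by_cases hex : ∃ a0 : F, a0 ≠ 0 ∧ ∀ c : F, χ (a0 ^ 2 ^ (m + 1) * c + c ^ 2 ^ (m + 1) * a0) = 1
    · obtain ⟨a0, ha0, ha0'⟩ := hex
      have hsub : {u : F | u ∈ (⊤ : AddSubgroup F) ∧ ∀ c ∈ (⊤ : AddSubgroup F),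
          χ (u ^ 2 ^ (m + 1) * c + c ^ 2 ^ (m + 1) * u) = 1} ⊆ {0, a0} := by
        rintro u ⟨-, hu⟩
        by_cases hu0 : u = 0
        · exact Or.inl hu0
        · right
          exact sz_rad_unique h χ hχ u a0 hu0 ha0 (fun c => hu c (AddSubgroup.mem_top c)) ha0'
      have h1 := Set.ncard_le_ncard hsub (Set.toFinite _)
      have h2 := Set.ncard_insert_le (0 : F) ({a0} : Set F)
      rw [Set.ncard_singleton] at h2
      omega
    · have hsub : {u : F | u ∈ (⊤ : AddSubgroup F) ∧ ∀ c ∈ (⊤ : AddSubgroup F),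
          χ (u ^ 2 ^ (m + 1) * c + c ^ 2 ^ (m + 1) * u) = 1} ⊆ {0} := by
        rintro u ⟨-, hu⟩
        by_contra hu0
        exact hex ⟨u, hu0, fun c => hu c (AddSubgroup.mem_top c)⟩
      have h1 := Set.ncard_le_ncard hsub (Set.toFinite _)
      rw [Set.ncard_singleton] at h1
      omega
  rw [hcard] at hb
  have h2 : 2 ^ (2 * m + 1) ≤ (Module.finrank ℂ (szEig h ρ χ)) ^ 2 * 2 :=
    le_trans hb (Nat.mul_le_mul_left _ hrad)
  have h3 : (2 ^ m) ^ 2 ≤ (Module.finrank ℂ (szEig h ρ χ)) ^ 2 := by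
    have e : 2 ^ (2 * m + 1) = (2 ^ m) ^ 2 * 2 := by
      rw [← pow_mul, pow_succ]
      congr 2
      ring
    rw [e] at h2
    exact Nat.le_of_mul_le_mul_right h2 (by norm_num)
  exact (Nat.pow_le_pow_iff_left (by norm_num)).mp h3

/-- a complex representation of the Suzuki group that is nontrivial on a central involution of
a Sylow 2-subgroup has degree at least `2 ^ m * (q - 1)` -/
theorem sz_rep_bound [FiniteDimensional ℂ V] (hF : Fintype.card F = 2 ^ (2 * m + 1))
    (h : SzData F (2 ^ (m + 1))) (ρ : Representation ℂ ↥(Cfsg.Sz F m) V)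
    (hne : ρ (szTm h 0 1) ≠ 1) : 2 ^ m * (2 ^ (2 * m + 1) - 1) ≤ Module.finrank ℂ V := by
  classical
  obtain ⟨χ, hχ, hE⟩ := szEig_exists h ρ hne
  have h1 := szEig_sum_le h ρ (fun ζ : Fˣ => scaleChar χ (ζ : F))
    (fun ζ ζ' hζ => Units.ext (scaleChar_inj h χ hχ hζ))
  have h2 : ∀ ζ : Fˣ, 2 ^ m ≤ Module.finrank ℂ (szEig h ρ (scaleChar χ (ζ : F))) := fun ζ =>
    le_trans (szEig_heis hF h ρ χ hχ hE) (szEig_torus h ρ χ ζ ζ.ne_zero)
  have h3 : ∑ _ζ : Fˣ, 2 ^ m ≤ ∑ ζ : Fˣ, Module.finrank ℂ (szEig h ρ (scaleChar χ (ζ : F))) :=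
    Finset.sum_le_sum (fun ζ _ => h2 ζ)
  rw [Finset.sum_const, Finset.card_univ, Fintype.card_units, hF, smul_eq_mul] at h3
  calc 2 ^ m * (2 ^ (2 * m + 1) - 1) = (2 ^ (2 * m + 1) - 1) * 2 ^ m := mul_comm _ _
    _ ≤ Module.finrank ℂ V := le_trans h3 h1

end Rep

end Cfsg.Agent.Lib.Helper37
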