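-- helper37: Suzuki groups, part 45: the solubilizer of a 2-element: tori normalised by the
-- central involution at infinity, and the decomposition of the part off the point stabiliser.
import Mathlib
import Cfsg.Prelude.Def_LieExceptional
import Cfsg.Agent.Lib.Helper37.SzSol2

set_option autoImplicit false

namespace Cfsg.Agent.Lib.Helper37

section Sol3

variable {F : Type*} [Field F] [Fintype F] {m : ℕ}

theorem z_sq (h : SzData F (2 ^ (m + 1))) : szTm (m := m) h 0 1 * szTm h 0 1 = 1 :=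
  szTm_central_sq h 1

theorem z_ne_one (h : SzData F (2 ^ (m + 1))) : szTm (m := m) h 0 1 ≠ 1 := by
  intro hc
  rw [szTm_eq_one_iff] at hc
  exact one_ne_zero hc.2

theorem z_inv (h : SzData F (2 ^ (m + 1))) : (szTm (m := m) h 0 1)⁻¹ = szTm h 0 1 :=
  szTm_central_inv h 1

theorem z_fix (h : SzData F (2 ^ (m + 1))) (p : ↥(Cfsg.suzukiOvoid F m))
    (hp : szTm h 0 1 • p = p) : p = oInf F m :=
  szTm_fix h (fun hc => one_ne_zero hc.2) p hp

/-- an element commuting with the central involution fixes the point at infinity -/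
theorem z_comm_fix (h : SzData F (2 ^ (m + 1))) (w : ↥(Cfsg.Sz F m))
    (hw : w * szTm h 0 1 = szTm h 0 1 * w) : w • oInf F m = oInf F m := by
  apply z_fix h
  rw [← mul_smul, ← hw, mul_smul, szTm_smul_inf]

/-- a torus normalised by the central involution meets the point stabiliser trivially -/
theorem torus_inter_B (hm : 1 ≤ m) (hF : Fintype.card F = 2 ^ (2 * m + 1))
    (h : SzData F (2 ^ (m + 1))) (a : ↥(Cfsg.Sz F m)) (ha : szSS a)
    (hz : szTm h 0 1 ∈ szNT a) (a' : ↥(Cfsg.Sz F m))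
    (ha' : a' ∈ Subgroup.centralizer ({a} : Set ↥(Cfsg.Sz F m)))
    (hfix : a' • oInf F m = oInf F m) : a' = 1 := by
  by_contra ha'1
  have hss := szSS_of_mem_cent hm hF a a' ha ha' ha'1
  have hN := szNT_eq_of_mem hm hF a a' ha ha' ha'1
  rw [← hN] at hz
  rcases szSS_type hm hF h a' hss with ⟨k, μ, hμ, rfl⟩ | ⟨hfpf, -⟩
  · have hne : k • oInf F m ≠ k • oPt m (0 : F) 0 := by
      intro hc
      have := smul_left_cancel k hc
      exact oPt_ne_oInf 0 0 this.symm
    rcases (split_norm hm hF h k μ hμ _).mp hz with ⟨μ', hμ'⟩ | ⟨μ', hμ'⟩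
    · have h1 : szTm h 0 1 • (k • oInf F m) = k • oInf F m := by
        rw [hμ']
        exact sz_H_conj_smul_inf h k μ'
      have h2 : szTm h 0 1 • (k • oPt m (0 : F) 0) = k • oPt m (0 : F) 0 := by
        rw [hμ']
        exact sz_H_conj_smul_zero h k μ'
      apply hne
      rw [z_fix h _ h1, z_fix h _ h2]
    · have h1 : szTm h 0 1 • (k • oInf F m) = k • oPt m (0 : F) 0 := by
        rw [hμ', mul_smul, mul_smul, inv_smul_smul, mul_smul, szWm_smul_inf,
          h.szHsub_smul_zero]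
      have h2 : szTm h 0 1 • (k • oPt m (0 : F) 0) = k • oInf F m := by
        rw [hμ', mul_smul, mul_smul, inv_smul_smul, mul_smul, szWm_smul_zero,
          h.szHsub_smul_inf]
      rcases sz_H_conj_fix h k μ hμ _ hfix with h3 | h3
      · apply hne
        rw [← h3, szTm_smul_inf] at h1
        exact h3.symm.trans h1
      · apply hne
        rw [← h3, szTm_smul_inf] at h2
        exact h2.symm.trans h3
  · exact hfpf _ hfix

/-- two involutions normalising a torus differ by an element of the torus -/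
theorem torus_invol_mul (hm : 1 ≤ m) (hF : Fintype.card F = 2 ^ (2 * m + 1))
    (a : ↥(Cfsg.Sz F m)) (ha : szSS a) (t t' : ↥(Cfsg.Sz F m))
    (ht : t ∈ szNT a) (ht' : t' ∈ szNT a) (htt : t * t = 1) (htt' : t' * t' = 1)
    (ht1 : t ≠ 1) (ht1' : t' ≠ 1) :
    t * t' ∈ Subgroup.centralizer ({a} : Set ↥(Cfsg.Sz F m)) := by
  have h1 := szSS_norm_inverts hm hF a ha t ht htt ht1 a (self_mem_cent a)
  have h2 := szSS_norm_inverts hm hF a ha t' ht' htt' ht1' a (self_mem_cent a)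
  rw [mem_cent_singleton]
  have e : (t * t') * a * (t * t')⁻¹ = a := by
    have e1 : (t * t') * a * (t * t')⁻¹ = t * (t' * a * t'⁻¹) * t⁻¹ := by group
    rw [e1, h2]
    have e2 : t * a⁻¹ * t⁻¹ = (t * a * t⁻¹)⁻¹ := by group
    rw [e2, h1, inv_inv]
  calc a * (t * t') = ((t * t') * a * (t * t')⁻¹) * (t * t') := by rw [e]
    _ = t * t' * a := by group

/-- involutions of the point stabiliser normalising such a torus -/
theorem torus_B_invol (hm : 1 ≤ m) (hF : Fintype.card F = 2 ^ (2 * m + 1))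
    (h : SzData F (2 ^ (m + 1))) (a : ↥(Cfsg.Sz F m)) (ha : szSS a)
    (hz : szTm h 0 1 ∈ szNT a) (t : ↥(Cfsg.Sz F m)) (ht : t ∈ szNT a)
    (htinf : t • oInf F m = oInf F m) (htt : t * t = 1) : t = 1 ∨ t = szTm h 0 1 := by
  by_cases ht1 : t = 1
  · exact Or.inl ht1
  · right
    have h1 := torus_invol_mul hm hF a ha (szTm h 0 1) t hz ht (z_sq h) htt (z_ne_one h) ht1
    have h2 : (szTm h 0 1 * t) • oInf F m = oInf F m := by
      rw [mul_smul, htinf, szTm_smul_inf]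
    have h3 := torus_inter_B hm hF h a ha hz _ h1 h2
    have h4 : t = (szTm h 0 1)⁻¹ := eq_inv_of_mul_eq_one_right h3
    rw [h4, z_inv]

/-- the part of the torus normaliser inside the point stabiliser is a transversal -/
theorem torus_norm_B_card (hm : 1 ≤ m) (hF : Fintype.card F = 2 ^ (2 * m + 1))
    (h : SzData F (2 ^ (m + 1))) (a : ↥(Cfsg.Sz F m)) (ha : szSS a)
    (hz : szTm h 0 1 ∈ szNT a) :
    Nat.card ↥(szNT a ⊓ szB F m) *
      Nat.card ↥(Subgroup.centralizer ({a} : Set ↥(Cfsg.Sz F m))) = Nat.card ↥(szNT a) := by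
  apply le_antisymm
  · rw [← Nat.card_prod]
    apply Nat.card_le_card_of_injective
      (fun p : ↥(szNT a ⊓ szB F m) × ↥(Subgroup.centralizer ({a} : Set ↥(Cfsg.Sz F m))) =>
        (⟨(p.1 : ↥(Cfsg.Sz F m)) * (p.2 : ↥(Cfsg.Sz F m)),
          (szNT a).mul_mem p.1.2.1 (Subgroup.le_normalizer p.2.2)⟩ : ↥(szNT a)))
    rintro ⟨⟨w, hwN, hwB⟩, ⟨c, hc⟩⟩ ⟨⟨w', hwN', hwB'⟩, ⟨c', hc'⟩⟩ hp
    have hp' : w * c = w' * c' := congrArg Subtype.val hp
    have e1 : w'⁻¹ * w = c' * c⁻¹ := by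
      calc w'⁻¹ * w = w'⁻¹ * (w * c) * c⁻¹ := by group
        _ = w'⁻¹ * (w' * c') * c⁻¹ := by rw [hp']
        _ = c' * c⁻¹ := by group
    have h1 : c' * c⁻¹ ∈ Subgroup.centralizer ({a} : Set ↥(Cfsg.Sz F m)) :=
      Subgroup.mul_mem _ hc' (Subgroup.inv_mem _ hc)
    have h2 : (c' * c⁻¹) • oInf F m = oInf F m := by
      rw [← e1]
      exact (mem_szB _).mp ((szB F m).mul_mem ((szB F m).inv_mem hwB') hwB)
    have h3 := torus_inter_B hm hF h a ha hz _ h1 h2
    have hcc : c' = c := by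
      have := mul_inv_eq_one.mp h3
      exact this
    have hww : w = w' := by
      rw [h3] at e1
      have := inv_mul_eq_one.mp e1
      exact this.symm
    subst hcc
    subst hww
    rfl
  · have h1 := card_le_of_fibers (szNT a) (szNT a ⊓ szB F m)
      (fun g : ↥(Cfsg.Sz F m) => g * szTm h 0 1 * g⁻¹)
      ((fun c : ↥(Cfsg.Sz F m) => c * szTm h 0 1) ''
        ((Subgroup.centralizer ({a} : Set ↥(Cfsg.Sz F m)) : Subgroup ↥(Cfsg.Sz F m)) :
          Set ↥(Cfsg.Sz F m)))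
      (Nat.card ↥(Subgroup.centralizer ({a} : Set ↥(Cfsg.Sz F m)))) (Set.toFinite _)
      (by
        refine (Set.ncard_image_le (Set.toFinite _)).trans ?_
        exact le_of_eq (Nat.card_coe_set_eq _).symm)
      (by
        intro g hg
        have hgz : g * szTm h 0 1 * g⁻¹ ∈ szNT a :=
          (szNT a).mul_mem ((szNT a).mul_mem hg hz) ((szNT a).inv_mem hg)
        have hsq : (g * szTm h 0 1 * g⁻¹) * (g * szTm h 0 1 * g⁻¹) = 1 := by
          have e : (g * szTm h 0 1 * g⁻¹) * (g * szTm h 0 1 * g⁻¹) =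
              g * (szTm h 0 1 * szTm h 0 1) * g⁻¹ := by group
          rw [e, z_sq]
          group
        have hne : g * szTm h 0 1 * g⁻¹ ≠ 1 := by
          intro hc
          apply z_ne_one (m := m) h
          have e : szTm h 0 1 = g⁻¹ * (g * szTm h 0 1 * g⁻¹) * g := by group
          rw [e, hc]
          group
        have h2 := torus_invol_mul hm hF a ha _ (szTm h 0 1) hgz hz hsq (z_sq h) hne (z_ne_one h)
        refine ⟨g * szTm h 0 1 * g⁻¹ * szTm h 0 1, h2, ?_⟩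
        show g * szTm h 0 1 * g⁻¹ * szTm h 0 1 * szTm h 0 1 = g * szTm h 0 1 * g⁻¹
        rw [mul_assoc, z_sq, mul_one])
      (by
        intro g hg g' hg' hgg
        have hgg' : g * szTm h 0 1 * g⁻¹ = g' * szTm h 0 1 * g'⁻¹ := hgg
        refine ⟨(szNT a).mul_mem ((szNT a).inv_mem hg) hg', ?_⟩
        apply (mem_szB _).mpr
        apply z_comm_fix h
        calc g⁻¹ * g' * szTm h 0 1 = g⁻¹ * (g' * szTm h 0 1 * g'⁻¹) * g' := by group
          _ = g⁻¹ * (g * szTm h 0 1 * g⁻¹) * g' := by rw [hgg']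
          _ = szTm h 0 1 * (g⁻¹ * g') := by group)
    rw [mul_comm]
    exact h1

/-- a torus normalised by the central involution is determined by any element of its
normaliser moving the point at infinity -/
theorem torus_unique (hm : 1 ≤ m) (hF : Fintype.card F = 2 ^ (2 * m + 1))
    (h : SzData F (2 ^ (m + 1))) (a a' : ↥(Cfsg.Sz F m)) (ha : szSS a) (ha' : szSS a')
    (hz : szTm h 0 1 ∈ szNT a) (hz' : szTm h 0 1 ∈ szNT a') (y : ↥(Cfsg.Sz F m))
    (hy : y ∈ szNT a) (hy' : y ∈ szNT a') (hyinf : y • oInf F m ≠ oInf F m) :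
    Subgroup.centralizer ({a} : Set ↥(Cfsg.Sz F m)) =
      Subgroup.centralizer ({a'} : Set ↥(Cfsg.Sz F m)) := by
  have key : ∀ c : ↥(Cfsg.Sz F m), c ≠ 1 →
      c ∈ Subgroup.centralizer ({a} : Set ↥(Cfsg.Sz F m)) →
      c ∈ Subgroup.centralizer ({a'} : Set ↥(Cfsg.Sz F m)) →
      Subgroup.centralizer ({a} : Set ↥(Cfsg.Sz F m)) =
        Subgroup.centralizer ({a'} : Set ↥(Cfsg.Sz F m)) := by
    intro c hc1 hc hc'
    rw [← szSS_cent_eq hm hF a c ha hc hc1, ← szSS_cent_eq hm hF a' c ha' hc' hc1]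
  have h4 := szSS_pow_four_mem hm hF a ha y hy
  have h4' := szSS_pow_four_mem hm hF a' ha' y hy'
  by_cases hy4 : y ^ 4 = 1
  · -- an involution in both normalisers, different from the central one
    have hinv : ∃ t : ↥(Cfsg.Sz F m), t ∈ szNT a ∧ t ∈ szNT a' ∧ t * t = 1 ∧ t ≠ 1 ∧
        t ≠ szTm h 0 1 := by
      by_cases hy2 : y * y = 1
      · refine ⟨y, hy, hy', hy2, ?_, ?_⟩
        · rintro rfl
          exact hyinf (one_smul _ _)
        · rintro rfl
          exact hyinf (szTm_smul_inf h 0 1)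
      · refine ⟨y * y, (szNT a).mul_mem hy hy, (szNT a').mul_mem hy' hy', ?_, hy2, ?_⟩
        · rw [← hy4]
          simp [pow_succ, mul_assoc]
        · intro hc
          apply hyinf
          apply z_comm_fix h
          rw [← hc, mul_assoc]
    obtain ⟨t, ht, ht', htt, ht1, htz⟩ := hinv
    have hc := torus_invol_mul hm hF a ha (szTm h 0 1) t hz ht (z_sq h) htt (z_ne_one h) ht1
    have hc' := torus_invol_mul hm hF a' ha' (szTm h 0 1) t hz' ht' (z_sq h) htt
      (z_ne_one h) ht1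
    apply key _ _ hc hc'
    intro hone
    apply htz
    have h5 : t = (szTm h 0 1)⁻¹ := eq_inv_of_mul_eq_one_right hone
    rw [h5, z_inv]
  · exact key _ hy4 h4 h4'

/-- semisimple elements whose torus is normalised by `x` -/
def szY (x : ↥(Cfsg.Sz F m)) : Set ↥(Cfsg.Sz F m) := {a | szSS a ∧ x ∈ szNT a}

/-- those with normaliser index two -/
def szY2 (x : ↥(Cfsg.Sz F m)) : Set ↥(Cfsg.Sz F m) :=
  {a | szSS a ∧ x ∈ szNT a ∧
    Nat.card ↥(szNT a) = 2 * Nat.card ↥(Subgroup.centralizer ({a} : Set ↥(Cfsg.Sz F m)))}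

/-- those with normaliser index four -/
def szY4 (x : ↥(Cfsg.Sz F m)) : Set ↥(Cfsg.Sz F m) :=
  {a | szSS a ∧ x ∈ szNT a ∧
    Nat.card ↥(szNT a) = 4 * Nat.card ↥(Subgroup.centralizer ({a} : Set ↥(Cfsg.Sz F m)))}

/-- the part of the solubilizer off the point stabiliser -/
def szR (x : ↥(Cfsg.Sz F m)) : Set ↥(Cfsg.Sz F m) :=
  {y | y • oInf F m ≠ oInf F m ∧ ∃ u, szSS u ∧ x ∈ szNT u ∧ y ∈ szNT u}

/-- pairs of a torus element and a transversal element with index `j` -/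
def szP (j : ℕ) (x : ↥(Cfsg.Sz F m)) : Set (↥(Cfsg.Sz F m) × ↥(Cfsg.Sz F m)) :=
  {p | szSS p.1 ∧ x ∈ szNT p.1 ∧
    Nat.card ↥(szNT p.1) = j * Nat.card ↥(Subgroup.centralizer ({p.1} : Set ↥(Cfsg.Sz F m))) ∧
    p.2 ∈ szNT p.1 ∧ p.2 • oInf F m = oInf F m}

theorem szP_card (hm : 1 ≤ m) (hF : Fintype.card F = 2 ^ (2 * m + 1))
    (h : SzData F (2 ^ (m + 1))) (x : ↥(Cfsg.Sz F m))
    (hxz : ∀ a : ↥(Cfsg.Sz F m), x ∈ szNT a → szTm h 0 1 ∈ szNT a) (j : ℕ) :
    (szP j x).ncard = j * {a | szSS a ∧ x ∈ szNT a ∧ Nat.card ↥(szNT a) =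
      j * Nat.card ↥(Subgroup.centralizer ({a} : Set ↥(Cfsg.Sz F m)))}.ncard := by
  apply ncard_eq_mul_of_fibers (szP j x) _ Prod.fst j (Set.toFinite _) (Set.toFinite _)
  · rintro ⟨a, w⟩ ⟨h1, h2, h3, -, -⟩
    exact ⟨h1, h2, h3⟩
  · rintro a ⟨h1, h2, h3⟩
    have hset : {p : ↥(Cfsg.Sz F m) × ↥(Cfsg.Sz F m) | p ∈ szP j x ∧ p.1 = a} =
        (fun w : ↥(Cfsg.Sz F m) => (a, w)) ''
          ((szNT a ⊓ szB F m : Subgroup ↥(Cfsg.Sz F m)) : Set ↥(Cfsg.Sz F m)) := by
      ext ⟨a', w⟩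
      constructor
      · rintro ⟨⟨-, -, -, h4, h5⟩, h6⟩
        have h6' : a' = a := h6
        subst h6'
        exact ⟨w, ⟨h4, (mem_szB _).mpr h5⟩, rfl⟩
      · rintro ⟨w', ⟨h4, h5⟩, h6⟩
        have h7 : a = a' ∧ w' = w := by
          have := Prod.mk.inj h6
          exact this
        obtain ⟨rfl, rfl⟩ := h7
        exact ⟨⟨h1, h2, h3, h4, (mem_szB _).mp h5⟩, rfl⟩
    rw [hset, Set.ncard_image_of_injective _ (fun w w' hw => (Prod.mk.inj hw).2)]
    have h4 := torus_norm_B_card hm hF h a h1 (hxz a h2)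
    rw [h3] at h4
    have hpos : 0 < Nat.card ↥(Subgroup.centralizer ({a} : Set ↥(Cfsg.Sz F m))) := Nat.card_pos
    have h5 : Nat.card ↥(szNT a ⊓ szB F m) = j := Nat.eq_of_mul_eq_mul_right hpos h4
    rw [← h5]
    exact (Nat.card_coe_set_eq _).symm

/-- the part of the solubilizer off the point stabiliser, counted by torus elements -/
theorem szR_card (hm : 1 ≤ m) (hF : Fintype.card F = 2 ^ (2 * m + 1))
    (h : SzData F (2 ^ (m + 1))) (x : ↥(Cfsg.Sz F m))
    (hxz : ∀ a : ↥(Cfsg.Sz F m), x ∈ szNT a → szTm h 0 1 ∈ szNT a) :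
    (szR x).ncard = 2 * (szY2 x).ncard + 4 * (szY4 x).ncard := by
  -- the multiplication map from pairs
  have himg : ∀ j : ℕ, ∀ p ∈ szP j x, p.2 * p.1 ∈ szR x := by
    rintro j ⟨a, w⟩ ⟨h1, h2, h3, h4, h5⟩
    refine ⟨?_, a, h1, h2, (szNT a).mul_mem h4 (Subgroup.le_normalizer (self_mem_cent a))⟩
    intro hc
    apply h1.1
    apply torus_inter_B hm hF h a h1 (hxz a h2) a (self_mem_cent a)
    have e : a = w⁻¹ * (w * a) := by group
    rw [e, mul_smul, hc, inv_smul_eq_iff, h5]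
  have hinj : ∀ j j' : ℕ, ∀ p ∈ szP j x, ∀ p' ∈ szP j' x, p.2 * p.1 = p'.2 * p'.1 → p = p' := by
    rintro j j' ⟨a, w⟩ ⟨h1, h2, h3, h4, h5⟩ ⟨a', w'⟩ ⟨h1', h2', h3', h4', h5'⟩ hp
    have hp' : w * a = w' * a' := hp
    have hy := himg j (a, w) ⟨h1, h2, h3, h4, h5⟩
    have hyN : w * a ∈ szNT a := (szNT a).mul_mem h4 (Subgroup.le_normalizer (self_mem_cent a))
    have hyN' : w * a ∈ szNT a' := by
      rw [hp']
      exact (szNT a').mul_mem h4' (Subgroup.le_normalizer (self_mem_cent a'))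
    have hC := torus_unique hm hF h a a' h1 h1' (hxz a h2) (hxz a' h2') (w * a) hyN hyN' hy.1
    have e1 : w'⁻¹ * w = a' * a⁻¹ := by
      calc w'⁻¹ * w = w'⁻¹ * (w * a) * a⁻¹ := by group
        _ = w'⁻¹ * (w' * a') * a⁻¹ := by rw [hp']
        _ = a' * a⁻¹ := by group
    have h6 : a' * a⁻¹ ∈ Subgroup.centralizer ({a} : Set ↥(Cfsg.Sz F m)) := by
      apply Subgroup.mul_mem _ _ (Subgroup.inv_mem _ (self_mem_cent a))
      rw [hC]
      exact self_mem_cent a'
    have h7 : (a' * a⁻¹) • oInf F m = oInf F m := by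
      rw [← e1, mul_smul, h5, inv_smul_eq_iff, h5']
    have h8 := torus_inter_B hm hF h a h1 (hxz a h2) _ h6 h7
    have haa : a' = a := mul_inv_eq_one.mp h8
    have hww : w = w' := by
      rw [h8] at e1
      exact (inv_mul_eq_one.mp e1).symm
    rw [haa, hww]
  have hsurj : ∀ y ∈ szR x, (∃ p ∈ szP 2 x, p.2 * p.1 = y) ∨ (∃ p ∈ szP 4 x, p.2 * p.1 = y) := by
    rintro y ⟨hyinf, u, hu, hxu, hyu⟩
    have hz := hxz u hxu
    have hcard := torus_norm_B_card hm hF h u hu hz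
    -- the multiplication map is a bijection
    have hbij : Function.Bijective
        (fun p : ↥(szNT u ⊓ szB F m) × ↥(Subgroup.centralizer ({u} : Set ↥(Cfsg.Sz F m))) =>
          (⟨(p.1 : ↥(Cfsg.Sz F m)) * (p.2 : ↥(Cfsg.Sz F m)),
            (szNT u).mul_mem p.1.2.1 (Subgroup.le_normalizer p.2.2)⟩ : ↥(szNT u))) := by
      apply Function.Injective.bijective_of_nat_card_le
      · rintro ⟨⟨w, hwN, hwB⟩, ⟨c, hc⟩⟩ ⟨⟨w', hwN', hwB'⟩, ⟨c', hc'⟩⟩ hp
        have hp' : w * c = w' * c' := congrArg Subtype.val hp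
        have e1 : w'⁻¹ * w = c' * c⁻¹ := by
          calc w'⁻¹ * w = w'⁻¹ * (w * c) * c⁻¹ := by group
            _ = w'⁻¹ * (w' * c') * c⁻¹ := by rw [hp']
            _ = c' * c⁻¹ := by group
        have h1 : c' * c⁻¹ ∈ Subgroup.centralizer ({u} : Set ↥(Cfsg.Sz F m)) :=
          Subgroup.mul_mem _ hc' (Subgroup.inv_mem _ hc)
        have h2 : (c' * c⁻¹) • oInf F m = oInf F m := by
          rw [← e1]
          exact (mem_szB _).mp ((szB F m).mul_mem ((szB F m).inv_mem hwB') hwB)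
        have h3 := torus_inter_B hm hF h u hu hz _ h1 h2
        have hcc : c' = c := mul_inv_eq_one.mp h3
        have hww : w = w' := by
          rw [h3] at e1
          exact (inv_mul_eq_one.mp e1).symm
        subst hcc
        subst hww
        rfl
      · rw [Nat.card_prod, hcard]
    obtain ⟨⟨⟨w, hwN, hwB⟩, ⟨c, hc⟩⟩, hwc⟩ := hbij.2 ⟨y, hyu⟩
    have hwc' : w * c = y := congrArg Subtype.val hwc
    have hc1 : c ≠ 1 := by
      rintro rfl
      rw [mul_one] at hwc'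
      rw [← hwc'] at hyinf
      exact hyinf ((mem_szB _).mp hwB)
    have hcs := szSS_of_mem_cent hm hF u c hu hc hc1
    have hNc := szNT_eq_of_mem hm hF u c hu hc hc1
    have hmem : ∀ j : ℕ, Nat.card ↥(szNT c) =
        j * Nat.card ↥(Subgroup.centralizer ({c} : Set ↥(Cfsg.Sz F m))) → (c, w) ∈ szP j x := by
      intro j hj
      refine ⟨hcs, ?_, hj, ?_, (mem_szB _).mp hwB⟩
      · show x ∈ szNT c
        rw [hNc]
        exact hxu
      · show w ∈ szNT c
        rw [hNc]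
        exact hwN
    rcases szSS_normalizer hm hF c hcs with ⟨-, h2⟩ | h4
    · exact Or.inl ⟨(c, w), hmem 2 h2, hwc'⟩
    · exact Or.inr ⟨(c, w), hmem 4 h4, hwc'⟩
  -- the two images are disjoint and cover
  have hcover : szR x = (fun p : ↥(Cfsg.Sz F m) × ↥(Cfsg.Sz F m) => p.2 * p.1) '' (szP 2 x) ∪
      (fun p : ↥(Cfsg.Sz F m) × ↥(Cfsg.Sz F m) => p.2 * p.1) '' (szP 4 x) := by
    ext y
    constructor
    · intro hy
      rcases hsurj y hy with ⟨p, hp, hpy⟩ | ⟨p, hp, hpy⟩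
      · exact Or.inl ⟨p, hp, hpy⟩
      · exact Or.inr ⟨p, hp, hpy⟩
    · rintro (⟨p, hp, rfl⟩ | ⟨p, hp, rfl⟩)
      · exact himg 2 p hp
      · exact himg 4 p hp
  have hdisj : Disjoint
      ((fun p : ↥(Cfsg.Sz F m) × ↥(Cfsg.Sz F m) => p.2 * p.1) '' (szP 2 x))
      ((fun p : ↥(Cfsg.Sz F m) × ↥(Cfsg.Sz F m) => p.2 * p.1) '' (szP 4 x)) := by
    rw [Set.disjoint_left]
    rintro y ⟨p, hp, rfl⟩ ⟨p', hp', hpp⟩
    have hpp' : p'.2 * p'.1 = p.2 * p.1 := hpp
    have e := hinj 4 2 p' hp' p hp hpp'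
    rw [e] at hp'
    have h2 := hp.2.2.1
    have h4 := hp'.2.2.1
    have hpos : 0 < Nat.card ↥(Subgroup.centralizer ({p.1} : Set ↥(Cfsg.Sz F m))) := Nat.card_pos
    rw [h2] at h4
    have : 2 = 4 := Nat.eq_of_mul_eq_mul_right hpos h4
    omega
  rw [hcover, Set.ncard_union_eq hdisj (Set.toFinite _) (Set.toFinite _),
    Set.InjOn.ncard_image (fun p hp p' hp' hpp => hinj 2 2 p hp p' hp' hpp),
    Set.InjOn.ncard_image (fun p hp p' hp' hpp => hinj 4 4 p hp p' hp' hpp),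
    szP_card hm hF h x hxz 2, szP_card hm hF h x hxz 4]
  rfl

end Sol3

end Cfsg.Agent.Lib.Helper37
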