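-- helper37: Suzuki groups, part 46: the solubilizer of a 2-element, counting.
import Mathlib
import Cfsg.Prelude.Def_LieExceptional
import Cfsg.Agent.Lib.Helper37.SzSol3

set_option autoImplicit false

namespace Cfsg.Agent.Lib.Helper37

section Sol4

variable {F : Type*} [Field F] [Fintype F] {m : ℕ}

/-- the solubilizer of an element with a unique fixed point -/
theorem sol_two_card (hm : 1 ≤ m) (hp : (2 * m + 1).Prime)
    (hF : Fintype.card F = 2 ^ (2 * m + 1)) (h : SzData F (2 ^ (m + 1)))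
    (x : ↥(Cfsg.Sz F m)) (hx : x • oInf F m = oInf F m)
    (hfix : ∀ p : ↥(Cfsg.suzukiOvoid F m), x • p = p → p = oInf F m)
    (hxz : ∀ a : ↥(Cfsg.Sz F m), x ∈ szNT a → szTm h 0 1 ∈ szNT a) :
    Nat.card {y : ↥(Cfsg.Sz F m) //
        Group.IsSolvable ↥(Subgroup.closure ({x, y} : Set ↥(Cfsg.Sz F m)))} =
      (2 ^ (2 * m + 1)) ^ 2 * (2 ^ (2 * m + 1) - 1) +
        (2 * (szY2 x).ncard + 4 * (szY4 x).ncard) := by
  have hset : {y : ↥(Cfsg.Sz F m) |
      Group.IsSolvable ↥(Subgroup.closure ({x, y} : Set ↥(Cfsg.Sz F m)))} =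
      ((szB F m : Subgroup ↥(Cfsg.Sz F m)) : Set ↥(Cfsg.Sz F m)) ∪ szR x := by
    ext y
    rw [Set.mem_ofPred_eq, sz_solvable_iff hm hp hF x y]
    constructor
    · rintro (⟨p, hxp, hyp⟩ | ⟨u, hu, hxu, hyu⟩)
      · left
        have hpi := hfix p hxp
        subst hpi
        exact (mem_szB _).mpr hyp
      · by_cases hy : y • oInf F m = oInf F m
        · left
          exact (mem_szB _).mpr hy
        · right
          exact ⟨hy, u, hu, hxu, hyu⟩
    · rintro (hy | ⟨hy, u, hu, hxu, hyu⟩)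
      · left
        exact ⟨oInf F m, hx, (mem_szB _).mp hy⟩
      · right
        exact ⟨u, hu, hxu, hyu⟩
  have hdisj : Disjoint ((szB F m : Subgroup ↥(Cfsg.Sz F m)) : Set ↥(Cfsg.Sz F m)) (szR x) := by
    rw [Set.disjoint_left]
    rintro y hy ⟨hy', -⟩
    exact hy' ((mem_szB _).mp hy)
  have e1 : Nat.card {y : ↥(Cfsg.Sz F m) //
        Group.IsSolvable ↥(Subgroup.closure ({x, y} : Set ↥(Cfsg.Sz F m)))} =
      {y : ↥(Cfsg.Sz F m) |
        Group.IsSolvable ↥(Subgroup.closure ({x, y} : Set ↥(Cfsg.Sz F m)))}.ncard :=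
    Nat.card_coe_set_eq _
  rw [e1, hset, Set.ncard_union_eq hdisj (Set.toFinite _) (Set.toFinite _),
    szR_card hm hF h x hxz, ← card_szB hm hF]
  congr 1

/-- the central involutions form a group of order `q` -/
theorem card_szZsub (h : SzData F (2 ^ (m + 1))) :
    Nat.card ↥(szZsub (m := m) h) = Nat.card F := by
  apply Nat.card_congr
  exact (Equiv.ofBijective (fun c : F => (⟨szTm h 0 c, c, rfl⟩ : ↥(szZsub (m := m) h)))
    ⟨fun c d hcd => (szTm_inj h (congrArg Subtype.val hcd)).2,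
     fun ⟨g, c, hc⟩ => ⟨c, Subtype.ext hc.symm⟩⟩).symm

/-- every involution is conjugate to a central involution of the standard Sylow subgroup -/
theorem invol_conj (hF : Fintype.card F = 2 ^ (2 * m + 1)) (h : SzData F (2 ^ (m + 1)))
    (t : ↥(Cfsg.Sz F m)) (htt : t * t = 1) (ht1 : t ≠ 1) :
    ∃ (k : ↥(Cfsg.Sz F m)) (c : F), c ≠ 0 ∧ t = k * szTm h 0 c * k⁻¹ := by
  obtain ⟨a, ha⟩ := sz_involution_fixes hF t htt
  obtain ⟨k, hk⟩ := sz_exists_smul_inf h a
  have h1 : (k⁻¹ * t * k) • oInf F m = oInf F m := by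
    rw [mul_smul, mul_smul, hk, ha, ← hk, inv_smul_smul]
  have h2 : (k⁻¹ * t * k) * (k⁻¹ * t * k) = 1 := by
    have e : (k⁻¹ * t * k) * (k⁻¹ * t * k) = k⁻¹ * (t * t) * k := by group
    rw [e, htt]
    group
  obtain ⟨c, hc⟩ := sz_involution_inf h _ h2 h1
  refine ⟨k, c, ?_, ?_⟩
  · rintro rfl
    rw [szTm_zero] at hc
    apply ht1
    have e : t = k * (k⁻¹ * t * k) * k⁻¹ := by group
    rw [e, hc]
    group
  · rw [← hc]
    group

/-- every involution is conjugate to the standard one -/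
theorem invol_conj_z (hF : Fintype.card F = 2 ^ (2 * m + 1)) (h : SzData F (2 ^ (m + 1)))
    (t : ↥(Cfsg.Sz F m)) (htt : t * t = 1) (ht1 : t ≠ 1) :
    ∃ g : ↥(Cfsg.Sz F m), t = g * szTm h 0 1 * g⁻¹ := by
  obtain ⟨k, c, hc0, hc⟩ := invol_conj hF h t htt ht1
  obtain ⟨μ, hμ⟩ := h.exists_unit_scale c⁻¹ (inv_ne_zero hc0)
  have e := szHsub_conj_szTm h μ 0 c
  rw [hμ, mul_zero, inv_mul_cancel₀ hc0] at e
  refine ⟨k * (szHsub h μ)⁻¹, ?_⟩
  rw [← e, hc]
  group

/-- the number of involutions -/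
theorem relZ_card (hm : 1 ≤ m) (hF : Fintype.card F = 2 ^ (2 * m + 1))
    (h : SzData F (2 ^ (m + 1))) :
    (relConj (⊤ : Subgroup ↥(Cfsg.Sz F m)) (szZsub h)).ncard =
      ((2 ^ (2 * m + 1)) ^ 2 + 1) * (2 ^ (2 * m + 1) - 1) := by
  have h1 := relConj_card (⊤ : Subgroup ↥(Cfsg.Sz F m)) (szZsub h) (szB F m) le_top
    (by
      rintro g hgB c ⟨c', rfl⟩
      obtain ⟨u, v, μ, rfl⟩ := sz_stab_inf' h g ((mem_szB _).mp hgB)
      exact ⟨_, sz_conj_central h u v μ c'⟩)
    (by
      rintro g - c ⟨c', rfl⟩ hc1 ⟨c'', hc''⟩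
      apply (mem_szB _).mpr
      have hab : ¬ ((0 : F) = 0 ∧ c' = 0) := by
        rintro ⟨-, rfl⟩
        exact hc1 (szTm_zero h)
      have hfix : (g * szTm h 0 c' * g⁻¹) • oInf F m = oInf F m := by
        rw [hc'']
        exact szTm_smul_inf h 0 c''
      exact (sz_T_conj_fix h g 0 c' hab _ hfix).symm)
  rw [Subgroup.card_top, card_sz hm hF, card_szB hm hF, card_szZsub h, Nat.card_eq_fintype_card,
    hF] at h1
  have hq : 1 ≤ 2 ^ (2 * m + 1) := Nat.one_le_two_pow
  obtain ⟨r, hr⟩ : ∃ r, r = 2 ^ (2 * m + 1) - 1 := ⟨_, rfl⟩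
  rw [← hr] at h1 ⊢
  have hr1 : 0 < r := by
    have : 2 ^ 1 < 2 ^ (2 * m + 1) := Nat.pow_lt_pow_right (by norm_num) (by omega)
    omega
  have hpos : 0 < (2 ^ (2 * m + 1)) ^ 2 * r := Nat.mul_pos (by positivity) hr1
  apply Nat.eq_of_mul_eq_mul_right hpos
  rw [h1]
  ring

/-- the involutions moving the point at infinity -/
def szJ (F : Type*) [Field F] (m : ℕ) : Set ↥(Cfsg.Sz F m) :=
  {t | t * t = 1 ∧ t • oInf F m ≠ oInf F m}

theorem szJ_card (hm : 1 ≤ m) (hF : Fintype.card F = 2 ^ (2 * m + 1))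
    (h : SzData F (2 ^ (m + 1))) :
    (szJ F m).ncard = (2 ^ (2 * m + 1)) ^ 2 * (2 ^ (2 * m + 1) - 1) := by
  have hsplit : relConj (⊤ : Subgroup ↥(Cfsg.Sz F m)) (szZsub h) =
      (((szZsub h : Subgroup ↥(Cfsg.Sz F m)) : Set ↥(Cfsg.Sz F m)) \ {1}) ∪ szJ F m := by
    ext u
    constructor
    · rintro ⟨hu1, g, -, c, hc⟩
      have e : u = g * szTm h 0 c * g⁻¹ := by
        rw [← hc]
        group
      have huu : u * u = 1 := by
        rw [e]
        have e2 : g * szTm h 0 c * g⁻¹ * (g * szTm h 0 c * g⁻¹) =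
            g * (szTm h 0 c * szTm h 0 c) * g⁻¹ := by group
        rw [e2, szTm_central_sq]
        group
      by_cases hfix : u • oInf F m = oInf F m
      · left
        obtain ⟨b, hb⟩ := sz_involution_inf h u huu hfix
        exact ⟨⟨b, hb⟩, hu1⟩
      · right
        exact ⟨huu, hfix⟩
    · rintro (⟨⟨b, hb⟩, hu1⟩ | ⟨huu, hfix⟩)
      · refine ⟨hu1, 1, Subgroup.mem_top _, b, ?_⟩
        rw [hb]
        group
      · have hu1 : u ≠ 1 := by
          rintro rfl
          exact hfix (one_smul _ _)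
        obtain ⟨k, c, -, hc⟩ := invol_conj hF h u huu hu1
        refine ⟨hu1, k, Subgroup.mem_top _, c, ?_⟩
        rw [hc]
        group
  have hdisj : Disjoint
      (((szZsub h : Subgroup ↥(Cfsg.Sz F m)) : Set ↥(Cfsg.Sz F m)) \ {1}) (szJ F m) := by
    rw [Set.disjoint_left]
    rintro u ⟨⟨b, hb⟩, -⟩ ⟨-, hfix⟩
    apply hfix
    rw [hb]
    exact szTm_smul_inf h 0 b
  have hZ1 : (((szZsub h : Subgroup ↥(Cfsg.Sz F m)) : Set ↥(Cfsg.Sz F m)) \ {1}).ncard =
      2 ^ (2 * m + 1) - 1 := by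
    rw [Set.ncard_sdiff_singleton_of_mem (Subgroup.one_mem _), ← hF, ← Nat.card_eq_fintype_card,
      ← card_szZsub h]
    congr 1
  have h1 := relZ_card hm hF h
  rw [hsplit, Set.ncard_union_eq hdisj (Set.toFinite _) (Set.toFinite _), hZ1] at h1
  obtain ⟨r, hr⟩ : ∃ r, r = 2 ^ (2 * m + 1) - 1 := ⟨_, rfl⟩
  rw [← hr] at h1 ⊢
  have e : ((2 ^ (2 * m + 1)) ^ 2 + 1) * r = (2 ^ (2 * m + 1)) ^ 2 * r + r := by ring
  omega

/-- the tori normalised by the standard involution correspond to the involutions moving the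
point at infinity -/
theorem szY_z_card (hm : 1 ≤ m) (hF : Fintype.card F = 2 ^ (2 * m + 1))
    (h : SzData F (2 ^ (m + 1))) :
    (szY (szTm (m := m) h 0 1)).ncard = (2 ^ (2 * m + 1)) ^ 2 * (2 ^ (2 * m + 1) - 1) := by
  have himg : szY (szTm (m := m) h 0 1) = (fun t => szTm h 0 1 * t) '' (szJ F m) := by
    ext a
    constructor
    · rintro ⟨ha, hz⟩
      have hinv := szSS_norm_inverts hm hF a ha (szTm h 0 1) hz (z_sq h) (z_ne_one h) a
        (self_mem_cent a)
      rw [z_inv] at hinv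
      refine ⟨szTm h 0 1 * a, ⟨?_, ?_⟩, ?_⟩
      · calc szTm h 0 1 * a * (szTm h 0 1 * a) = (szTm h 0 1 * a * szTm h 0 1) * a := by group
          _ = 1 := by
            rw [hinv]
            group
      · intro hc
        apply ha.1
        apply torus_inter_B hm hF h a ha hz a (self_mem_cent a)
        calc a • oInf F m = (szTm h 0 1 * (szTm h 0 1 * a)) • oInf F m := by
              rw [← mul_assoc, z_sq, one_mul]
          _ = oInf F m := by rw [mul_smul, hc, szTm_smul_inf]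
      · show szTm h 0 1 * (szTm h 0 1 * a) = a
        rw [← mul_assoc, z_sq, one_mul]
    · rintro ⟨t, ⟨htt, hfix⟩, rfl⟩
      refine ⟨sz_invol_prod_odd hm hF (szTm h 0 1) t (z_sq h) htt (z_ne_one h) (oInf F m)
        (szTm_smul_inf h 0 1) hfix, ?_⟩
      apply normalizer_cent_of_inverts
      rw [z_inv]
      have e1 : (szTm h 0 1 * t)⁻¹ = t * szTm h 0 1 := by
        rw [mul_inv_rev, z_inv]
        congr 1
        exact inv_eq_of_mul_eq_one_right htt
      rw [e1, ← mul_assoc, z_sq, one_mul]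
  rw [himg, Set.ncard_image_of_injective _ (mul_right_injective _), szJ_card hm hF h]

theorem szY_split (hm : 1 ≤ m) (hF : Fintype.card F = 2 ^ (2 * m + 1)) (x : ↥(Cfsg.Sz F m)) :
    (szY x).ncard = (szY2 x).ncard + (szY4 x).ncard := by
  have hu : szY x = szY2 x ∪ szY4 x := by
    ext a
    constructor
    · rintro ⟨ha, hx⟩
      rcases szSS_normalizer hm hF a ha with ⟨-, h2⟩ | h4
      · left
        exact ⟨ha, hx, h2⟩
      · right
        exact ⟨ha, hx, h4⟩
    · rintro (⟨ha, hx, -⟩ | ⟨ha, hx, -⟩)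
      · exact ⟨ha, hx⟩
      · exact ⟨ha, hx⟩
  have hdisj : Disjoint (szY2 x) (szY4 x) := by
    rw [Set.disjoint_left]
    rintro a ⟨-, -, h2⟩ ⟨-, -, h4⟩
    have hpos : 0 < Nat.card ↥(Subgroup.centralizer ({a} : Set ↥(Cfsg.Sz F m))) := Nat.card_pos
    rw [h2] at h4
    have : 2 = 4 := Nat.eq_of_mul_eq_mul_right hpos h4
    omega
  rw [hu, Set.ncard_union_eq hdisj (Set.toFinite _) (Set.toFinite _)]

/-- the split tori normalised by the standard involution, counted through their fixed points -/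
theorem szY2_z_card (hm : 1 ≤ m) (hF : Fintype.card F = 2 ^ (2 * m + 1))
    (h : SzData F (2 ^ (m + 1))) :
    2 * (szY2 (szTm (m := m) h 0 1)).ncard = (2 ^ (2 * m + 1)) ^ 2 * (2 ^ (2 * m + 1) - 2) := by
  classical
  obtain ⟨P, hP⟩ : ∃ P : Set (↥(Cfsg.Sz F m) × ↥(Cfsg.suzukiOvoid F m)),
      P = {p | p.1 ∈ szY2 (szTm (m := m) h 0 1) ∧ p.1 • p.2 = p.2} := ⟨_, rfl⟩
  have hPmem : ∀ p, p ∈ P ↔ (p.1 ∈ szY2 (szTm (m := m) h 0 1) ∧ p.1 • p.2 = p.2) := by
    intro p
    rw [hP]
    rfl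
  have h1 : P.ncard = 2 * (szY2 (szTm (m := m) h 0 1)).ncard := by
    apply ncard_eq_mul_of_fibers P _ Prod.fst 2 (Set.toFinite _) (Set.toFinite _)
    · intro p hp
      exact ((hPmem p).mp hp).1
    · rintro a ⟨hss, hz, hN⟩
      rcases szSS_type hm hF h a hss with ⟨k, μ, hμ, rfl⟩ | ⟨-, h4⟩
      · have hset : {p | p ∈ P ∧ p.1 = k * szHsub h μ * k⁻¹} =
            (fun ω => (k * szHsub h μ * k⁻¹, ω)) '' {k • oInf F m, k • oPt m (0 : F) 0} := by
          ext ⟨a', ω⟩
          constructor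
          · rintro ⟨hp, hfst⟩
            have hfst' : a' = k * szHsub h μ * k⁻¹ := hfst
            subst hfst'
            have hfix := ((hPmem _).mp hp).2
            rcases sz_H_conj_fix h k μ hμ ω hfix with rfl | rfl
            · exact ⟨_, Or.inl rfl, rfl⟩
            · exact ⟨_, Or.inr rfl, rfl⟩
          · rintro ⟨ω', hω', hpair⟩
            obtain ⟨rfl, rfl⟩ := Prod.mk.inj hpair
            refine ⟨(hPmem _).mpr ⟨⟨hss, hz, hN⟩, ?_⟩, rfl⟩
            rcases hω' with rfl | rfl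
            · exact sz_H_conj_smul_inf h k μ
            · exact sz_H_conj_smul_zero h k μ
        rw [hset, Set.ncard_image_of_injective _ (fun ω ω' hω => (Prod.mk.inj hω).2)]
        apply Set.ncard_pair
        intro hc
        exact oPt_ne_oInf 0 0 (smul_left_cancel k hc).symm
      · exfalso
        have hpos : 0 < Nat.card ↥(Subgroup.centralizer ({a} : Set ↥(Cfsg.Sz F m))) :=
          Nat.card_pos
        rw [hN] at h4
        have : 2 = 4 := Nat.eq_of_mul_eq_mul_right hpos h4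
        omega
  have hΩ : ({ω : ↥(Cfsg.suzukiOvoid F m) | ω ≠ oInf F m}).ncard = (2 ^ (2 * m + 1)) ^ 2 := by
    have e : {ω : ↥(Cfsg.suzukiOvoid F m) | ω ≠ oInf F m} = Set.univ \ {oInf F m} := by
      ext ω
      simp
    rw [e, Set.ncard_sdiff_singleton_of_mem (Set.mem_univ _), Set.ncard_univ, card_suzukiOvoid hF]
    rfl
  have hU : ({μ : Fˣ | μ ≠ 1}).ncard = 2 ^ (2 * m + 1) - 2 := by
    have e : {μ : Fˣ | μ ≠ 1} = Set.univ \ {1} := by
      ext μ
      simp
    rw [e, Set.ncard_sdiff_singleton_of_mem (Set.mem_univ _), Set.ncard_univ, Nat.card_units,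
      Nat.card_eq_fintype_card, hF]
    omega
  have h2 : P.ncard = (2 ^ (2 * m + 1) - 2) * ({ω : ↥(Cfsg.suzukiOvoid F m) | ω ≠ oInf F m}).ncard := by
    apply ncard_eq_mul_of_fibers P _ Prod.snd (2 ^ (2 * m + 1) - 2) (Set.toFinite _)
      (Set.toFinite _)
    · rintro ⟨a, ω⟩ hp
      obtain ⟨⟨hss, hz, hN⟩, hfix⟩ := (hPmem _).mp hp
      intro hω
      have hω' : ω = oInf F m := hω
      subst hω'
      exact hss.1 (torus_inter_B hm hF h a hss hz a (self_mem_cent a) hfix)
    · intro ω hω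
      have hzω : szTm h 0 1 • ω ≠ ω := fun hc => hω (z_fix h ω hc)
      obtain ⟨k, hk1, hk2⟩ := MulAction.is_two_pretransitive_iff.mp h.sz_two_trans
        (oPt_ne_oInf (m := m) (0 : F) 0).symm hzω.symm
      have hset : {p | p ∈ P ∧ p.2 = ω} =
          (fun μ : Fˣ => (k * szHsub h μ * k⁻¹, ω)) '' {μ : Fˣ | μ ≠ 1} := by
        ext ⟨a, ω'⟩
        constructor
        · rintro ⟨hp, hsnd⟩
          have hsnd' : ω' = ω := hsnd
          subst hsnd'
          obtain ⟨⟨hss, hz, hN⟩, hfix⟩ := (hPmem _).mp hp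
          have hfix' : a • ω' = ω' := hfix
          have hinv := szSS_norm_inverts hm hF a hss (szTm h 0 1) hz (z_sq h) (z_ne_one h) a
            (self_mem_cent a)
          rw [z_inv] at hinv
          have hfix2 : a • (szTm h 0 1 • ω') = szTm h 0 1 • ω' := by
            have e : a * szTm h 0 1 = szTm h 0 1 * a⁻¹ := by
              calc a * szTm h 0 1 = szTm h 0 1 * szTm h 0 1 * a * szTm h 0 1 := by
                    rw [z_sq, one_mul]
                _ = szTm h 0 1 * (szTm h 0 1 * a * szTm h 0 1) := by group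
                _ = szTm h 0 1 * a⁻¹ := by rw [hinv]
            rw [← mul_smul, e, mul_smul]
            congr 1
            rw [inv_smul_eq_iff, hfix']
          have h1' : (k⁻¹ * a * k) • oInf F m = oInf F m := by
            rw [mul_smul, mul_smul, hk1, hfix', ← hk1, inv_smul_smul]
          have h2' : (k⁻¹ * a * k) • oPt m (0 : F) 0 = oPt m (0 : F) 0 := by
            rw [mul_smul, mul_smul, hk2, hfix2, ← hk2, inv_smul_smul]
          obtain ⟨μ, hμ⟩ := sz_two_point' h _ h1' h2'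
          have ea : a = k * szHsub h μ * k⁻¹ := by
            rw [← hμ]
            group
          refine ⟨μ, ?_, ?_⟩
          · rintro rfl
            apply hss.1
            rw [ea, szHsub_one]
            group
          · show (k * szHsub h μ * k⁻¹, ω') = (a, ω')
            rw [ea]
        · rintro ⟨μ, hμ, hpair⟩
          obtain ⟨rfl, rfl⟩ := Prod.mk.inj hpair
          have hμ' : μ ≠ 1 := hμ
          refine ⟨(hPmem _).mpr ⟨⟨szSS_split hm hF h k μ hμ', ?_, ?_⟩, ?_⟩, rfl⟩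
          · have h1' : (k⁻¹ * szTm h 0 1 * k) • oInf F m = oPt m (0 : F) 0 := by
              rw [mul_smul, mul_smul, hk1, ← hk2, inv_smul_smul]
            have h2' : (k⁻¹ * szTm h 0 1 * k) • oPt m (0 : F) 0 = oInf F m := by
              rw [mul_smul, mul_smul, hk2, ← mul_smul (szTm h 0 1), z_sq, one_smul, ← hk1,
                inv_smul_smul]
            obtain ⟨μ', hμ'2⟩ := sz_swap h _ h1' h2'
            apply (split_norm hm hF h k μ hμ' _).mpr
            right
            refine ⟨μ', ?_⟩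
            rw [← hμ'2]
            group
          · rw [split_norm_card hm hF h k μ hμ', split_cent_card hF h k μ hμ']
          · show (k * szHsub h μ * k⁻¹) • _ = _
            rw [← hk1]
            exact sz_H_conj_smul_inf h k μ
      rw [hset, Set.ncard_image_of_injective _
        (fun μ μ' hμμ => szHsub_inj h (mul_left_cancel (mul_right_cancel (Prod.mk.inj hμμ).1))),
        hU]
  rw [← h1, h2, hΩ, mul_comm]

/-- the additive map `c ↦ c ^ s + c` and its translate by `1` cover the field -/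
theorem SzData.wp_cover {s : ℕ} (h : SzData F s) (t : F) :
    ∃ c : F, t = c ^ s + c ∨ t = 1 + (c ^ s + c) := by
  classical
  have hker : ∀ c c' : F, c ^ s + c = c' ^ s + c' → c' = c ∨ c' = c + 1 := by
    intro c c' hcc
    have h1 : (c + c') ^ s = c + c' := by
      rw [h.add]
      linear_combination hcc + (c' ^ s - c) * h.two
    have h2 := h.sq (c + c')
    rw [h1, h1] at h2
    have h3 : (c + c') * (c + c' - 1) = 0 := by linear_combination -h2
    rcases mul_eq_zero.mp h3 with h4 | h4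
    · left
      linear_combination h4 - c * h.two
    · right
      linear_combination h4 - c * h.two
  obtain ⟨S, hS⟩ : ∃ S : Finset F, S = Finset.univ.image (fun c : F => c ^ s + c) := ⟨_, rfl⟩
  have h1 : Fintype.card F ≤ 2 * S.card := by
    have h0 := Finset.card_le_mul_card_image (f := fun c : F => c ^ s + c)
      (Finset.univ : Finset F) 2 (by
        intro a ha
        obtain ⟨c, -, rfl⟩ := Finset.mem_image.mp ha
        calc (Finset.univ.filter (fun x : F => x ^ s + x = c ^ s + c)).card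
            ≤ ({c, c + 1} : Finset F).card := by
              apply Finset.card_le_card
              intro c' hc'
              have hc'' := (Finset.mem_filter.mp hc').2
              rcases hker c c' hc''.symm with rfl | rfl <;> simp
          _ ≤ 2 := Finset.card_le_two)
    rw [hS]
    exact h0
  obtain ⟨S', hS'⟩ : ∃ S' : Finset F, S' = S.image (fun t : F => 1 + t) := ⟨_, rfl⟩
  have h2 : S'.card = S.card := by
    rw [hS']
    exact Finset.card_image_of_injective _ (add_right_injective 1)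
  have hdisj : Disjoint S S' := by
    rw [Finset.disjoint_left]
    intro t ht ht'
    rw [hS] at ht
    rw [hS'] at ht'
    obtain ⟨c, -, rfl⟩ := Finset.mem_image.mp ht
    obtain ⟨t', ht'2, e⟩ := Finset.mem_image.mp ht'
    rw [hS] at ht'2
    obtain ⟨c', -, rfl⟩ := Finset.mem_image.mp ht'2
    apply h.no_root (c + c')
    rw [h.add]
    have e' : 1 + (c' ^ s + c') = c ^ s + c := e
    linear_combination e' + (c ^ s + c) * h.two
  have h3 : S ∪ S' = Finset.univ := by
    apply Finset.eq_univ_of_card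
    have h4 := Finset.card_le_univ (S ∪ S')
    rw [Finset.card_union_of_disjoint hdisj, h2] at h4 ⊢
    omega
  have ht : t ∈ S ∪ S' := by
    rw [h3]
    exact Finset.mem_univ t
  rcases Finset.mem_union.mp ht with ht | ht
  · rw [hS] at ht
    obtain ⟨c, -, hc⟩ := Finset.mem_image.mp ht
    exact ⟨c, Or.inl hc.symm⟩
  · rw [hS'] at ht
    obtain ⟨t', ht', e⟩ := Finset.mem_image.mp ht
    rw [hS] at ht'
    obtain ⟨c, -, hc⟩ := Finset.mem_image.mp ht'
    refine ⟨c, Or.inr ?_⟩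
    rw [← e, ← hc]

/-- the elements of order four squaring to the standard involution fall into two mutually
inverse classes -/
theorem szT_one_conj (h : SzData F (2 ^ (m + 1))) (b b' : F) :
    ∃ g : ↥(Cfsg.Sz F m), szTm h 1 b' = g * szTm h 1 b * g⁻¹ ∨
      szTm h 1 b' = g * (szTm h 1 b)⁻¹ * g⁻¹ := by
  have key : ∀ c b₀ : F, szTm (m := m) h c 0 * szTm h 1 b₀ * (szTm h c 0)⁻¹ =
      szTm h 1 (b₀ + (c ^ 2 ^ (m + 1) + c)) := by
    intro c b₀
    rw [mul_inv_eq_iff_eq_mul, szTm_mul, szTm_mul]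
    have e1 : c + 1 = 1 + c := add_comm _ _
    have e2 : (0 + b₀ + c ^ 2 ^ (m + 1) * 1) =
        (b₀ + (c ^ 2 ^ (m + 1) + c) + 0 + 1 ^ 2 ^ (m + 1) * c) := by
      rw [one_pow]
      linear_combination (-c) * h.two
    rw [e1, e2]
  obtain ⟨c, hc | hc⟩ := h.wp_cover (b + b')
  · refine ⟨szTm h c 0, Or.inl ?_⟩
    rw [key, ← hc]
    congr 1
    linear_combination (-b) * h.two
  · refine ⟨szTm h c 0, Or.inr ?_⟩
    rw [szTm_inv, key, one_pow]
    congr 1
    linear_combination hc - b * h.two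

/-- the square roots of the standard involution -/
theorem sq_eq_z (h : SzData F (2 ^ (m + 1))) (x' : ↥(Cfsg.Sz F m))
    (hx : x' * x' = szTm h 0 1) : ∃ b : F, x' = szTm h 1 b := by
  have hcomm : x' * szTm h 0 1 = szTm h 0 1 * x' := by rw [← hx, mul_assoc]
  have hfix := z_comm_fix h x' hcomm
  obtain ⟨a, b, μ, rfl⟩ := sz_stab_inf' h x' hfix
  have hμ : μ = 1 := by
    by_contra hμ
    obtain ⟨a', b', hab⟩ := sz_TH_fixed_pt h a b μ hμ
    have hz : szTm h 0 1 • oPt m a' b' = oPt m a' b' := by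
      rw [← hx, mul_smul, hab, hab]
    exact oPt_ne_oInf a' b' (z_fix h _ hz)
  subst hμ
  rw [szHsub_one, mul_one] at hx ⊢
  rw [szTm_sq] at hx
  have h1 := (szTm_inj h hx).2
  have h2 : a ^ (2 ^ (m + 1) + 1) = 1 := by
    rw [pow_succ]
    exact h1
  have h3 := h.pow_succ_eq_one h2
  exact ⟨b, by rw [h3]⟩

theorem szY4_conj (g x : ↥(Cfsg.Sz F m)) : (szY4 (g * x * g⁻¹)).ncard = (szY4 x).ncard := by
  have key : ∀ g x : ↥(Cfsg.Sz F m), (szY4 x).ncard ≤ (szY4 (g * x * g⁻¹)).ncard := by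
    intro g x
    apply Set.ncard_le_ncard_of_injOn (fun a => g * a * g⁻¹) ?_ ?_ (Set.toFinite _)
    · rintro a ⟨ha, hx, hN⟩
      refine ⟨szSS_conj a g ha, normalizer_cent_conj_mem g a x hx, ?_⟩
      show Nat.card ↥(Subgroup.normalizer ((Subgroup.centralizer ({g * a * g⁻¹} :
        Set ↥(Cfsg.Sz F m)) : Subgroup ↥(Cfsg.Sz F m)) : Set ↥(Cfsg.Sz F m))) =
        4 * Nat.card ↥(Subgroup.centralizer ({g * a * g⁻¹} : Set ↥(Cfsg.Sz F m)))
      rw [card_normalizer_cent_conj, card_cent_conj]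
      exact hN
    · intro a _ a' _ haa
      have haa' : g * a * g⁻¹ = g * a' * g⁻¹ := haa
      exact mul_left_cancel (mul_right_cancel haa')
  apply le_antisymm
  · have h1 := key g⁻¹ (g * x * g⁻¹)
    have e : g⁻¹ * (g * x * g⁻¹) * g⁻¹⁻¹ = x := by group
    rw [e] at h1
    exact h1
  · exact key g x

omit [Fintype F] in
theorem szY4_inv (x : ↥(Cfsg.Sz F m)) : szY4 x⁻¹ = szY4 x := by
  ext a
  constructor
  · rintro ⟨ha, hx, hN⟩
    exact ⟨ha, inv_mem_iff.mp hx, hN⟩
  · rintro ⟨ha, hx, hN⟩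
    exact ⟨ha, inv_mem_iff.mpr hx, hN⟩

/-- the tori of index four normalised by an element of order four -/
theorem szY4_T_card (hm : 1 ≤ m) (hF : Fintype.card F = 2 ^ (2 * m + 1))
    (h : SzData F (2 ^ (m + 1))) (b : F) :
    2 ^ (2 * m + 1) * (szY4 (szTm (m := m) h 1 b)).ncard =
      2 * (szY4 (szTm (m := m) h 0 1)).ncard := by
  obtain ⟨Q, hQ⟩ : ∃ Q : Set (↥(Cfsg.Sz F m) × ↥(Cfsg.Sz F m)),
      Q = {p | p.1 * p.1 = szTm h 0 1 ∧ p.2 ∈ szY4 (szTm (m := m) h 0 1) ∧ p.1 ∈ szNT p.2} :=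
    ⟨_, rfl⟩
  have hQmem : ∀ p, p ∈ Q ↔ (p.1 * p.1 = szTm h 0 1 ∧ p.2 ∈ szY4 (szTm (m := m) h 0 1) ∧
      p.1 ∈ szNT p.2) := by
    intro p
    rw [hQ]
    rfl
  have h1 : Q.ncard = 2 * (szY4 (szTm (m := m) h 0 1)).ncard := by
    apply ncard_eq_mul_of_fibers Q _ Prod.snd 2 (Set.toFinite _) (Set.toFinite _)
    · intro p hp
      exact ((hQmem p).mp hp).2.1
    · rintro a ⟨hss, hz, hN⟩
      have hcard := torus_norm_B_card hm hF h a hss hz
      rw [hN] at hcard
      have hpos : 0 < Nat.card ↥(Subgroup.centralizer ({a} : Set ↥(Cfsg.Sz F m))) :=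
        Nat.card_pos
      have h4 : Nat.card ↥(szNT a ⊓ szB F m) = 4 := Nat.eq_of_mul_eq_mul_right hpos hcard
      have hset : {p | p ∈ Q ∧ p.2 = a} = (fun x' => (x', a)) ''
          (((szNT a ⊓ szB F m : Subgroup ↥(Cfsg.Sz F m)) : Set ↥(Cfsg.Sz F m)) \
            {1, szTm h 0 1}) := by
        ext ⟨x', a'⟩
        constructor
        · rintro ⟨hp, hsnd⟩
          have hsnd' : a' = a := hsnd
          subst hsnd'
          obtain ⟨hsq, -, hxN⟩ := (hQmem _).mp hp
          have hsq' : x' * x' = szTm h 0 1 := hsq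
          have hxN' : x' ∈ szNT a' := hxN
          have hcomm : x' * szTm h 0 1 = szTm h 0 1 * x' := by rw [← hsq', mul_assoc]
          refine ⟨x', ⟨⟨hxN', (mem_szB _).mpr (z_comm_fix h x' hcomm)⟩, ?_⟩, rfl⟩
          rintro (hx'1 | hx'z)
          · have hx'1' : x' = 1 := hx'1
            rw [hx'1', mul_one] at hsq'
            exact z_ne_one h hsq'.symm
          · have hx'z' : x' = szTm h 0 1 := hx'z
            rw [hx'z', z_sq] at hsq'
            exact z_ne_one h hsq'.symm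
        · rintro ⟨x'', ⟨⟨hxN, hxB⟩, hne⟩, hpair⟩
          obtain ⟨rfl, rfl⟩ := Prod.mk.inj hpair
          refine ⟨(hQmem _).mpr ⟨?_, ⟨hss, hz, hN⟩, hxN⟩, rfl⟩
          have hfixx : x'' • oInf F m = oInf F m := (mem_szB _).mp hxB
          have h5 : (⟨x'', ⟨hxN, hxB⟩⟩ : ↥(szNT a ⊓ szB F m)) ^
              Nat.card ↥(szNT a ⊓ szB F m) = 1 := pow_card_eq_one'
          rw [h4] at h5
          have hpow : x'' ^ 4 = 1 := by simpa using congrArg Subtype.val h5
          have hsq2 : (x'' * x'') * (x'' * x'') = 1 := by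
            rw [← hpow]
            simp [pow_succ, mul_assoc]
          have hsqN : x'' * x'' ∈ szNT a := (szNT a).mul_mem hxN hxN
          have hsqfix : (x'' * x'') • oInf F m = oInf F m := by rw [mul_smul, hfixx, hfixx]
          rcases torus_B_invol hm hF h a hss hz _ hsqN hsqfix hsq2 with h1' | hz'
          · exfalso
            rcases torus_B_invol hm hF h a hss hz x'' hxN hfixx h1' with h1'' | h1''
            · exact hne (Or.inl h1'')
            · exact hne (Or.inr h1'')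
          · exact hz'
      rw [hset, Set.ncard_image_of_injective _ (fun x x' hx => (Prod.mk.inj hx).1)]
      have hsub : ({1, szTm h 0 1} : Set ↥(Cfsg.Sz F m)) ⊆
          ((szNT a ⊓ szB F m : Subgroup ↥(Cfsg.Sz F m)) : Set ↥(Cfsg.Sz F m)) := by
        rintro u (rfl | rfl)
        · exact Subgroup.one_mem _
        · exact ⟨hz, szTm_mem_szB h 0 1⟩
      have h6 : (((szNT a ⊓ szB F m : Subgroup ↥(Cfsg.Sz F m)) : Set ↥(Cfsg.Sz F m))).ncard = 4 :=
        (Nat.card_coe_set_eq _).symm.trans h4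
      rw [Set.ncard_sdiff hsub, h6, Set.ncard_pair (z_ne_one h).symm]
  have h2 : Q.ncard = (szY4 (szTm (m := m) h 1 b)).ncard *
      ({x' : ↥(Cfsg.Sz F m) | x' * x' = szTm h 0 1}).ncard := by
    apply ncard_eq_mul_of_fibers Q _ Prod.fst _ (Set.toFinite _) (Set.toFinite _)
    · intro p hp
      exact ((hQmem p).mp hp).1
    · rintro x' hx'
      have hx'' : x' * x' = szTm h 0 1 := hx'
      have hset : {p | p ∈ Q ∧ p.1 = x'} = (fun a => (x', a)) '' (szY4 x') := by
        ext ⟨x'', a⟩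
        constructor
        · rintro ⟨hp, hfst⟩
          have hfst' : x'' = x' := hfst
          subst hfst'
          obtain ⟨-, ⟨hss, hz, hN⟩, hxN⟩ := (hQmem _).mp hp
          exact ⟨a, ⟨hss, hxN, hN⟩, rfl⟩
        · rintro ⟨a', ⟨hss, hxN, hN⟩, hpair⟩
          obtain ⟨rfl, rfl⟩ := Prod.mk.inj hpair
          refine ⟨(hQmem _).mpr ⟨hx'', ⟨hss, ?_, hN⟩, hxN⟩, rfl⟩
          rw [← hx'']
          exact (szNT a').mul_mem hxN hxN
      rw [hset, Set.ncard_image_of_injective _ (fun a a' ha => (Prod.mk.inj ha).2)]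
      obtain ⟨b', rfl⟩ := sq_eq_z h x' hx''
      obtain ⟨g, hg | hg⟩ := szT_one_conj h b b'
      · rw [hg, szY4_conj]
      · rw [hg, szY4_conj, szY4_inv]
  have h3 : ({x' : ↥(Cfsg.Sz F m) | x' * x' = szTm h 0 1}).ncard = 2 ^ (2 * m + 1) := by
    have e : {x' : ↥(Cfsg.Sz F m) | x' * x' = szTm h 0 1} =
        (fun b : F => szTm (m := m) h 1 b) '' Set.univ := by
      ext x'
      constructor
      · intro hx'
        obtain ⟨b', hb'⟩ := sq_eq_z h x' hx'
        exact ⟨b', Set.mem_univ _, hb'.symm⟩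
      · rintro ⟨b', -, rfl⟩
        show szTm h 1 b' * szTm h 1 b' = szTm h 0 1
        rw [szTm_sq, one_pow, one_mul]
    rw [e, Set.ncard_image_of_injective _ (fun b b' hb => (szTm_inj h hb).2), Set.ncard_univ,
      Nat.card_eq_fintype_card, hF]
  rw [h3] at h2
  rw [← h1, h2, mul_comm]

/-- an element of order four normalises no split torus -/
theorem szY2_T_empty (hm : 1 ≤ m) (hF : Fintype.card F = 2 ^ (2 * m + 1))
    (h : SzData F (2 ^ (m + 1))) (b : F) : (szY2 (szTm (m := m) h 1 b)).ncard = 0 := by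
  have hempty : szY2 (szTm (m := m) h 1 b) = ∅ := by
    ext a
    constructor
    · rintro ⟨hss, hx, hN⟩
      exfalso
      have hz : szTm h 0 1 ∈ szNT a := by
        have e : szTm (m := m) h 0 1 = szTm h 1 b * szTm h 1 b := by
          rw [szTm_sq, one_pow, one_mul]
        rw [e]
        exact (szNT a).mul_mem hx hx
      have hcard := torus_norm_B_card hm hF h a hss hz
      rw [hN] at hcard
      have hpos : 0 < Nat.card ↥(Subgroup.centralizer ({a} : Set ↥(Cfsg.Sz F m))) :=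
        Nat.card_pos
      have h2 : Nat.card ↥(szNT a ⊓ szB F m) = 2 := Nat.eq_of_mul_eq_mul_right hpos hcard
      have h2' : (((szNT a ⊓ szB F m : Subgroup ↥(Cfsg.Sz F m)) :
          Set ↥(Cfsg.Sz F m))).ncard ≤ 2 :=
        le_of_eq ((Nat.card_coe_set_eq _).symm.trans h2)
      rcases three_in_two _ (Set.toFinite _) h2' 1 (szTm h 0 1) (szTm h 1 b)
        (Subgroup.one_mem _) ⟨hz, szTm_mem_szB h 0 1⟩ ⟨hx, szTm_mem_szB h 1 b⟩ with h3 | h3 | h3
      · exact z_ne_one h h3.symm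
      · rw [← szTm_zero h] at h3
        exact zero_ne_one (szTm_inj h h3).1
      · exact zero_ne_one (szTm_inj h h3).1
    · intro ha
      exact absurd ha (Set.notMem_empty a)
  rw [hempty, Set.ncard_empty]

end Sol4

end Cfsg.Agent.Lib.Helper37
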