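-- helper37: Suzuki groups, part 47: the sizes of the solubilizers.
import Mathlib
import Cfsg.Prelude.Def_LieExceptional
import Cfsg.Agent.Lib.Helper37.SzSol4

set_option autoImplicit false

namespace Cfsg.Agent.Lib.Helper37

theorem sol_arith1 (Q y2 y4 total : ℕ) (hQ : 2 ≤ Q) (h1 : y2 + y4 = Q ^ 2 * (Q - 1))
    (h2 : 2 * y2 = Q ^ 2 * (Q - 2)) (h3 : total = Q ^ 2 * (Q - 1) + (2 * y2 + 4 * y4)) :
    total = Q ^ 2 * (4 * Q - 3) := by
  obtain ⟨k, rfl⟩ : ∃ k, Q = k + 2 := ⟨Q - 2, by omega⟩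
  have e1 : k + 2 - 1 = k + 1 := by omega
  have e2 : k + 2 - 2 = k := by omega
  have e3 : 4 * (k + 2) - 3 = 4 * k + 5 := by omega
  rw [e1] at h1 h3
  rw [e2] at h2
  rw [e3]
  have e4 : (k + 2) ^ 2 * (k + 1) = (k + 2) ^ 2 * k + (k + 2) ^ 2 := by ring
  have e5 : (k + 2) ^ 2 * (4 * k + 5) = 4 * ((k + 2) ^ 2 * k) + 5 * (k + 2) ^ 2 := by ring
  rw [e4] at h1 h3
  rw [e5]
  omega

theorem sol_arith2 (Q y2 y4 n total : ℕ) (hQ : 2 ≤ Q) (h1 : y2 + y4 = Q ^ 2 * (Q - 1))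
    (h2 : 2 * y2 = Q ^ 2 * (Q - 2)) (h3 : Q * n = 2 * y4)
    (h4 : total = Q ^ 2 * (Q - 1) + 4 * n) : total = Q ^ 2 * (Q + 3) := by
  obtain ⟨k, rfl⟩ : ∃ k, Q = k + 2 := ⟨Q - 2, by omega⟩
  have e1 : k + 2 - 1 = k + 1 := by omega
  have e2 : k + 2 - 2 = k := by omega
  rw [e1] at h1 h4
  rw [e2] at h2
  have e4 : (k + 2) ^ 2 * (k + 1) = (k + 2) ^ 2 * k + (k + 2) ^ 2 := by ring
  rw [e4] at h1 h4
  have h5 : 2 * y4 = (k + 2) ^ 2 * k + 2 * (k + 2) ^ 2 := by omega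
  have h6 : (k + 2) * n = (k + 2) * (k + 2) ^ 2 := by
    rw [h3, h5]
    ring
  have h7 : n = (k + 2) ^ 2 := Nat.eq_of_mul_eq_mul_left (by omega) h6
  rw [h4, h7]
  ring

section Sol5

variable {F : Type*} [Field F] [Fintype F] {m : ℕ}

theorem two_le_q (m : ℕ) : 2 ≤ 2 ^ (2 * m + 1) := by
  have : 2 ^ 1 ≤ 2 ^ (2 * m + 1) := Nat.pow_le_pow_right (by norm_num) (by omega)
  omega

/-- the solubilizer of the standard involution -/
theorem sol_z_card (hm : 1 ≤ m) (hp : (2 * m + 1).Prime)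
    (hF : Fintype.card F = 2 ^ (2 * m + 1)) (h : SzData F (2 ^ (m + 1))) :
    Nat.card {y : ↥(Cfsg.Sz F m) //
        Group.IsSolvable ↥(Subgroup.closure ({szTm h 0 1, y} : Set ↥(Cfsg.Sz F m)))} =
      (2 ^ (2 * m + 1)) ^ 2 * (4 * 2 ^ (2 * m + 1) - 3) := by
  have h3 := sol_two_card hm hp hF h (szTm h 0 1) (szTm_smul_inf h 0 1)
    (fun p hp' => z_fix h p hp') (fun a ha => ha)
  have h1 := szY_split hm hF (szTm (m := m) h 0 1)
  rw [szY_z_card hm hF h] at h1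
  have h2 := szY2_z_card hm hF h
  exact sol_arith1 (2 ^ (2 * m + 1)) _ _ _ (two_le_q m) h1.symm h2 h3

/-- the solubilizer of a standard element of order four -/
theorem sol_T_card (hm : 1 ≤ m) (hp : (2 * m + 1).Prime)
    (hF : Fintype.card F = 2 ^ (2 * m + 1)) (h : SzData F (2 ^ (m + 1))) (b : F) :
    Nat.card {y : ↥(Cfsg.Sz F m) //
        Group.IsSolvable ↥(Subgroup.closure ({szTm h 1 b, y} : Set ↥(Cfsg.Sz F m)))} =
      (2 ^ (2 * m + 1)) ^ 2 * (2 ^ (2 * m + 1) + 3) := by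
  have hsq : szTm (m := m) h 1 b * szTm h 1 b = szTm h 0 1 := by
    rw [szTm_sq, one_pow, one_mul]
  have h3 := sol_two_card hm hp hF h (szTm h 1 b) (szTm_smul_inf h 1 b)
    (fun p hp' => szTm_fix h (fun hc => one_ne_zero hc.1) p hp')
    (fun a ha => by
      rw [← hsq]
      exact (szNT a).mul_mem ha ha)
  rw [szY2_T_empty hm hF h b, mul_zero, zero_add] at h3
  have h1 := szY_split hm hF (szTm (m := m) h 0 1)
  rw [szY_z_card hm hF h] at h1
  have h2 := szY2_z_card hm hF h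
  have h4 := szY4_T_card hm hF h b
  exact sol_arith2 (2 ^ (2 * m + 1)) _ _ _ _ (two_le_q m) h1.symm h2 h4 h3

/-- the solubilizer of a non-trivial element of the split torus -/
theorem sol_H_card (hm : 1 ≤ m) (hp : (2 * m + 1).Prime)
    (hF : Fintype.card F = 2 ^ (2 * m + 1)) (h : SzData F (2 ^ (m + 1))) (μ : Fˣ) (hμ : μ ≠ 1) :
    Nat.card {y : ↥(Cfsg.Sz F m) //
        Group.IsSolvable ↥(Subgroup.closure ({szHsub h μ, y} : Set ↥(Cfsg.Sz F m)))} =
      2 * (2 ^ (2 * m + 1)) ^ 2 * (2 ^ (2 * m + 1) - 1) := by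
  obtain ⟨S0, hS0⟩ : ∃ S0 : Set ↥(Cfsg.Sz F m),
      S0 = {y | y • oPt m (0 : F) 0 = oPt m (0 : F) 0} := ⟨_, rfl⟩
  obtain ⟨SW, hSW⟩ : ∃ SW : Set ↥(Cfsg.Sz F m),
      SW = {y | ∃ μ' : Fˣ, y = szHsub h μ' * szWm h} := ⟨_, rfl⟩
  have hH1 : szHsub (m := m) h μ ≠ 1 := fun hc => hμ (szHsub_inj h (hc.trans (szHsub_one h).symm))
  have e1 : (1 : ↥(Cfsg.Sz F m)) * szHsub h μ * 1⁻¹ = szHsub h μ := by group
  have hHss : szSS (szHsub (m := m) h μ) := by
    have h0 := szSS_split hm hF h 1 μ hμ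
    rw [e1] at h0
    exact h0
  have hH0 : ∀ μ' : Fˣ, szHsub h μ' • oPt m (0 : F) 0 = oPt m (0 : F) 0 := by
    intro μ'
    rw [szHsub_smul_pt, mul_zero, mul_zero]
  have hsplit : ∀ g : ↥(Cfsg.Sz F m), g ∈ szNT (szHsub h μ) ↔
      (∃ μ' : Fˣ, g = szHsub h μ') ∨ (∃ μ' : Fˣ, g = szHsub h μ' * szWm h) := by
    intro g
    have h0 := split_norm hm hF h 1 μ hμ g
    rw [e1] at h0
    rw [h0]
    constructor
    · rintro (⟨μ', hμ'⟩ | ⟨μ', hμ'⟩)
      · exact Or.inl ⟨μ', by rw [hμ']; group⟩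
      · exact Or.inr ⟨μ', by rw [hμ']; group⟩
    · rintro (⟨μ', hμ'⟩ | ⟨μ', hμ'⟩)
      · exact Or.inl ⟨μ', by rw [hμ']; group⟩
      · exact Or.inr ⟨μ', by rw [hμ']; group⟩
  have hset : {y : ↥(Cfsg.Sz F m) |
      Group.IsSolvable ↥(Subgroup.closure ({szHsub h μ, y} : Set ↥(Cfsg.Sz F m)))} =
      (((szB F m : Subgroup ↥(Cfsg.Sz F m)) : Set ↥(Cfsg.Sz F m)) ∪ S0) ∪ SW := by
    ext y
    rw [Set.mem_ofPred_eq, sz_solvable_iff hm hp hF (szHsub h μ) y]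
    constructor
    · rintro (⟨p, hxp, hyp⟩ | ⟨u, hu, hxu, hyu⟩)
      · left
        rcases h.szHsub_fix hμ p hxp with rfl | rfl
        · left
          exact (mem_szB _).mpr hyp
        · right
          rw [hS0]
          exact hyp
      · have hc := szSS_norm_odd_mem hm hF u hu _ hxu hHss.2
        have hN := szNT_eq_of_mem hm hF u _ hu hc hH1
        rw [← hN] at hyu
        rcases (hsplit y).mp hyu with ⟨μ', hμ'⟩ | ⟨μ', hμ'⟩
        · left
          left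
          apply (mem_szB _).mpr
          rw [hμ']
          exact h.szHsub_smul_inf μ'
        · right
          rw [hSW]
          exact ⟨μ', hμ'⟩
    · rintro ((hy | hy) | hy)
      · left
        exact ⟨oInf F m, h.szHsub_smul_inf μ, (mem_szB _).mp hy⟩
      · left
        rw [hS0] at hy
        exact ⟨oPt m (0 : F) 0, hH0 μ, hy⟩
      · right
        rw [hSW] at hy
        obtain ⟨μ', hμ'⟩ := hy
        exact ⟨szHsub h μ, hHss, Subgroup.le_normalizer (self_mem_cent _),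
          (hsplit y).mpr (Or.inr ⟨μ', hμ'⟩)⟩
  have hB0 : S0.ncard = ((szB F m : Subgroup ↥(Cfsg.Sz F m)) : Set ↥(Cfsg.Sz F m)).ncard := by
    have e : S0 = (fun y => szWm h * y * (szWm h)⁻¹) ''
        ((szB F m : Subgroup ↥(Cfsg.Sz F m)) : Set ↥(Cfsg.Sz F m)) := by
      ext y
      rw [hS0]
      constructor
      · intro hy
        have hy' : y • oPt m (0 : F) 0 = oPt m (0 : F) 0 := hy
        refine ⟨(szWm h)⁻¹ * y * szWm h, ?_, by group⟩
        apply (mem_szB _).mpr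
        rw [mul_smul, mul_smul, szWm_smul_inf, hy', szWm_inv, szWm_smul_zero]
      · rintro ⟨y', hy', rfl⟩
        show (szWm h * y' * (szWm h)⁻¹) • oPt m (0 : F) 0 = oPt m (0 : F) 0
        rw [mul_smul, mul_smul, szWm_inv, szWm_smul_zero, (mem_szB _).mp hy', szWm_smul_inf]
    rw [e]
    apply Set.ncard_image_of_injective
    intro a a' haa
    have haa' : szWm h * a * (szWm h)⁻¹ = szWm h * a' * (szWm h)⁻¹ := haa
    exact mul_left_cancel (mul_right_cancel haa')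
  have hinter : ((szB F m : Subgroup ↥(Cfsg.Sz F m)) : Set ↥(Cfsg.Sz F m)) ∩ S0 =
      ((szHgrp h : Subgroup ↥(Cfsg.Sz F m)) : Set ↥(Cfsg.Sz F m)) := by
    ext y
    rw [hS0]
    constructor
    · rintro ⟨hy1, hy2⟩
      obtain ⟨μ', hμ'⟩ := sz_two_point' h y ((mem_szB _).mp hy1) hy2
      exact (mem_szHgrp h y).mpr ⟨μ', hμ'⟩
    · intro hy
      obtain ⟨μ', rfl⟩ := (mem_szHgrp h y).mp hy
      exact ⟨(mem_szB _).mpr (h.szHsub_smul_inf μ'), hH0 μ'⟩
  have hSWcard : SW.ncard =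
      ((szHgrp h : Subgroup ↥(Cfsg.Sz F m)) : Set ↥(Cfsg.Sz F m)).ncard := by
    have e : SW = (fun y => y * szWm h) ''
        ((szHgrp h : Subgroup ↥(Cfsg.Sz F m)) : Set ↥(Cfsg.Sz F m)) := by
      ext y
      rw [hSW]
      constructor
      · rintro ⟨μ', rfl⟩
        exact ⟨szHsub h μ', (mem_szHgrp h _).mpr ⟨μ', rfl⟩, rfl⟩
      · rintro ⟨y', hy', rfl⟩
        obtain ⟨μ', rfl⟩ := (mem_szHgrp h y').mp hy'
        exact ⟨μ', rfl⟩
    rw [e, Set.ncard_image_of_injective _ (mul_left_injective _)]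
  have hdisj : Disjoint
      (((szB F m : Subgroup ↥(Cfsg.Sz F m)) : Set ↥(Cfsg.Sz F m)) ∪ S0) SW := by
    rw [Set.disjoint_left]
    rintro y (hy | hy) hyW
    · rw [hSW] at hyW
      obtain ⟨μ', rfl⟩ := hyW
      have h0 := (mem_szB _).mp hy
      rw [mul_smul, szWm_smul_inf, hH0] at h0
      exact oPt_ne_oInf 0 0 h0
    · rw [hSW] at hyW
      rw [hS0] at hy
      obtain ⟨μ', rfl⟩ := hyW
      have hy' : (szHsub h μ' * szWm h) • oPt m (0 : F) 0 = oPt m (0 : F) 0 := hy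
      rw [mul_smul, szWm_smul_zero, h.szHsub_smul_inf] at hy'
      exact oPt_ne_oInf 0 0 hy'.symm
  have hU := Set.ncard_union_add_ncard_inter
    ((szB F m : Subgroup ↥(Cfsg.Sz F m)) : Set ↥(Cfsg.Sz F m)) S0
  rw [hinter, hB0] at hU
  have hBc : ((szB F m : Subgroup ↥(Cfsg.Sz F m)) : Set ↥(Cfsg.Sz F m)).ncard =
      (2 ^ (2 * m + 1)) ^ 2 * (2 ^ (2 * m + 1) - 1) :=
    (Nat.card_coe_set_eq _).symm.trans (card_szB hm hF)
  have e0 : Nat.card {y : ↥(Cfsg.Sz F m) //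
        Group.IsSolvable ↥(Subgroup.closure ({szHsub h μ, y} : Set ↥(Cfsg.Sz F m)))} =
      {y : ↥(Cfsg.Sz F m) |
        Group.IsSolvable ↥(Subgroup.closure ({szHsub h μ, y} : Set ↥(Cfsg.Sz F m)))}.ncard :=
    Nat.card_coe_set_eq _
  rw [e0, hset, Set.ncard_union_eq hdisj (Set.toFinite _) (Set.toFinite _), hSWcard, hU, hBc]
  ring

/-- a fixed-point-free element does not have a centraliser of the split order -/
theorem szFpf_cent_card_ne (hm : 1 ≤ m) (hF : Fintype.card F = 2 ^ (2 * m + 1))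
    (x : ↥(Cfsg.Sz F m)) (hx : szFpf x) :
    Nat.card ↥(Subgroup.centralizer ({x} : Set ↥(Cfsg.Sz F m))) ≠ 2 ^ (2 * m + 1) - 1 := by
  have hx1 := szFpf_ne_one x hx
  obtain ⟨hq2, hs2, hss, hs4, hsq⟩ := two_pow_facts m hm
  obtain ⟨x₁, x₂, hx₁, hx₂, hc1, hc2, -, -, hall⟩ := sz_tori hm hF
  have key : ∀ x' : ↥(Cfsg.Sz F m), szFpf x' →
      x ∈ relConj ⊤ (Subgroup.centralizer ({x'} : Set ↥(Cfsg.Sz F m))) →
      Nat.card ↥(Subgroup.centralizer ({x} : Set ↥(Cfsg.Sz F m))) =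
        Nat.card ↥(Subgroup.centralizer ({x'} : Set ↥(Cfsg.Sz F m))) := by
    rintro x' hx' ⟨-, k, -, hk⟩
    have hk1 : k⁻¹ * x * k ≠ 1 := by
      intro hc
      apply hx1
      have e : x = k * (k⁻¹ * x * k) * k⁻¹ := by group
      rw [e, hc]
      group
    have e1 := szFpf_centralizer_eq hm hF x' _ hx' hk hk1
    have e2 := card_cent_conj k⁻¹ x
    rw [inv_inv] at e2
    rw [← e2, e1]
  rcases hall x hx with h2 | h2
  · rw [key x₁ hx₁ h2, hc1]
    omega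
  · rw [key x₂ hx₂ h2, hc2]
    omega

/-- the solubilizer of a fixed-point-free element is the normaliser of its torus -/
theorem sol_fpf_card (hm : 1 ≤ m) (hp : (2 * m + 1).Prime)
    (hF : Fintype.card F = 2 ^ (2 * m + 1)) (x : ↥(Cfsg.Sz F m)) (hx1 : x ≠ 1) (n : ℕ)
    (hn : n = 2 ^ (2 * m + 1) + 2 ^ (m + 1) + 1 ∨ n = 2 ^ (2 * m + 1) - 2 ^ (m + 1) + 1)
    (hdvd : orderOf x ∣ n) :
    Nat.card {y : ↥(Cfsg.Sz F m) //
        Group.IsSolvable ↥(Subgroup.closure ({x, y} : Set ↥(Cfsg.Sz F m)))} = 4 * n := by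
  have h := szData_of_card hm hF
  obtain ⟨hq2, hs2, hss, hs4, hsq⟩ := two_pow_facts m hm
  have hnmem : n ∈ ({2 ^ (2 * m + 1) - 1, 2 ^ (2 * m + 1) + 2 ^ (m + 1) + 1,
      2 ^ (2 * m + 1) - 2 ^ (m + 1) + 1} : Set ℕ) := by
    rcases hn with hn | hn
    · right
      left
      exact hn
    · right
      right
      exact hn
  have hnodd : ¬ 2 ∣ n :=
    tori_orders_odd (2 ^ (2 * m + 1)) (2 ^ (m + 1)) n hq2 hs2 (by omega) (by omega) hnmem
  have hxodd : ¬ 2 ∣ orderOf x := fun hc => hnodd (dvd_trans hc hdvd)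
  have hxss : szSS x := ⟨hx1, hxodd⟩
  obtain ⟨-, hC⟩ := szSS_cent hm hF x hxss
  have hxC : orderOf x ∣ Nat.card ↥(Subgroup.centralizer ({x} : Set ↥(Cfsg.Sz F m))) :=
    Subgroup.orderOf_dvd_natCard _ (self_mem_cent x)
  have hox : orderOf x ≠ 1 := fun hc => hx1 (orderOf_eq_one_iff.mp hc)
  have hCn : n = Nat.card ↥(Subgroup.centralizer ({x} : Set ↥(Cfsg.Sz F m))) :=
    tori_orders_common (2 ^ (2 * m + 1)) (2 ^ (m + 1)) n _ (orderOf x) hq2 hs2 hss hs4 hsq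
      hnmem hC hox hdvd hxC
  rcases szSS_type hm hF h x hxss with ⟨k, μ, hμ, rfl⟩ | ⟨hfpf, hN⟩
  · exfalso
    rw [split_cent_card hF h k μ hμ] at hCn
    rcases hn with hn | hn <;> omega
  · have hset : {y : ↥(Cfsg.Sz F m) |
        Group.IsSolvable ↥(Subgroup.closure ({x, y} : Set ↥(Cfsg.Sz F m)))} =
        ((szNT x : Subgroup ↥(Cfsg.Sz F m)) : Set ↥(Cfsg.Sz F m)) := by
      ext y
      rw [Set.mem_ofPred_eq, sz_solvable_iff hm hp hF x y]
      constructor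
      · rintro (⟨p, hxp, -⟩ | ⟨u, hu, hxu, hyu⟩)
        · exact absurd hxp (hfpf p)
        · have hc := szSS_norm_odd_mem hm hF u hu x hxu hxodd
          have hNe := szNT_eq_of_mem hm hF u x hu hc hx1
          show y ∈ szNT x
          rw [hNe]
          exact hyu
      · intro hy
        right
        exact ⟨x, hxss, Subgroup.le_normalizer (self_mem_cent x), hy⟩
    have e0 : Nat.card {y : ↥(Cfsg.Sz F m) //
          Group.IsSolvable ↥(Subgroup.closure ({x, y} : Set ↥(Cfsg.Sz F m)))} =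
        {y : ↥(Cfsg.Sz F m) |
          Group.IsSolvable ↥(Subgroup.closure ({x, y} : Set ↥(Cfsg.Sz F m)))}.ncard :=
      Nat.card_coe_set_eq _
    rw [e0, hset, hCn, ← hN]
    exact (Nat.card_coe_set_eq _).symm

/-- the sizes of the solubilizers in the Suzuki groups -/
theorem sz_solubilizer (hm : 1 ≤ m) (hp : (2 * m + 1).Prime)
    (hF : Fintype.card F = 2 ^ (2 * m + 1)) (x : ↥(Cfsg.Sz F m)) :
    (orderOf x = 2 → Nat.card {y : ↥(Cfsg.Sz F m) //
        Group.IsSolvable ↥(Subgroup.closure ({x, y} : Set ↥(Cfsg.Sz F m)))} =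
      (2 ^ (2 * m + 1)) ^ 2 * (4 * 2 ^ (2 * m + 1) - 3)) ∧
    (orderOf x = 4 → Nat.card {y : ↥(Cfsg.Sz F m) //
        Group.IsSolvable ↥(Subgroup.closure ({x, y} : Set ↥(Cfsg.Sz F m)))} =
      (2 ^ (2 * m + 1)) ^ 2 * (2 ^ (2 * m + 1) + 3)) ∧
    (x ≠ 1 → orderOf x ∣ 2 ^ (2 * m + 1) - 1 → Nat.card {y : ↥(Cfsg.Sz F m) //
        Group.IsSolvable ↥(Subgroup.closure ({x, y} : Set ↥(Cfsg.Sz F m)))} =
      2 * (2 ^ (2 * m + 1)) ^ 2 * (2 ^ (2 * m + 1) - 1)) ∧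
    (x ≠ 1 → orderOf x ∣ 2 ^ (2 * m + 1) + 2 ^ (m + 1) + 1 → Nat.card {y : ↥(Cfsg.Sz F m) //
        Group.IsSolvable ↥(Subgroup.closure ({x, y} : Set ↥(Cfsg.Sz F m)))} =
      4 * (2 ^ (2 * m + 1) + 2 ^ (m + 1) + 1)) ∧
    (x ≠ 1 → orderOf x ∣ 2 ^ (2 * m + 1) - 2 ^ (m + 1) + 1 → Nat.card {y : ↥(Cfsg.Sz F m) //
        Group.IsSolvable ↥(Subgroup.closure ({x, y} : Set ↥(Cfsg.Sz F m)))} =
      4 * (2 ^ (2 * m + 1) - 2 ^ (m + 1) + 1)) := by
  have h := szData_of_card hm hF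
  refine ⟨?_, ?_, ?_, ?_, ?_⟩
  · intro ho
    have hxx : x * x = 1 := by
      have h0 := pow_orderOf_eq_one x
      rw [ho, pow_two] at h0
      exact h0
    have hx1 : x ≠ 1 := by
      rintro rfl
      rw [orderOf_one] at ho
      omega
    obtain ⟨g, rfl⟩ := invol_conj_z hF h x hxx hx1
    rw [solCard_conj]
    exact sol_z_card hm hp hF h
  · intro ho
    have hx4 : x ^ 4 = 1 := by
      have h0 := pow_orderOf_eq_one x
      rw [ho] at h0
      exact h0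
    have hx2 : x * x ≠ 1 := by
      intro hc
      have h0 := orderOf_dvd_of_pow_eq_one (show x ^ 2 = 1 by rw [pow_two]; exact hc)
      rw [ho] at h0
      omega
    have htt : (x * x) * (x * x) = 1 := by
      rw [← hx4]
      simp [pow_succ, mul_assoc]
    obtain ⟨p, hp'⟩ := sz_involution_fixes hF (x * x) htt
    have hxp : x • p = p := by
      apply sz_involution_fix_unique hm hF (x * x) htt hx2 (x • p) p ?_ hp'
      rw [← mul_smul, mul_assoc, mul_smul, hp']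
    obtain ⟨k, hk⟩ := sz_fixed_classify h x p hxp
    have hT : ∃ a b : F, x = k * szTm h a b * k⁻¹ := by
      rcases hk with hk | ⟨μ, hμ⟩
      · exact hk
      · exfalso
        have e4 : szHsub (m := m) h ((μ * μ) * (μ * μ)) = 1 := by
          rw [← szHsub_mul, ← szHsub_mul]
          have e : szHsub (m := m) h μ = k⁻¹ * x * k := by
            rw [hμ]
            group
          rw [e]
          have e' : k⁻¹ * x * k * (k⁻¹ * x * k) * (k⁻¹ * x * k * (k⁻¹ * x * k)) =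
              k⁻¹ * ((x * x) * (x * x)) * k := by group
          rw [e', htt]
          group
        have h1 := szHsub_inj h (e4.trans (szHsub_one h).symm)
        have h2 : ((μ * μ : Fˣ) : F) ^ 2 = 1 := by
          rw [pow_two, ← Units.val_mul, h1, Units.val_one]
        have h3 := h.unit_sq_eq_one h2
        have h4 : (μ : F) ^ 2 = 1 := by
          rw [pow_two, ← Units.val_mul, h3, Units.val_one]
        have h5 := h.unit_sq_eq_one h4
        apply hx2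
        rw [hμ, h5, szHsub_one]
        group
    obtain ⟨a, b, rfl⟩ := hT
    have ha : a ≠ 0 := by
      rintro rfl
      apply hx2
      have e : k * szTm h 0 b * k⁻¹ * (k * szTm h 0 b * k⁻¹) =
          k * (szTm h 0 b * szTm h 0 b) * k⁻¹ := by group
      rw [e, szTm_central_sq]
      group
    obtain ⟨ρ, hρ⟩ := h.exists_unit_sq a⁻¹ (inv_ne_zero ha)
    have e := szHsub_conj_szTm h ρ a b
    rw [hρ, inv_mul_cancel₀ ha] at e
    obtain ⟨b', hb'⟩ : ∃ b' : F, szHsub h ρ * szTm h a b * (szHsub h ρ)⁻¹ = szTm h 1 b' :=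
      ⟨_, e⟩
    have e2 : k * szTm h a b * k⁻¹ =
        (k * (szHsub h ρ)⁻¹) * szTm h 1 b' * (k * (szHsub h ρ)⁻¹)⁻¹ := by
      rw [← hb']
      group
    rw [e2, solCard_conj]
    exact sol_T_card hm hp hF h b'
  · intro hx1 hdvd
    obtain ⟨hq2, hs2, hss, hs4, hsq⟩ := two_pow_facts m hm
    have hnmem : (2 ^ (2 * m + 1) - 1) ∈ ({2 ^ (2 * m + 1) - 1, 2 ^ (2 * m + 1) + 2 ^ (m + 1) + 1,
        2 ^ (2 * m + 1) - 2 ^ (m + 1) + 1} : Set ℕ) := Or.inl rfl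
    have hnodd : ¬ 2 ∣ 2 ^ (2 * m + 1) - 1 :=
      tori_orders_odd (2 ^ (2 * m + 1)) (2 ^ (m + 1)) _ hq2 hs2 (by omega) (by omega) hnmem
    have hxodd : ¬ 2 ∣ orderOf x := fun hc => hnodd (dvd_trans hc hdvd)
    have hxss : szSS x := ⟨hx1, hxodd⟩
    rcases szSS_type hm hF h x hxss with ⟨k, μ, hμ, rfl⟩ | ⟨hfpf, hN⟩
    · rw [solCard_conj]
      exact sol_H_card hm hp hF h μ hμ
    · exfalso
      obtain ⟨-, hC⟩ := szSS_cent hm hF x hxss
      have hxC : orderOf x ∣ Nat.card ↥(Subgroup.centralizer ({x} : Set ↥(Cfsg.Sz F m))) :=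
        Subgroup.orderOf_dvd_natCard _ (self_mem_cent x)
      have hox : orderOf x ≠ 1 := fun hc => hx1 (orderOf_eq_one_iff.mp hc)
      have hCn := tori_orders_common (2 ^ (2 * m + 1)) (2 ^ (m + 1)) _ _ (orderOf x) hq2 hs2 hss
        hs4 hsq hnmem hC hox hdvd hxC
      exact szFpf_cent_card_ne hm hF x hfpf hCn.symm
  · intro hx1 hdvd
    exact sol_fpf_card hm hp hF x hx1 _ (Or.inl rfl) hdvd
  · intro hx1 hdvd
    exact sol_fpf_card hm hp hF x hx1 _ (Or.inr rfl) hdvd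

end Sol5

end Cfsg.Agent.Lib.Helper37
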