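-- helper37: Suzuki groups, characters, part 2: the characters of the Sylow 2-subgroup.
import Mathlib
import Cfsg.Prelude.Def_LieExceptional
import Cfsg.Agent.Lib.Helper37.SzChA
import Cfsg.Agent.Lib.Helper37.SzRep
import Cfsg.Agent.Lib.Helper37.SzSol5

set_option autoImplicit false

namespace Cfsg.Agent.Lib.Helper37

open scoped ComplexConjugate

open Classical

section ChT

variable {F : Type*} [Field F] [Fintype F] {m : ℕ}

/-- the first coordinate of an element of the Sylow 2-subgroup -/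
noncomputable def szTa (h : SzData F (2 ^ (m + 1))) (t : ↥(szTsub (m := m) h)) : F :=
  Classical.choose t.2

/-- the second coordinate of an element of the Sylow 2-subgroup -/
noncomputable def szTb (h : SzData F (2 ^ (m + 1))) (t : ↥(szTsub (m := m) h)) : F :=
  Classical.choose (Classical.choose_spec t.2)

theorem szT_spec (h : SzData F (2 ^ (m + 1))) (t : ↥(szTsub (m := m) h)) :
    (t : ↥(Cfsg.Sz F m)) = szTm h (szTa h t) (szTb h t) :=
  Classical.choose_spec (Classical.choose_spec t.2)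

theorem szTa_mk (h : SzData F (2 ^ (m + 1))) (a b : F) : szTa h (szTp (m := m) h a b) = a :=
  ((szTm_inj h (szT_spec h (szTp h a b))).1).symm

theorem szTb_mk (h : SzData F (2 ^ (m + 1))) (a b : F) : szTb h (szTp (m := m) h a b) = b :=
  ((szTm_inj h (szT_spec h (szTp h a b))).2).symm

theorem szTp_coords (h : SzData F (2 ^ (m + 1))) (t : ↥(szTsub (m := m) h)) :
    szTp h (szTa h t) (szTb h t) = t :=
  Subtype.ext (szT_spec h t).symm

/-- the coordinates on the Sylow 2-subgroup -/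
noncomputable def szTequiv (h : SzData F (2 ^ (m + 1))) : F × F ≃ ↥(szTsub (m := m) h) where
  toFun p := szTp h p.1 p.2
  invFun t := (szTa h t, szTb h t)
  left_inv p := by
    show (szTa h (szTp h p.1 p.2), szTb h (szTp h p.1 p.2)) = p
    rw [szTa_mk, szTb_mk]
  right_inv t := szTp_coords h t

theorem sum_szT (h : SzData F (2 ^ (m + 1))) [Fintype ↥(szTsub (m := m) h)]
    (f : ↥(szTsub (m := m) h) → ℂ) :
    ∑ t : ↥(szTsub (m := m) h), f t = ∑ a : F, ∑ b : F, f (szTp h a b) := by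
  rw [← Fintype.sum_prod_type (f := fun p : F × F => f (szTp h p.1 p.2))]
  exact (Fintype.sum_equiv (szTequiv h) _ _ (fun p => rfl)).symm

theorem szTp_mul (h : SzData F (2 ^ (m + 1))) (a b c d : F) :
    szTp (m := m) h a b * szTp h c d = szTp h (a + c) (b + d + a ^ 2 ^ (m + 1) * c) :=
  Subtype.ext (szTm_mul h a b c d)

theorem szTp_one (h : SzData F (2 ^ (m + 1))) : szTp (m := m) h 0 0 = 1 :=
  Subtype.ext (szTm_zero h)

theorem szTa_one (h : SzData F (2 ^ (m + 1))) : szTa h (1 : ↥(szTsub (m := m) h)) = 0 := by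
  rw [← szTp_one h, szTa_mk]

theorem szTb_one (h : SzData F (2 ^ (m + 1))) : szTb h (1 : ↥(szTsub (m := m) h)) = 0 := by
  rw [← szTp_one h, szTb_mk]

/-- conjugation inside the Sylow 2-subgroup -/
theorem szTm_conj (h : SzData F (2 ^ (m + 1))) (a b c d : F) :
    szTm (m := m) h c d * szTm h a b * (szTm h c d)⁻¹ =
      szTm h a (b + (c ^ 2 ^ (m + 1) * a + a ^ 2 ^ (m + 1) * c)) := by
  rw [mul_inv_eq_iff_eq_mul, szTm_mul, szTm_mul]
  congr 1
  · ring
  · linear_combination (-(a ^ 2 ^ (m + 1) * c)) * h.two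

theorem szTp_conj (h : SzData F (2 ^ (m + 1))) (a b c d : F) :
    szTp (m := m) h c d * szTp h a b * (szTp h c d)⁻¹ =
      szTp h a (b + (c ^ 2 ^ (m + 1) * a + a ^ 2 ^ (m + 1) * c)) :=
  Subtype.ext (szTm_conj h a b c d)

/-- the first coordinate as a homomorphism -/
noncomputable def szTaHom (h : SzData F (2 ^ (m + 1))) :
    ↥(szTsub (m := m) h) →* Multiplicative F where
  toFun t := Multiplicative.ofAdd (szTa h t)
  map_one' := by
    rw [szTa_one]
    rfl
  map_mul' t u := by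
    have h1 : szTa h (t * u) = szTa h t + szTa h u := by
      conv_lhs => rw [← szTp_coords h t, ← szTp_coords h u, szTp_mul, szTa_mk]
    rw [h1]
    rfl

/-- the linear characters of the Sylow 2-subgroup -/
noncomputable def lamT (h : SzData F (2 ^ (m + 1))) (χ : AddChar F ℂ) :
    ↥(szTsub (m := m) h) →* ℂˣ :=
  (χ.toMonoidHom.comp (szTaHom h)).toHomUnits

theorem lamT_apply (h : SzData F (2 ^ (m + 1))) (χ : AddChar F ℂ) (t : ↥(szTsub (m := m) h)) :
    ((lamT h χ t : ℂˣ) : ℂ) = χ (szTa h t) := rfl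

/-- the class function supported on the centre -/
noncomputable def xiT (h : SzData F (2 ^ (m + 1))) (ν : AddChar F ℂ) :
    ↥(szTsub (m := m) h) → ℂ :=
  fun t => if szTa h t = 0 then (2 : ℂ) ^ (m + 1) * ν (szTb h t) else 0

theorem xiT_mk (h : SzData F (2 ^ (m + 1))) (ν : AddChar F ℂ) (a b : F) :
    xiT h ν (szTp (m := m) h a b) = if a = 0 then (2 : ℂ) ^ (m + 1) * ν b else 0 := by
  unfold xiT
  rw [szTa_mk, szTb_mk]

theorem xiT_classFunction (h : SzData F (2 ^ (m + 1))) (ν : AddChar F ℂ) :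
    Cfsg.IsClassFunction ↥(szTsub (m := m) h) (xiT h ν) := by
  intro g u
  rw [← szTp_coords h g, ← szTp_coords h u, szTp_conj, xiT_mk, xiT_mk]
  by_cases ha : szTa h g = 0
  · rw [if_pos ha, if_pos ha, ha, h.th_zero, mul_zero, zero_mul, add_zero, add_zero]
  · rw [if_neg ha, if_neg ha]

/-- central elements act on an irreducible character of the Sylow 2-subgroup by a scalar -/
theorem szT_central_char (h : SzData F (2 ^ (m + 1))) [Fintype ↥(szTsub (m := m) h)]
    {ξ : ↥(szTsub (m := m) h) → ℂ} (hξ : Cfsg.IsIrrCharacter ↥(szTsub (m := m) h) ξ)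
    (c a b : F) :
    ξ (szTp h a (b + c)) * ξ 1 = ξ (szTp h 0 c) * ξ (szTp h a b) := by
  have h1 := Cfsg.Agent.Lib.Helper79.irr_sum_conj_mul hξ (szTp h 0 c) (szTp h a b)
  have h2 : ∀ g : ↥(szTsub (m := m) h),
      g * szTp h 0 c * g⁻¹ * szTp h a b = szTp h a (b + c) := by
    intro g
    rw [← szTp_coords h g, szTp_conj, szTp_mul]
    congr 1
    · ring
    · rw [h.th_zero]
      ring
  simp only [h2] at h1
  rw [Finset.sum_const, Finset.card_univ, nsmul_eq_mul, ← Nat.card_eq_fintype_card] at h1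
  have hT0 : (Nat.card ↥(szTsub (m := m) h) : ℂ) ≠ 0 := by
    exact_mod_cast Nat.card_pos.ne'
  have hξ1 := Cfsg.Agent.Lib.Helper79.irr_one_ne_zero hξ
  have h3 : (Nat.card ↥(szTsub (m := m) h) : ℂ) * (ξ (szTp h a (b + c)) * ξ 1) =
      (Nat.card ↥(szTsub (m := m) h) : ℂ) * (ξ (szTp h 0 c) * ξ (szTp h a b)) := by
    rw [← mul_assoc, h1]
    field_simp
  exact mul_left_cancel₀ hT0 h3

/-- the central character of an irreducible character of the Sylow 2-subgroup -/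
noncomputable def szCentChar (h : SzData F (2 ^ (m + 1))) [Fintype ↥(szTsub (m := m) h)]
    (ξ : ↥(szTsub (m := m) h) → ℂ) (hξ : Cfsg.IsIrrCharacter ↥(szTsub (m := m) h) ξ) :
    AddChar F ℂ where
  toFun b := ξ (szTp h 0 b) / ξ 1
  map_zero_eq_one' := by
    rw [szTp_one]
    exact div_self (Cfsg.Agent.Lib.Helper79.irr_one_ne_zero hξ)
  map_add_eq_mul' b c := by
    have h1 := szT_central_char h hξ c 0 b
    have hξ1 := Cfsg.Agent.Lib.Helper79.irr_one_ne_zero hξ
    field_simp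
    linear_combination h1

theorem szCentChar_apply (h : SzData F (2 ^ (m + 1))) [Fintype ↥(szTsub (m := m) h)]
    (ξ : ↥(szTsub (m := m) h) → ℂ) (hξ : Cfsg.IsIrrCharacter ↥(szTsub (m := m) h) ξ) (b : F) :
    szCentChar h ξ hξ b = ξ (szTp h 0 b) / ξ 1 := rfl

theorem szT_central_mul (h : SzData F (2 ^ (m + 1))) [Fintype ↥(szTsub (m := m) h)]
    (ξ : ↥(szTsub (m := m) h) → ℂ) (hξ : Cfsg.IsIrrCharacter ↥(szTsub (m := m) h) ξ)
    (a b z : F) : ξ (szTp h a (b + z)) = szCentChar h ξ hξ z * ξ (szTp h a b) := by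
  rw [szCentChar_apply]
  have h1 := szT_central_char h hξ z a b
  have hξ1 := Cfsg.Agent.Lib.Helper79.irr_one_ne_zero hξ
  field_simp
  linear_combination h1

/-- an irreducible character of the Sylow 2-subgroup with nontrivial central character has
degree `2 ^ m` -/
theorem szT_over_degree (h : SzData F (2 ^ (m + 1))) (hF : Fintype.card F = 2 ^ (2 * m + 1))
    [Fintype ↥(szTsub (m := m) h)]
    {ξ : ↥(szTsub (m := m) h) → ℂ} (hξ : Cfsg.IsIrrCharacter ↥(szTsub (m := m) h) ξ)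
    (hω : szCentChar h ξ hξ ≠ 1) : ξ 1 = (2 : ℂ) ^ m := by
  set ω := szCentChar h ξ hξ with hωdef
  obtain ⟨n, hn0, hn1, hndvd⟩ := Cfsg.Agent.Lib.Helper79.irr_degree_dvd hξ
  have hnC : (n : ℂ) ≠ 0 := by exact_mod_cast hn0.ne'
  have hTcard : Nat.card ↥(szTsub (m := m) h) = (2 ^ (2 * m + 1)) ^ 2 := by
    rw [card_szTsub, Nat.card_eq_fintype_card, hF]
  have hcent : ∀ b : F, ξ (szTp h 0 b) = (n : ℂ) * ω b := by
    intro b
    rw [hωdef, szCentChar_apply, hn1]
    field_simp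
  have hmul : ∀ a b z : F, ξ (szTp h a (b + z)) = ω z * ξ (szTp h a b) :=
    szT_central_mul h ξ hξ
  have hnorm : ∑ a : F, ∑ b : F, Complex.normSq (ξ (szTp h a b)) =
      ((2 : ℝ) ^ (2 * m + 1)) ^ 2 := by
    have h1 := Cfsg.Agent.Lib.Helper26.classInner_irr_self hξ
    unfold Cfsg.classInner at h1
    rw [sum_szT h] at h1
    have hT0 : (Nat.card ↥(szTsub (m := m) h) : ℂ) ≠ 0 := by
      exact_mod_cast Nat.card_pos.ne'
    have h2 : ∑ a : F, ∑ b : F, ξ (szTp h a b) * conj (ξ (szTp h a b)) =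
        (Nat.card ↥(szTsub (m := m) h) : ℂ) := by
      rw [inv_mul_eq_one₀ hT0] at h1
      exact h1.symm
    simp only [Complex.mul_conj] at h2
    rw [hTcard] at h2
    have h3 : ((∑ a : F, ∑ b : F, Complex.normSq (ξ (szTp h a b)) : ℝ) : ℂ) =
        ((((2 : ℝ) ^ (2 * m + 1)) ^ 2 : ℝ) : ℂ) := by
      push_cast
      rw [h2]
      push_cast
      rfl
    exact Complex.ofReal_injective h3
  have hn' : Cfsg.charDegree ξ = n := by
    have h1 := Cfsg.Agent.Lib.Helper80.char_one_eq_charDegree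
      (Cfsg.Agent.Lib.Helper80.isCharacter_of_isIrrCharacter hξ)
    rw [hn1] at h1
    exact_mod_cast h1.symm
  have hbound : ∀ a b : F, Complex.normSq (ξ (szTp h a b)) ≤ (n : ℝ) ^ 2 := by
    intro a b
    have h1 := Cfsg.Agent.Lib.Helper80.norm_char_le_charDegree
      (Cfsg.Agent.Lib.Helper80.isCharacter_of_isIrrCharacter hξ) (szTp h a b)
    rw [hn'] at h1
    rw [Complex.normSq_eq_norm_sq]
    exact pow_le_pow_left₀ (norm_nonneg _) h1 2
  have hcardF : ((Fintype.card F : ℕ) : ℝ) = (2 : ℝ) ^ (2 * m + 1) := by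
    rw [hF]
    push_cast
    rfl
  have hup : (2 : ℝ) ^ (2 * m + 1) * (n : ℝ) ^ 2 ≤ ((2 : ℝ) ^ (2 * m + 1)) ^ 2 := by
    rw [← hnorm]
    have h1 : ∑ b : F, Complex.normSq (ξ (szTp h 0 b)) = (2 : ℝ) ^ (2 * m + 1) * (n : ℝ) ^ 2 := by
      have h2 : ∀ b : F, Complex.normSq (ξ (szTp h 0 b)) = (n : ℝ) ^ 2 := by
        intro b
        rw [hcent b, Complex.normSq_mul, Complex.normSq_natCast]
        rcases addChar_pm h ω b with h2 | h2
        · rw [h2, Complex.normSq_one]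
          ring
        · rw [h2, Complex.normSq_neg, Complex.normSq_one]
          ring
      simp only [h2]
      rw [Finset.sum_const, Finset.card_univ, nsmul_eq_mul, hcardF]
    rw [← h1]
    exact Finset.single_le_sum (f := fun a => ∑ b : F, Complex.normSq (ξ (szTp h a b)))
      (fun a _ => Finset.sum_nonneg (fun b _ => Complex.normSq_nonneg _)) (Finset.mem_univ 0)
  have hvan : ∀ a b : F, ξ (szTp h a b) ≠ 0 →
      ∀ c : F, ω (a ^ 2 ^ (m + 1) * c + c ^ 2 ^ (m + 1) * a) = 1 := by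
    intro a b hne c
    have h1 := Cfsg.Agent.Lib.Helper79.irr_conj_eq hξ (szTp h a b) (szTp h c 0)
    rw [szTp_conj, hmul] at h1
    have h2 : (ω (c ^ 2 ^ (m + 1) * a + a ^ 2 ^ (m + 1) * c) - 1) * ξ (szTp h a b) = 0 := by
      linear_combination h1
    rcases mul_eq_zero.mp h2 with h3 | h3
    · rw [add_comm]
      linear_combination h3
    · exact absurd h3 hne
  obtain ⟨a₀, ha₀⟩ : ∃ a₀ : F, ∀ a b : F, a ≠ 0 → a ≠ a₀ → ξ (szTp h a b) = 0 := by
    by_cases hex : ∃ a₀ : F, a₀ ≠ 0 ∧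
        ∀ c : F, ω (a₀ ^ 2 ^ (m + 1) * c + c ^ 2 ^ (m + 1) * a₀) = 1
    · obtain ⟨a₀, ha₀0, ha₀r⟩ := hex
      refine ⟨a₀, fun a b ha hne => ?_⟩
      by_contra hc
      exact hne (sz_rad_unique h ω hω a a₀ ha ha₀0 (hvan a b hc) ha₀r)
    · refine ⟨0, fun a b ha _ => ?_⟩
      by_contra hc
      exact hex ⟨a, ha, hvan a b hc⟩
  have hlow : ((2 : ℝ) ^ (2 * m + 1)) ^ 2 ≤ 2 * ((2 : ℝ) ^ (2 * m + 1) * (n : ℝ) ^ 2) := by
    rw [← hnorm]
    have h1 : ∑ a : F, ∑ b : F, Complex.normSq (ξ (szTp h a b)) =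
        ∑ a ∈ ({0, a₀} : Finset F), ∑ b : F, Complex.normSq (ξ (szTp h a b)) := by
      symm
      apply Finset.sum_subset (Finset.subset_univ _)
      intro a _ ha
      rw [Finset.mem_insert, Finset.mem_singleton, not_or] at ha
      apply Finset.sum_eq_zero
      intro b _
      rw [ha₀ a b ha.1 ha.2, map_zero]
    rw [h1]
    have h2 : ∀ a ∈ ({0, a₀} : Finset F), ∑ b : F, Complex.normSq (ξ (szTp h a b)) ≤
        (2 : ℝ) ^ (2 * m + 1) * (n : ℝ) ^ 2 := by
      intro a _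
      calc ∑ b : F, Complex.normSq (ξ (szTp h a b)) ≤ ∑ _b : F, (n : ℝ) ^ 2 :=
            Finset.sum_le_sum (fun b _ => hbound a b)
        _ = (2 : ℝ) ^ (2 * m + 1) * (n : ℝ) ^ 2 := by
            rw [Finset.sum_const, Finset.card_univ, nsmul_eq_mul, hcardF]
    calc ∑ a ∈ ({0, a₀} : Finset F), ∑ b : F, Complex.normSq (ξ (szTp h a b))
        ≤ ∑ _a ∈ ({0, a₀} : Finset F), (2 : ℝ) ^ (2 * m + 1) * (n : ℝ) ^ 2 :=
          Finset.sum_le_sum h2
      _ = ((({0, a₀} : Finset F).card : ℕ) : ℝ) * ((2 : ℝ) ^ (2 * m + 1) * (n : ℝ) ^ 2) := by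
          rw [Finset.sum_const, nsmul_eq_mul]
      _ ≤ 2 * ((2 : ℝ) ^ (2 * m + 1) * (n : ℝ) ^ 2) := by
          apply mul_le_mul_of_nonneg_right _ (by positivity)
          exact_mod_cast (Finset.card_le_two : ({0, a₀} : Finset F).card ≤ 2)
  have hq0 : (0 : ℝ) < (2 : ℝ) ^ (2 * m + 1) := by positivity
  have hA : (n : ℝ) ^ 2 ≤ (2 : ℝ) ^ (2 * m + 1) := by
    have h1 : (2 : ℝ) ^ (2 * m + 1) * (n : ℝ) ^ 2 ≤ (2 : ℝ) ^ (2 * m + 1) * (2 : ℝ) ^ (2 * m + 1) := by
      rw [← pow_two]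
      exact hup
    exact le_of_mul_le_mul_left h1 hq0
  have hB : (2 : ℝ) ^ (2 * m + 1) ≤ 2 * (n : ℝ) ^ 2 := by
    have h1 : (2 : ℝ) ^ (2 * m + 1) * (2 : ℝ) ^ (2 * m + 1) ≤
        (2 : ℝ) ^ (2 * m + 1) * (2 * (n : ℝ) ^ 2) := by
      calc (2 : ℝ) ^ (2 * m + 1) * (2 : ℝ) ^ (2 * m + 1) = ((2 : ℝ) ^ (2 * m + 1)) ^ 2 := by ring
        _ ≤ 2 * ((2 : ℝ) ^ (2 * m + 1) * (n : ℝ) ^ 2) := hlow
        _ = (2 : ℝ) ^ (2 * m + 1) * (2 * (n : ℝ) ^ 2) := by ring
    exact le_of_mul_le_mul_left h1 hq0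
  have hA' : n ^ 2 ≤ 2 ^ (2 * m + 1) := by exact_mod_cast hA
  have hB' : 2 ^ (2 * m + 1) ≤ 2 * n ^ 2 := by exact_mod_cast hB
  rw [hTcard, ← pow_mul] at hndvd
  obtain ⟨k, hk, rfl⟩ := (Nat.dvd_prime_pow Nat.prime_two).mp hndvd
  have h1 : k * 2 ≤ 2 * m + 1 := by
    rw [← pow_mul] at hA'
    exact (Nat.pow_le_pow_iff_right (by norm_num)).mp hA'
  have h2 : 2 * m + 1 ≤ k * 2 + 1 := by
    have h3 : 2 * (2 ^ k) ^ 2 = 2 ^ (k * 2 + 1) := by ring
    rw [h3] at hB'
    exact (Nat.pow_le_pow_iff_right (by norm_num)).mp hB'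
  have hkm : k = m := by omega
  rw [hn1, hkm]
  push_cast
  rfl

/-- the class function supported on the centre is a character -/
theorem xiT_isCharacter (h : SzData F (2 ^ (m + 1))) (hF : Fintype.card F = 2 ^ (2 * m + 1))
    [Fintype ↥(szTsub (m := m) h)] (ν : AddChar F ℂ) (hν : ν ≠ 1) :
    Cfsg.IsCharacter ↥(szTsub (m := m) h) (xiT h ν) := by
  haveI : Fintype (Cfsg.IrrCharacter ↥(szTsub (m := m) h)) := Fintype.ofFinite _
  apply Cfsg.Agent.Lib.Helper80.isCharacter_of_classInner_nat (xiT_classFunction h ν)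
  intro ξ
  obtain ⟨ξ, hξ⟩ := ξ
  show ∃ k : ℕ, Cfsg.classInner (xiT h ν) ξ = k
  set ω := szCentChar h ξ hξ with hωdef
  obtain ⟨n, hn0, hn1⟩ := Cfsg.Agent.Lib.Helper79.irr_one_eq hξ
  have hnC : (n : ℂ) ≠ 0 := by exact_mod_cast hn0.ne'
  have hcent : ∀ b : F, ξ (szTp h 0 b) = (n : ℂ) * ω b := by
    intro b
    rw [hωdef, szCentChar_apply, hn1]
    field_simp
  have key : ∑ t : ↥(szTsub (m := m) h), xiT h ν t * conj (ξ t) =
      (2 : ℂ) ^ (m + 1) * n * (if ν = ω then (Fintype.card F : ℂ) else 0) := by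
    rw [sum_szT h, Finset.sum_eq_single (0 : F)]
    · rw [← addChar_orth h ν ω, Finset.mul_sum]
      apply Finset.sum_congr rfl
      intro b _
      rw [xiT_mk, if_pos rfl, hcent b, map_mul, Complex.conj_natCast]
      have h1 : conj (ω b) = ω b := by
        rcases addChar_pm h ω b with h2 | h2 <;> rw [h2] <;> simp
      rw [h1]
      ring
    · intro a _ ha
      apply Finset.sum_eq_zero
      intro b _
      rw [xiT_mk, if_neg ha, zero_mul]
    · intro hc
      exact absurd (Finset.mem_univ _) hc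
  unfold Cfsg.classInner
  rw [key]
  by_cases hc : ν = ω
  · have hω : ω ≠ 1 := hc ▸ hν
    have hdeg := szT_over_degree h hF hξ hω
    refine ⟨1, ?_⟩
    rw [if_pos hc, card_szTsub, Nat.card_eq_fintype_card, hF]
    have hn2 : (n : ℂ) = 2 ^ m := by rw [← hn1, hdeg]
    rw [hn2]
    push_cast
    field_simp
    ring
  · refine ⟨0, ?_⟩
    rw [if_neg hc]
    simp

end ChT

end Cfsg.Agent.Lib.Helper37
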