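-- helper37: Suzuki groups, characters, part 3: the characters induced from the Sylow 2-subgroup.
import Mathlib
import Cfsg.Prelude.Def_LieExceptional
import Cfsg.Agent.Lib.Helper37.SzChT

set_option autoImplicit false

namespace Cfsg.Agent.Lib.Helper37

open scoped ComplexConjugate

open Classical

section ChU

variable {F : Type*} [Field F] [Fintype F] {m : ℕ}

omit [Fintype F] in
theorem addChar_conj {s : ℕ} (h : SzData F s) (χ : AddChar F ℂ) (b : F) : conj (χ b) = χ b := by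
  rcases addChar_pm h χ b with h2 | h2 <;> rw [h2] <;> simp

omit [Fintype F] in
theorem scaleChar_one (χ : AddChar F ℂ) : scaleChar χ 1 = χ := by
  apply AddChar.ext
  intro b
  rw [scaleChar_apply, one_mul]

omit [Fintype F] in
theorem scaleChar_zero (χ : AddChar F ℂ) : scaleChar χ 0 = 1 := by
  apply AddChar.ext
  intro b
  rw [scaleChar_apply, zero_mul, AddChar.map_zero_eq_one, AddChar.one_apply]

omit [Fintype F] in
theorem scaleChar_eq_iff {s : ℕ} (h : SzData F s) (χ : AddChar F ℂ) (hχ : χ ≠ 1) (ζ : F) :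
    χ = scaleChar χ ζ ↔ ζ = 1 := by
  constructor
  · intro hc
    have h1 : scaleChar χ 1 = scaleChar χ ζ := by rw [scaleChar_one]; exact hc
    exact (scaleChar_inj h χ hχ h1).symm
  · rintro rfl
    exact (scaleChar_one χ).symm

omit [Fintype F] in
theorem scaleChar_ne_one {s : ℕ} (h : SzData F s) (χ : AddChar F ℂ) (hχ : χ ≠ 1) (ζ : F)
    (hζ : ζ ≠ 0) : scaleChar χ ζ ≠ 1 := by
  intro hc
  rw [← scaleChar_zero χ] at hc
  exact hζ (scaleChar_inj h χ hχ hc)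

/-- the characters of the Sylow 2-subgroup to be induced -/
noncomputable def psiT (h : SzData F (2 ^ (m + 1))) (χ₀ ν : AddChar F ℂ) (c : ℕ) :
    ↥(szTsub (m := m) h) → ℂ :=
  (fun t => ((lamT h χ₀ t : ℂˣ) : ℂ)) + (c : ℂ) • xiT h ν

theorem psiT_mk (h : SzData F (2 ^ (m + 1))) (χ₀ ν : AddChar F ℂ) (c : ℕ) (a b : F) :
    psiT h χ₀ ν c (szTp (m := m) h a b) =
      χ₀ a + (c : ℂ) * (if a = 0 then (2 : ℂ) ^ (m + 1) * ν b else 0) := by
  unfold psiT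
  rw [Pi.add_apply, Pi.smul_apply, lamT_apply, szTa_mk, xiT_mk, smul_eq_mul]

theorem psiT_conj (h : SzData F (2 ^ (m + 1))) (χ₀ ν : AddChar F ℂ) (c : ℕ)
    (t : ↥(szTsub (m := m) h)) : conj (psiT h χ₀ ν c t) = psiT h χ₀ ν c t := by
  rw [← szTp_coords h t, psiT_mk]
  have h2 : conj (2 : ℂ) = 2 := map_ofNat _ 2
  split_ifs
  · simp only [map_add, map_mul, map_pow, Complex.conj_natCast, addChar_conj h, h2]
  · simp only [map_add, map_mul, Complex.conj_natCast, addChar_conj h, map_zero]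

theorem psiT_one (h : SzData F (2 ^ (m + 1))) (χ₀ ν : AddChar F ℂ) (c : ℕ) :
    psiT h χ₀ ν c (1 : ↥(szTsub (m := m) h)) = ((1 + c * 2 ^ (m + 1) : ℕ) : ℂ) := by
  rw [← szTp_one h, psiT_mk, if_pos rfl, AddChar.map_zero_eq_one, AddChar.map_zero_eq_one]
  push_cast
  ring

theorem psiT_isCharacter (h : SzData F (2 ^ (m + 1))) (hF : Fintype.card F = 2 ^ (2 * m + 1))
    [Fintype ↥(szTsub (m := m) h)] (χ₀ ν : AddChar F ℂ) (hν : ν ≠ 1) (c : ℕ) :
    Cfsg.IsCharacter ↥(szTsub (m := m) h) (psiT h χ₀ ν c) := by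
  haveI : Fintype (Cfsg.IrrCharacter ↥(szTsub (m := m) h)) := Fintype.ofFinite _
  exact Cfsg.Agent.Lib.Helper80.isCharacter_add
    (Cfsg.Agent.Lib.Helper80.isCharacter_of_isIrrCharacter
      (Cfsg.Agent.Lib.Helper80.isIrrCharacter_of_hom (lamT h χ₀)))
    (Cfsg.Agent.Lib.Helper80.isCharacter_nsmul (xiT_isCharacter h hF ν hν) c)

/-- the basic double sum -/
theorem psiT_sum (h : SzData F (2 ^ (m + 1))) (χ₀ ν : AddChar F ℂ) (hχ₀ : χ₀ ≠ 1) (hν : ν ≠ 1)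
    (c : ℕ) (ρ κ : F) (hρ0 : ρ ≠ 0) (hκ0 : κ ≠ 0) (e : F → F) (he : e 0 = 0) :
    ∑ a : F, ∑ b : F, psiT h χ₀ ν c (szTp (m := m) h a b) *
        psiT h χ₀ ν c (szTp h (ρ * a) (κ * (b + e a))) =
      (Fintype.card F : ℂ) * (if ρ = 1 then (Fintype.card F : ℂ) else 0) +
        (c : ℂ) ^ 2 * ((2 : ℂ) ^ (m + 1)) ^ 2 * (if κ = 1 then (Fintype.card F : ℂ) else 0) := by
  have hpt : ∀ a b : F, psiT h χ₀ ν c (szTp (m := m) h a b) *
        psiT h χ₀ ν c (szTp h (ρ * a) (κ * (b + e a))) =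
      χ₀ a * scaleChar χ₀ ρ a + (if a = 0 then
        (c : ℂ) * (2 : ℂ) ^ (m + 1) * (scaleChar ν κ b + ν b) +
          (c : ℂ) ^ 2 * ((2 : ℂ) ^ (m + 1)) ^ 2 * (ν b * scaleChar ν κ b) else 0) := by
    intro a b
    rw [psiT_mk, psiT_mk]
    by_cases ha : a = 0
    · subst ha
      rw [if_pos rfl, if_pos (mul_zero ρ), if_pos rfl, he, add_zero, mul_zero,
        AddChar.map_zero_eq_one, scaleChar_apply, scaleChar_apply, mul_zero,
        AddChar.map_zero_eq_one]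
      ring
    · have h1 : ρ * a ≠ 0 := mul_ne_zero hρ0 ha
      rw [if_neg ha, if_neg h1, if_neg ha, scaleChar_apply]
      ring
  simp_rw [hpt]
  have h1 : ∀ a : F, ∑ b : F, (χ₀ a * scaleChar χ₀ ρ a + (if a = 0 then
        (c : ℂ) * (2 : ℂ) ^ (m + 1) * (scaleChar ν κ b + ν b) +
          (c : ℂ) ^ 2 * ((2 : ℂ) ^ (m + 1)) ^ 2 * (ν b * scaleChar ν κ b) else 0)) =
      (Fintype.card F : ℂ) * (χ₀ a * scaleChar χ₀ ρ a) + (if a = 0 then
        ∑ b : F, ((c : ℂ) * (2 : ℂ) ^ (m + 1) * (scaleChar ν κ b + ν b) +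
          (c : ℂ) ^ 2 * ((2 : ℂ) ^ (m + 1)) ^ 2 * (ν b * scaleChar ν κ b)) else 0) := by
    intro a
    rw [Finset.sum_add_distrib, Finset.sum_const, Finset.card_univ, nsmul_eq_mul]
    congr 1
    split_ifs
    · rfl
    · simp
  simp_rw [h1]
  rw [Finset.sum_add_distrib, ← Finset.mul_sum, addChar_orth h χ₀ (scaleChar χ₀ ρ),
    Finset.sum_ite_eq' Finset.univ (0 : F), if_pos (Finset.mem_univ _), Finset.sum_add_distrib,
    ← Finset.mul_sum, ← Finset.mul_sum, Finset.sum_add_distrib,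
    AddChar.sum_eq_zero_of_ne_one (scaleChar_ne_one h ν hν κ hκ0),
    AddChar.sum_eq_zero_of_ne_one hν, addChar_orth h ν (scaleChar ν κ)]
  simp only [scaleChar_eq_iff h χ₀ hχ₀, scaleChar_eq_iff h ν hν]
  ring

/-- the parametrisation of the point stabiliser -/
noncomputable def szBp (h : SzData F (2 ^ (m + 1))) (c d : F) (μ : Fˣ) : ↥(szB F m) :=
  ⟨szTm h c d * szHsub h μ, mul_mem (szTm_mem_szB h c d) (szHsub_mem_szB h μ)⟩

theorem szBp_bijective (h : SzData F (2 ^ (m + 1))) :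
    Function.Bijective (fun p : F × F × Fˣ => szBp (m := m) h p.1 p.2.1 p.2.2) := by
  constructor
  · rintro ⟨c, d, μ⟩ ⟨c', d', μ'⟩ hp
    have h1 : szTm (m := m) h c d * szHsub h μ = szTm h c' d' * szHsub h μ' :=
      congrArg Subtype.val hp
    have h2 := congrArg (fun g : ↥(Cfsg.Sz F m) => g • oPt m (0 : F) 0) h1
    simp only [mul_smul, h.szHsub_smul_zero, szTm_smul_pt] at h2
    obtain ⟨e1, e2⟩ := oPt_inj h2
    have hc : c = c' := by simpa using e1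
    have hd : d = d' := by simpa using e2
    subst hc
    subst hd
    have h3 := mul_left_cancel h1
    rw [szHsub_inj h h3]
  · intro x
    obtain ⟨a, b, μ, hx⟩ := sz_stab_inf' h (x : ↥(Cfsg.Sz F m)) ((mem_szB _).mp x.2)
    exact ⟨(a, b, μ), Subtype.ext hx.symm⟩

theorem sum_szB (h : SzData F (2 ^ (m + 1))) [Fintype ↥(szB F m)] (f : ↥(szB F m) → ℂ) :
    ∑ x : ↥(szB F m), f x = ∑ c : F, ∑ d : F, ∑ μ : Fˣ, f (szBp h c d μ) := by
  rw [← Fintype.sum_bijective _ (szBp_bijective h) (fun p => f (szBp h p.1 p.2.1 p.2.2)) f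
    (fun p => rfl)]
  rw [Fintype.sum_prod_type]
  apply Finset.sum_congr rfl
  intro c _
  rw [Fintype.sum_prod_type]

theorem szBp_conj (h : SzData F (2 ^ (m + 1))) (c d : F) (μ : Fˣ) (a b : F) :
    ((szBp (m := m) h c d μ : ↥(szB F m)) : ↥(Cfsg.Sz F m))⁻¹ * szTm h a b *
        (szBp h c d μ : ↥(szB F m)) =
      szTm h (((μ⁻¹ : Fˣ) : F) ^ 2 * a) ((((μ⁻¹ : Fˣ) : F) ^ 2) ^ (2 ^ (m + 1) + 1) *
        (b + (c ^ 2 ^ (m + 1) * a + a ^ 2 ^ (m + 1) * c))) := by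
  show (szTm h c d * szHsub h μ)⁻¹ * szTm h a b * (szTm h c d * szHsub h μ) = _
  have e1 : (szTm h c d * szHsub h μ)⁻¹ * szTm h a b * (szTm h c d * szHsub h μ) =
      (szHsub h μ)⁻¹ * ((szTm h c d)⁻¹ * szTm h a b * (szTm h c d)⁻¹⁻¹) * (szHsub h μ)⁻¹⁻¹ := by
    group
  rw [e1, szTm_inv, szTm_conj, szHsub_inv, szHsub_conj_szTm]

/-- the Sylow 2-subgroup meets its conjugates outside the point stabiliser trivially -/
theorem szT_TI (h : SzData F (2 ^ (m + 1))) (x : ↥(Cfsg.Sz F m)) (hx : x ∉ szB F m)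
    (a : ↥(Cfsg.Sz F m)) (ha : a ∈ szTsub h) (ha1 : a ≠ 1) : x⁻¹ * a * x ∉ szTsub h := by
  intro hc
  obtain ⟨u, v, rfl⟩ := ha
  obtain ⟨u', v', huv⟩ := hc
  have hne : ¬ (u = 0 ∧ v = 0) := by
    rintro ⟨rfl, rfl⟩
    exact ha1 (szTm_zero h)
  have h2 : (x⁻¹ * szTm h u v * x⁻¹⁻¹) • oInf F m = oInf F m := by
    rw [inv_inv, huv]
    exact szTm_smul_inf h u' v'
  have h3 := sz_T_conj_fix h x⁻¹ u v hne _ h2
  apply hx
  rw [mem_szB]
  conv_lhs => rw [h3]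
  rw [smul_inv_smul]

/-- the norm of the character induced from the Sylow 2-subgroup -/
theorem indT_norm (hm : 1 ≤ m) (hF : Fintype.card F = 2 ^ (2 * m + 1))
    (h : SzData F (2 ^ (m + 1)))
    [Fintype ↥(Cfsg.Sz F m)] [Fintype ↥(szTsub (m := m) h)] [Fintype ↥(szB F m)]
    (χ₀ ν : AddChar F ℂ) (hχ₀ : χ₀ ≠ 1) (hν : ν ≠ 1) (c : ℕ) :
    Cfsg.classInner (Cfsg.indFun (szTsub (m := m) h) (psiT h χ₀ ν c))
        (Cfsg.indFun (szTsub (m := m) h) (psiT h χ₀ ν c)) =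
      1 + 2 * (c : ℂ) ^ 2 + ((2 : ℂ) ^ (2 * m + 1) - 1) * (1 + (c : ℂ) * 2 ^ (m + 1)) ^ 2 := by
  rw [classInner_ind_ind_TI (szTsub h) (szB F m) (szT_TI h)]
  have hsum : ∑ x : ↥(szB F m), ∑ a : ↥(szTsub (m := m) h), psiT h χ₀ ν c a *
        conj (Cfsg.extendByZero (szTsub h) (psiT h χ₀ ν c)
          ((x : ↥(Cfsg.Sz F m))⁻¹ * (a : ↥(Cfsg.Sz F m)) * x)) =
      (Fintype.card F : ℂ) ^ 2 * ((Fintype.card F : ℂ) ^ 2 +
        (c : ℂ) ^ 2 * ((2 : ℂ) ^ (m + 1)) ^ 2 * (Fintype.card F : ℂ)) := by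
    rw [sum_szB h]
    have hin : ∀ (c' d : F) (μ : Fˣ), ∑ a : ↥(szTsub (m := m) h), psiT h χ₀ ν c a *
          conj (Cfsg.extendByZero (szTsub h) (psiT h χ₀ ν c)
            (((szBp h c' d μ : ↥(szB F m)) : ↥(Cfsg.Sz F m))⁻¹ * (a : ↥(Cfsg.Sz F m)) *
              (szBp h c' d μ : ↥(szB F m)))) =
        if μ = 1 then (Fintype.card F : ℂ) ^ 2 +
          (c : ℂ) ^ 2 * ((2 : ℂ) ^ (m + 1)) ^ 2 * (Fintype.card F : ℂ) else 0 := by
      intro c' d μ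
      rw [sum_szT h]
      have hterm : ∀ a b : F, psiT h χ₀ ν c (szTp h a b) *
            conj (Cfsg.extendByZero (szTsub h) (psiT h χ₀ ν c)
              (((szBp h c' d μ : ↥(szB F m)) : ↥(Cfsg.Sz F m))⁻¹ *
                ((szTp h a b : ↥(szTsub (m := m) h)) : ↥(Cfsg.Sz F m)) *
                (szBp h c' d μ : ↥(szB F m)))) =
          psiT h χ₀ ν c (szTp h a b) *
            psiT h χ₀ ν c (szTp h (((μ⁻¹ : Fˣ) : F) ^ 2 * a)
              ((((μ⁻¹ : Fˣ) : F) ^ 2) ^ (2 ^ (m + 1) + 1) *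
                (b + (c' ^ 2 ^ (m + 1) * a + a ^ 2 ^ (m + 1) * c')))) := by
        intro a b
        have e1 : ((szTp h a b : ↥(szTsub (m := m) h)) : ↥(Cfsg.Sz F m)) = szTm h a b := rfl
        rw [e1, szBp_conj]
        have e2 : szTm (m := m) h (((μ⁻¹ : Fˣ) : F) ^ 2 * a)
            ((((μ⁻¹ : Fˣ) : F) ^ 2) ^ (2 ^ (m + 1) + 1) *
                (b + (c' ^ 2 ^ (m + 1) * a + a ^ 2 ^ (m + 1) * c'))) =
            ((szTp h (((μ⁻¹ : Fˣ) : F) ^ 2 * a)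
            ((((μ⁻¹ : Fˣ) : F) ^ 2) ^ (2 ^ (m + 1) + 1) *
                (b + (c' ^ 2 ^ (m + 1) * a + a ^ 2 ^ (m + 1) * c'))) :
              ↥(szTsub (m := m) h)) : ↥(Cfsg.Sz F m)) := rfl
        rw [e2, Cfsg.Agent.Lib.Helper80.extendByZero_apply_mem, psiT_conj]
      simp_rw [hterm]
      have hμ0 : ((μ⁻¹ : Fˣ) : F) ≠ 0 := (μ⁻¹).ne_zero
      rw [psiT_sum h χ₀ ν hχ₀ hν c _ _ (pow_ne_zero 2 hμ0) (pow_ne_zero _ (pow_ne_zero 2 hμ0))
        (fun a => c' ^ 2 ^ (m + 1) * a + a ^ 2 ^ (m + 1) * c') (by simp [h.th_zero])]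
      by_cases hμ : μ = 1
      · subst hμ
        simp only [inv_one, Units.val_one, one_pow, if_true]
        ring
      · have hρ : ((μ⁻¹ : Fˣ) : F) ^ 2 ≠ 1 := by
          intro hc
          apply hμ
          have h1 : ((μ⁻¹ : Fˣ) : F) ^ 2 = (((1 : Fˣ) : Fˣ) : F) ^ 2 := by
            rw [hc, Units.val_one, one_pow]
          exact inv_eq_one.mp (h.unit_sq_inj h1)
        have hκ : (((μ⁻¹ : Fˣ) : F) ^ 2) ^ (2 ^ (m + 1) + 1) ≠ 1 := by
          intro hc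
          apply hρ
          have h1 := h.pow_succ_th (((μ⁻¹ : Fˣ) : F) ^ 2)
          rw [hc, one_pow, one_mul] at h1
          exact h1.symm
        rw [if_neg hρ, if_neg hκ, if_neg hμ]
        ring
    simp_rw [hin]
    rw [Finset.sum_congr rfl (fun c' _ => Finset.sum_congr rfl (fun d _ =>
      Finset.sum_ite_eq' Finset.univ (1 : Fˣ) _))]
    simp only [Finset.mem_univ, if_true, Finset.sum_const, Finset.card_univ, nsmul_eq_mul]
    ring
  have hsub : ((2 ^ (2 * m + 1) - 1 : ℕ) : ℂ) = (2 : ℂ) ^ (2 * m + 1) - 1 := by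
    rw [Nat.cast_sub Nat.one_le_two_pow]
    push_cast
    ring
  rw [hsum, psiT_one, Complex.conj_natCast, card_szTsub, card_sz hm hF, card_szB hm hF,
    Nat.card_eq_fintype_card, hF]
  push_cast [hsub]
  have h2 : (2 : ℂ) ^ (2 * m + 1) ≠ 0 := pow_ne_zero _ two_ne_zero
  field_simp
  ring

end ChU

end Cfsg.Agent.Lib.Helper37
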