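-- helper37: Suzuki groups, characters, part 5: the characters induced from the point stabiliser.
import Mathlib
import Cfsg.Prelude.Def_LieExceptional
import Cfsg.Agent.Lib.Helper37.SzChU

set_option autoImplicit false

namespace Cfsg.Agent.Lib.Helper37

open scoped ComplexConjugate

open Classical

section ChX

variable {F : Type*} [Field F] [Fintype F] {m : ℕ}

theorem szBp_mul (h : SzData F (2 ^ (m + 1))) (c d : F) (μ : Fˣ) (c' d' : F) (μ' : Fˣ) :
    szBp (m := m) h c d μ * szBp h c' d' μ' =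
      szBp h (c + (μ : F) ^ 2 * c')
        (d + ((μ : F) ^ 2) ^ (2 ^ (m + 1) + 1) * d' + c ^ 2 ^ (m + 1) * ((μ : F) ^ 2 * c'))
        (μ * μ') := by
  apply Subtype.ext
  show (szTm h c d * szHsub h μ) * (szTm h c' d' * szHsub h μ') = szTm h _ _ * szHsub h (μ * μ')
  have e1 : (szTm h c d * szHsub h μ) * (szTm h c' d' * szHsub h μ') =
      szTm h c d * (szHsub h μ * szTm h c' d') * szHsub h μ' := by group
  rw [e1, szHsub_mul_szTm, ← szHsub_mul, ← szTm_mul]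
  group

theorem szBp_one (h : SzData F (2 ^ (m + 1))) : szBp (m := m) h 0 0 1 = 1 := by
  apply Subtype.ext
  show szTm h 0 0 * szHsub h 1 = 1
  rw [szTm_zero, szHsub_one, one_mul]

/-- the torus coordinate on the point stabiliser -/
noncomputable def szBmuFun (h : SzData F (2 ^ (m + 1))) (x : ↥(szB F m)) : Fˣ :=
  ((Equiv.ofBijective _ (szBp_bijective (m := m) h)).symm x).2.2

theorem szBmuFun_mk (h : SzData F (2 ^ (m + 1))) (c d : F) (μ : Fˣ) :
    szBmuFun h (szBp (m := m) h c d μ) = μ := by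
  have h1 : szBp (m := m) h c d μ =
      Equiv.ofBijective _ (szBp_bijective (m := m) h) (c, d, μ) := rfl
  unfold szBmuFun
  rw [h1, Equiv.symm_apply_apply]

theorem szBp_surj (h : SzData F (2 ^ (m + 1))) (x : ↥(szB F m)) :
    ∃ (c d : F) (μ : Fˣ), x = szBp h c d μ := by
  obtain ⟨⟨c, d, μ⟩, hp⟩ := (szBp_bijective (m := m) h).2 x
  exact ⟨c, d, μ, hp.symm⟩

/-- the torus coordinate as a homomorphism -/
noncomputable def szBmu (h : SzData F (2 ^ (m + 1))) : ↥(szB F m) →* Fˣ where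
  toFun := szBmuFun h
  map_one' := by
    rw [← szBp_one h, szBmuFun_mk]
  map_mul' x y := by
    obtain ⟨c, d, μ, rfl⟩ := szBp_surj h x
    obtain ⟨c', d', μ', rfl⟩ := szBp_surj h y
    rw [szBp_mul, szBmuFun_mk, szBmuFun_mk, szBmuFun_mk]

theorem szBmu_mk (h : SzData F (2 ^ (m + 1))) (c d : F) (μ : Fˣ) :
    szBmu h (szBp (m := m) h c d μ) = μ := szBmuFun_mk h c d μ

/-- the linear characters of the point stabiliser -/
noncomputable def etaB (h : SzData F (2 ^ (m + 1))) (η : Fˣ →* ℂˣ) : ↥(szB F m) →* ℂˣ :=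
  η.comp (szBmu h)

theorem etaB_mk (h : SzData F (2 ^ (m + 1))) (η : Fˣ →* ℂˣ) (c d : F) (μ : Fˣ) :
    etaB h η (szBp (m := m) h c d μ) = η μ := by
  unfold etaB
  rw [MonoidHom.comp_apply, szBmu_mk]

theorem etaB_inj (h : SzData F (2 ^ (m + 1))) {η η' : Fˣ →* ℂˣ}
    (hc : etaB (m := m) h η = etaB h η') : η = η' := by
  apply MonoidHom.ext
  intro μ
  have h1 := DFunLike.congr_fun hc (szBp h 0 0 μ)
  rw [etaB_mk, etaB_mk] at h1
  exact h1

/-- invariance of the extension by zero under conjugation by the point stabiliser -/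
theorem etaB_ext_conj (h : SzData F (2 ^ (m + 1))) (η : Fˣ →* ℂˣ) (v z : ↥(Cfsg.Sz F m))
    (hv : v ∈ szB F m) :
    Cfsg.extendByZero (szB F m) (fun y => ((etaB h η y : ℂˣ) : ℂ)) (v⁻¹ * z * v) =
      Cfsg.extendByZero (szB F m) (fun y => ((etaB h η y : ℂˣ) : ℂ)) z := by
  by_cases hz : z ∈ szB F m
  · have e1 : v⁻¹ * z * v = (((⟨v, hv⟩ : ↥(szB F m))⁻¹ * ⟨z, hz⟩ * ⟨v, hv⟩ : ↥(szB F m)) :
        ↥(Cfsg.Sz F m)) := rfl
    have e2 : z = ((⟨z, hz⟩ : ↥(szB F m)) : ↥(Cfsg.Sz F m)) := rfl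
    rw [e1, Cfsg.Agent.Lib.Helper80.extendByZero_apply_mem]
    conv_rhs => rw [e2, Cfsg.Agent.Lib.Helper80.extendByZero_apply_mem]
    show ((etaB h η (_⁻¹ * _ * _) : ℂˣ) : ℂ) = _
    rw [map_mul, map_mul, map_inv, mul_comm (etaB h η ⟨v, hv⟩)⁻¹, mul_assoc, inv_mul_cancel,
      mul_one]
  · have hz' : v⁻¹ * z * v ∉ szB F m := by
      intro hc
      apply hz
      have e : z = v * (v⁻¹ * z * v) * v⁻¹ := by group
      rw [e]
      exact mul_mem (mul_mem hv hc) (inv_mem hv)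
    rw [Cfsg.Agent.Lib.Helper80.extendByZero_apply_not_mem _ _ hz,
      Cfsg.Agent.Lib.Helper80.extendByZero_apply_not_mem _ _ hz']

theorem szW_conj_not_mem (h : SzData F (2 ^ (m + 1))) (c d : F) (μ : Fˣ)
    (hne : ¬ (c = 0 ∧ d = 0)) :
    (szWm h)⁻¹ * ((szBp (m := m) h c d μ : ↥(szB F m)) : ↥(Cfsg.Sz F m)) * szWm h ∉ szB F m := by
  intro hmem
  rw [mem_szB] at hmem
  have h1 : ((szWm h)⁻¹ * (szTm h c d * szHsub h μ) * szWm h) • oInf F m = oInf F m := hmem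
  rw [mul_smul, mul_smul, szWm_smul_inf, mul_smul, h.szHsub_smul_zero, szTm_smul_pt] at h1
  have h2 : oPt m (0 + c) (0 + d + c ^ 2 ^ (m + 1) * 0) = szWm h • oInf F m := by
    rw [← h1, smul_inv_smul]
  rw [szWm_smul_inf] at h2
  obtain ⟨e1, e2⟩ := oPt_inj h2
  apply hne
  constructor
  · simpa using e1
  · simpa using e2

/-- the double sum at the Weyl element -/
theorem etaB_sumW (h : SzData F (2 ^ (m + 1))) [Fintype ↥(szB F m)] (η η' : Fˣ →* ℂˣ) :
    ∑ y : ↥(szB F m), ((etaB h η y : ℂˣ) : ℂ) *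
        conj (Cfsg.extendByZero (szB F m) (fun y => ((etaB h η' y : ℂˣ) : ℂ))
          ((szWm h)⁻¹ * (y : ↥(Cfsg.Sz F m)) * szWm h)) =
      if η = η'⁻¹ then (Fintype.card Fˣ : ℂ) else 0 := by
  rw [sum_szB h, Finset.sum_eq_single (0 : F)]
  · rw [Finset.sum_eq_single (0 : F)]
    · rw [← Cfsg.Agent.Lib.Helper25.sum_linChar_mul_conj η η'⁻¹]
      apply Finset.sum_congr rfl
      intro μ _
      rw [etaB_mk]
      have e1 : (szWm h)⁻¹ * ((szBp (m := m) h 0 0 μ : ↥(szB F m)) : ↥(Cfsg.Sz F m)) * szWm h =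
          ((szBp h 0 0 μ⁻¹ : ↥(szB F m)) : ↥(Cfsg.Sz F m)) := by
        show (szWm h)⁻¹ * (szTm h 0 0 * szHsub h μ) * szWm h = szTm h 0 0 * szHsub h μ⁻¹
        rw [szWm_inv, szTm_zero, one_mul, one_mul, szWm_conj_szHsub]
      rw [e1, Cfsg.Agent.Lib.Helper80.extendByZero_apply_mem, etaB_mk, MonoidHom.inv_apply, map_inv]
    · intro d _ hd
      apply Finset.sum_eq_zero
      intro μ _
      rw [Cfsg.Agent.Lib.Helper80.extendByZero_apply_not_mem _ _
        (szW_conj_not_mem h 0 d μ (fun hc => hd hc.2)), map_zero, mul_zero]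
    · intro hc
      exact absurd (Finset.mem_univ _) hc
  · intro c _ hc
    apply Finset.sum_eq_zero
    intro d _
    apply Finset.sum_eq_zero
    intro μ _
    rw [Cfsg.Agent.Lib.Helper80.extendByZero_apply_not_mem _ _
      (szW_conj_not_mem h c d μ (fun hc' => hc hc'.1)), map_zero, mul_zero]
  · intro hc
    exact absurd (Finset.mem_univ _) hc

/-- the inner products of the characters induced from the point stabiliser -/
theorem indB_inner (hm : 1 ≤ m) (hF : Fintype.card F = 2 ^ (2 * m + 1))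
    (h : SzData F (2 ^ (m + 1))) [Fintype ↥(Cfsg.Sz F m)] [Fintype ↥(szB F m)]
    (η η' : Fˣ →* ℂˣ) :
    Cfsg.classInner (Cfsg.indFun (szB F m) (fun y => ((etaB h η y : ℂˣ) : ℂ)))
        (Cfsg.indFun (szB F m) (fun y => ((etaB h η' y : ℂˣ) : ℂ))) =
      (if η = η' then 1 else 0) + (if η = η'⁻¹ then 1 else 0) := by
  rw [classInner_ind_ind]
  have hout : ∀ x : ↥(Cfsg.Sz F m), x ∉ szB F m →
      ∑ a : ↥(szB F m), ((etaB h η a : ℂˣ) : ℂ) *
        conj (Cfsg.extendByZero (szB F m) (fun y => ((etaB h η' y : ℂˣ) : ℂ))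
          (x⁻¹ * (a : ↥(Cfsg.Sz F m)) * x)) =
      if η = η'⁻¹ then (Fintype.card Fˣ : ℂ) else 0 := by
    intro x hx
    obtain ⟨a, b, c, d, μ, rfl⟩ := sz_bruhat' h x (fun hc => hx ((mem_szB _).mpr hc))
    rw [← etaB_sumW h η η']
    let u : ↥(szB F m) := ⟨szTm h a b, szTm_mem_szB h a b⟩
    have hv : szTm h c d * szHsub h μ ∈ szB F m :=
      mul_mem (szTm_mem_szB h c d) (szHsub_mem_szB h μ)
    let e : ↥(szB F m) ≃ ↥(szB F m) :=
      { toFun := fun y => u⁻¹ * y * u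
        invFun := fun y => u * y * u⁻¹
        left_inv := by
          intro y
          group
        right_inv := by
          intro y
          group }
    refine Fintype.sum_equiv e _ _ (fun y => ?_)
    have e1 : (szTm h a b * szWm h * szTm h c d * szHsub h μ)⁻¹ * (y : ↥(Cfsg.Sz F m)) *
        (szTm h a b * szWm h * szTm h c d * szHsub h μ) =
        (szTm h c d * szHsub h μ)⁻¹ * ((szWm h)⁻¹ * ((szTm h a b)⁻¹ * (y : ↥(Cfsg.Sz F m)) *
          szTm h a b) * szWm h) * (szTm h c d * szHsub h μ) := by group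
    rw [e1, etaB_ext_conj h η' _ _ hv]
    have e2 : ((e y : ↥(szB F m)) : ↥(Cfsg.Sz F m)) =
        (szTm h a b)⁻¹ * (y : ↥(Cfsg.Sz F m)) * szTm h a b := rfl
    rw [e2]
    congr 1
    show ((etaB h η y : ℂˣ) : ℂ) = ((etaB h η (u⁻¹ * y * u) : ℂˣ) : ℂ)
    rw [map_mul, map_mul, map_inv, mul_comm (etaB h η u)⁻¹, mul_assoc, inv_mul_cancel, mul_one]
  have hin : ∀ x : ↥(szB F m),
      ∑ a : ↥(szB F m), ((etaB h η a : ℂˣ) : ℂ) *
        conj (Cfsg.extendByZero (szB F m) (fun y => ((etaB h η' y : ℂˣ) : ℂ))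
          ((x : ↥(Cfsg.Sz F m))⁻¹ * (a : ↥(Cfsg.Sz F m)) * x)) =
      if η = η' then (Nat.card ↥(szB F m) : ℂ) else 0 := by
    intro x
    have h1 : ∀ a : ↥(szB F m), Cfsg.extendByZero (szB F m) (fun y => ((etaB h η' y : ℂˣ) : ℂ))
          ((x : ↥(Cfsg.Sz F m))⁻¹ * (a : ↥(Cfsg.Sz F m)) * x) = ((etaB h η' a : ℂˣ) : ℂ) := by
      intro a
      rw [etaB_ext_conj h η' _ _ x.2]
      exact Cfsg.Agent.Lib.Helper80.extendByZero_apply_mem _ _ a
    simp_rw [h1]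
    rw [Cfsg.Agent.Lib.Helper25.sum_linChar_mul_conj, Nat.card_eq_fintype_card]
    by_cases hc : η = η'
    · rw [if_pos hc, if_pos (by rw [hc])]
    · rw [if_neg hc, if_neg (fun hc' => hc (etaB_inj h hc'))]
  rw [sum_split_subgroup (szB F m) _ _ hout]
  simp_rw [hin]
  rw [Finset.sum_const, Finset.card_univ, nsmul_eq_mul, ← Nat.card_eq_fintype_card]
  have hsub : ((2 ^ (2 * m + 1) - 1 : ℕ) : ℂ) = (2 : ℂ) ^ (2 * m + 1) - 1 := by
    rw [Nat.cast_sub Nat.one_le_two_pow]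
    push_cast
    ring
  have key : ((Nat.card ↥(Cfsg.Sz F m) : ℂ) - (Nat.card ↥(szB F m) : ℂ)) *
      (Fintype.card Fˣ : ℂ) = (Nat.card ↥(szB F m) : ℂ) ^ 2 := by
    rw [card_sz hm hF, card_szB hm hF, Fintype.card_units, hF]
    push_cast [hsub]
    ring
  have hb : (Nat.card ↥(szB F m) : ℂ) ≠ 0 := by
    exact_mod_cast Nat.card_pos.ne'
  by_cases h1 : η = η'
  · by_cases h2 : η = η'⁻¹
    · rw [if_pos h1, if_pos h2, if_pos h1, if_pos h2, key]
      field_simp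
    · rw [if_pos h1, if_neg h2, if_pos h1, if_neg h2, mul_zero]
      field_simp
      ring
  · by_cases h2 : η = η'⁻¹
    · rw [if_neg h1, if_pos h2, if_neg h1, if_pos h2, key]
      field_simp
      ring
    · rw [if_neg h1, if_neg h2, if_neg h1, if_neg h2]
      simp

/-- the index of the point stabiliser -/
theorem szB_index (hm : 1 ≤ m) (hF : Fintype.card F = 2 ^ (2 * m + 1)) :
    (szB F m).index = (2 ^ (2 * m + 1)) ^ 2 + 1 := by
  have h1 := Subgroup.card_mul_index (szB F m)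
  rw [card_szB hm hF, card_sz hm hF] at h1
  have h3 : 0 < 2 ^ (2 * m + 1) - 1 := by
    have := Nat.one_lt_two_pow (n := 2 * m + 1) (by omega)
    omega
  have h2 : 0 < (2 ^ (2 * m + 1)) ^ 2 * (2 ^ (2 * m + 1) - 1) := by positivity
  apply Nat.eq_of_mul_eq_mul_left h2
  rw [h1]
  ring

/-- a linear character of the multiplicative group equal to its inverse is trivial -/
theorem eta_sq_trivial (hF : Fintype.card F = 2 ^ (2 * m + 1)) (η : Fˣ →* ℂˣ)
    (hη : η = η⁻¹) : η = 1 := by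
  apply MonoidHom.ext
  intro μ
  have h1 : η μ * η μ = 1 := by
    have h0 := DFunLike.congr_fun hη μ
    rw [MonoidHom.inv_apply] at h0
    nth_rewrite 1 [h0]
    exact inv_mul_cancel _
  have h2 : η μ ^ (Fintype.card Fˣ) = 1 := by
    rw [← map_pow, pow_card_eq_one, map_one]
  rw [Fintype.card_units, hF] at h2
  obtain ⟨k, hk⟩ : ∃ k, 2 ^ (2 * m + 1) - 1 = 2 * k + 1 := by
    refine ⟨2 ^ (2 * m) - 1, ?_⟩
    have e1 : 2 ^ (2 * m + 1) = 2 * 2 ^ (2 * m) := by ring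
    have e2 := Nat.one_le_two_pow (n := 2 * m)
    omega
  rw [hk, pow_succ, pow_mul, pow_two, h1, one_pow, one_mul] at h2
  exact h2

/-- the irreducible characters of degree `q ^ 2 + 1` -/
theorem sz_family_X (hm : 1 ≤ m) (hF : Fintype.card F = 2 ^ (2 * m + 1))
    [Fintype ↥(Cfsg.Sz F m)] :
    ∃ S : Finset (Cfsg.IrrCharacter ↥(Cfsg.Sz F m)),
      (∀ χ ∈ S, (χ : ↥(Cfsg.Sz F m) → ℂ) 1 = (((2 ^ (2 * m + 1)) ^ 2 + 1 : ℕ) : ℂ)) ∧
      2 ^ (2 * m + 1) - 2 ≤ 2 * S.card := by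
  have h := szData_of_card hm hF
  haveI : Fintype ↥(szB F m) := Fintype.ofFinite _
  haveI : Fintype (Cfsg.IrrCharacter ↥(Cfsg.Sz F m)) := Fintype.ofFinite _
  haveI : Finite (Fˣ →* ℂˣ) := Cfsg.Agent.Lib.Helper79.finite_monoidHom_units
  letI : Fintype (Fˣ →* ℂˣ) := Fintype.ofFinite _
  have hirr : ∀ η : Fˣ →* ℂˣ, η ≠ 1 → Cfsg.IsIrrCharacter ↥(Cfsg.Sz F m)
      (Cfsg.indFun (szB F m) (fun y => ((etaB h η y : ℂˣ) : ℂ))) := by
    intro η hη
    apply Cfsg.Agent.Lib.Helper80.isIrrCharacter_of_classInner_eq_one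
      (Cfsg.Agent.Lib.Helper80.isCharacter_indFun _
        (Cfsg.Agent.Lib.Helper80.isCharacter_of_isIrrCharacter
          (Cfsg.Agent.Lib.Helper80.isIrrCharacter_of_hom (etaB h η))))
    rw [indB_inner hm hF h, if_pos rfl, if_neg (fun hc => hη (eta_sq_trivial hF η hc)), add_zero]
  let f : (Fˣ →* ℂˣ) → Cfsg.IrrCharacter ↥(Cfsg.Sz F m) := fun η =>
    if hη : η ≠ 1 then ⟨Cfsg.indFun (szB F m) (fun y => ((etaB h η y : ℂˣ) : ℂ)), hirr η hη⟩
    else ⟨fun _ => 1, Cfsg.Agent.Lib.Helper80.isIrrCharacter_one⟩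
  have hf : ∀ η : Fˣ →* ℂˣ, η ≠ 1 →
      ((f η : Cfsg.IrrCharacter ↥(Cfsg.Sz F m)) : ↥(Cfsg.Sz F m) → ℂ) =
        Cfsg.indFun (szB F m) (fun y => ((etaB h η y : ℂˣ) : ℂ)) := by
    intro η hη
    show ((if hη : η ≠ 1 then (⟨Cfsg.indFun (szB F m) (fun y => ((etaB h η y : ℂˣ) : ℂ)),
        hirr η hη⟩ : Cfsg.IrrCharacter ↥(Cfsg.Sz F m))
      else ⟨fun _ => 1, Cfsg.Agent.Lib.Helper80.isIrrCharacter_one⟩ :
        Cfsg.IrrCharacter ↥(Cfsg.Sz F m)) : ↥(Cfsg.Sz F m) → ℂ) = _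
    rw [dif_pos hη]
  let L : Finset (Fˣ →* ℂˣ) := Finset.univ.filter (fun η => η ≠ 1)
  have hLcard : L.card = 2 ^ (2 * m + 1) - 2 := by
    show (Finset.univ.filter (fun η : Fˣ →* ℂˣ => η ≠ 1)).card = _
    have hcomm : commutator Fˣ = ⊥ := by
      rw [commutator_eq_bot_iff_center_eq_top]
      ext a
      simp only [Subgroup.mem_top, iff_true]
      rw [Subgroup.mem_center_iff]
      intro b
      exact mul_comm b a
    rw [Finset.filter_ne' Finset.univ (1 : Fˣ →* ℂˣ), Finset.card_erase_of_mem (Finset.mem_univ _),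
      Finset.card_univ, ← Nat.card_eq_fintype_card, Cfsg.Agent.Lib.Helper79.card_monoidHom_units,
      hcomm, Subgroup.index_bot, Nat.card_eq_fintype_card, Fintype.card_units, hF]
    omega
  refine ⟨L.image f, ?_, ?_⟩
  · intro χ hχ
    obtain ⟨η, hη, rfl⟩ := Finset.mem_image.mp hχ
    have hη1 : η ≠ 1 := (Finset.mem_filter.mp hη).2
    rw [hf η hη1, Cfsg.Agent.Lib.Helper80.indFun_one, szB_index hm hF, map_one, Units.val_one,
      mul_one]
  · rw [← hLcard]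
    apply Finset.card_le_mul_card_image
    intro b hb
    obtain ⟨η₀, hη₀, rfl⟩ := Finset.mem_image.mp hb
    have hη₀1 : η₀ ≠ 1 := (Finset.mem_filter.mp hη₀).2
    refine le_trans (Finset.card_le_card (t := {η₀, η₀⁻¹}) ?_) Finset.card_le_two
    intro η hη
    rw [Finset.mem_filter] at hη
    have hη1 : η ≠ 1 := (Finset.mem_filter.mp hη.1).2
    have h2 : ((f η : Cfsg.IrrCharacter ↥(Cfsg.Sz F m)) : ↥(Cfsg.Sz F m) → ℂ) =
        ((f η₀ : Cfsg.IrrCharacter ↥(Cfsg.Sz F m)) : ↥(Cfsg.Sz F m) → ℂ) :=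
      congrArg Subtype.val hη.2
    rw [hf η hη1, hf η₀ hη₀1] at h2
    have h3 := indB_inner hm hF h η₀ η
    have h4 := indB_inner hm hF h η₀ η₀
    rw [h2, h4] at h3
    rw [Finset.mem_insert, Finset.mem_singleton]
    by_contra hcon
    rw [not_or] at hcon
    have hc2 : ¬ (η₀ = η⁻¹) := by
      intro hc
      apply hcon.2
      rw [hc]
      exact (inv_inv η).symm
    rw [if_pos rfl, if_neg (Ne.symm hcon.1), if_neg hc2] at h3
    split_ifs at h3 <;> norm_num at h3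

/-- the Steinberg character -/
theorem sz_steinberg (hm : 1 ≤ m) (hF : Fintype.card F = 2 ^ (2 * m + 1))
    [Fintype ↥(Cfsg.Sz F m)] :
    ∃ χ : Cfsg.IrrCharacter ↥(Cfsg.Sz F m),
      (χ : ↥(Cfsg.Sz F m) → ℂ) 1 = (((2 ^ (2 * m + 1)) ^ 2 : ℕ) : ℂ) := by
  have h := szData_of_card hm hF
  haveI : Fintype ↥(szB F m) := Fintype.ofFinite _
  haveI : Fintype (Cfsg.IrrCharacter ↥(Cfsg.Sz F m)) := Fintype.ofFinite _
  have hIchar : Cfsg.IsCharacter ↥(Cfsg.Sz F m)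
      (Cfsg.indFun (szB F m) (fun y => ((etaB h 1 y : ℂˣ) : ℂ))) :=
    Cfsg.Agent.Lib.Helper80.isCharacter_indFun _
      (Cfsg.Agent.Lib.Helper80.isCharacter_of_isIrrCharacter
        (Cfsg.Agent.Lib.Helper80.isIrrCharacter_of_hom (etaB h 1)))
  have h11 : Cfsg.classInner (Cfsg.indFun (szB F m) (fun y => ((etaB h 1 y : ℂˣ) : ℂ)))
      (Cfsg.indFun (szB F m) (fun y => ((etaB h 1 y : ℂˣ) : ℂ))) = 2 := by
    rw [indB_inner hm hF h, if_pos rfl]
    have e : (1 : Fˣ →* ℂˣ) = 1⁻¹ := by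
      apply MonoidHom.ext
      intro x
      rw [MonoidHom.inv_apply, MonoidHom.one_apply, inv_one]
    rw [if_pos e]
    norm_num
  have h1I : Cfsg.classInner (Cfsg.indFun (szB F m) (fun y => ((etaB h 1 y : ℂˣ) : ℂ)))
      (fun _ : ↥(Cfsg.Sz F m) => (1 : ℂ)) = 1 := by
    rw [Cfsg.Agent.Lib.Helper80.frobenius_reciprocity (szB F m) _ _ (fun _ _ => rfl)]
    unfold Cfsg.classInner
    have h5 : ∀ y : ↥(szB F m), ((etaB h 1 y : ℂˣ) : ℂ) * conj (1 : ℂ) = 1 := by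
      intro y
      unfold etaB
      simp
    simp only [h5]
    rw [Finset.sum_const, Finset.card_univ, nsmul_eq_mul, mul_one, ← Nat.card_eq_fintype_card]
    have hb : (Nat.card ↥(szB F m) : ℂ) ≠ 0 := by
      exact_mod_cast Nat.card_pos.ne'
    exact inv_mul_cancel₀ hb
  have hI1 : Cfsg.classInner (fun _ : ↥(Cfsg.Sz F m) => (1 : ℂ))
      (Cfsg.indFun (szB F m) (fun y => ((etaB h 1 y : ℂˣ) : ℂ))) = 1 := by
    rw [← Cfsg.Agent.Lib.Helper26.classInner_conj_symm, h1I, map_one]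
  have h00 : Cfsg.classInner (fun _ : ↥(Cfsg.Sz F m) => (1 : ℂ)) (fun _ => 1) = 1 :=
    Cfsg.Agent.Lib.Helper26.classInner_irr_self Cfsg.Agent.Lib.Helper80.isIrrCharacter_one
  have hdeg : (Cfsg.indFun (szB F m) (fun y => ((etaB h 1 y : ℂˣ) : ℂ)) -
      fun _ : ↥(Cfsg.Sz F m) => (1 : ℂ)) 1 = (((2 ^ (2 * m + 1)) ^ 2 : ℕ) : ℂ) := by
    rw [Pi.sub_apply, Cfsg.Agent.Lib.Helper80.indFun_one, szB_index hm hF, map_one, Units.val_one]
    push_cast
    ring
  have hirr : Cfsg.IsIrrCharacter ↥(Cfsg.Sz F m)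
      (Cfsg.indFun (szB F m) (fun y => ((etaB h 1 y : ℂˣ) : ℂ)) -
        fun _ : ↥(Cfsg.Sz F m) => (1 : ℂ)) := by
    apply irr_of_norm_one (Cfsg.Agent.Lib.Helper26.isGen_sub
      (Cfsg.Agent.Lib.Helper26.isGen_of_isCharacter hIchar)
      (Cfsg.Agent.Lib.Helper26.isGen_of_irr Cfsg.Agent.Lib.Helper80.isIrrCharacter_one)) _
      ((2 ^ (2 * m + 1)) ^ 2) hdeg (by positivity)
    rw [Cfsg.Agent.Lib.Helper26.classInner_sub_left, Cfsg.Agent.Lib.Helper26.classInner_sub_right,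
      Cfsg.Agent.Lib.Helper26.classInner_sub_right, h11, h1I, hI1, h00]
    norm_num
  exact ⟨⟨_, hirr⟩, hdeg⟩

end ChX

end Cfsg.Agent.Lib.Helper37
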