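-- helper37: Suzuki groups, characters, part 4: the characters attached to the two tori without
-- fixed points.
import Mathlib
import Cfsg.Prelude.Def_LieExceptional
import Cfsg.Agent.Lib.Helper37.SzChU
import Cfsg.Agent.Lib.Helper37.SzTori6

set_option autoImplicit false

namespace Cfsg.Agent.Lib.Helper37

open scoped ComplexConjugate

open Classical

section ChY

variable {F : Type*} [Field F] [Fintype F] {m : ℕ}

/-- the character induced from the Sylow 2-subgroup is a character -/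
theorem indT_isCharacter (hF : Fintype.card F = 2 ^ (2 * m + 1))
    (h : SzData F (2 ^ (m + 1))) [Fintype ↥(Cfsg.Sz F m)]
    (χ₀ ν : AddChar F ℂ) (hν : ν ≠ 1) (c : ℕ) :
    Cfsg.IsCharacter ↥(Cfsg.Sz F m) (Cfsg.indFun (szTsub (m := m) h) (psiT h χ₀ ν c)) := by
  haveI : Fintype ↥(szTsub (m := m) h) := Fintype.ofFinite _
  exact Cfsg.Agent.Lib.Helper80.isCharacter_indFun _ (psiT_isCharacter h hF χ₀ ν hν c)

/-- its degree -/
theorem indT_one (hm : 1 ≤ m) (hF : Fintype.card F = 2 ^ (2 * m + 1))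
    (h : SzData F (2 ^ (m + 1))) [Fintype ↥(Cfsg.Sz F m)]
    (χ₀ ν : AddChar F ℂ) (c : ℕ) :
    Cfsg.indFun (szTsub (m := m) h) (psiT h χ₀ ν c) 1 =
      ((((2 ^ (2 * m + 1)) ^ 2 + 1) * (2 ^ (2 * m + 1) - 1) * (1 + c * 2 ^ (m + 1)) : ℕ) : ℂ) := by
  have hidx : (szTsub (m := m) h).index = ((2 ^ (2 * m + 1)) ^ 2 + 1) * (2 ^ (2 * m + 1) - 1) :=
    szTsub_index hm hF
  rw [Cfsg.Agent.Lib.Helper80.indFun_one, psiT_one, hidx]
  push_cast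
  ring

/-- it vanishes on the nonidentity elements of odd order -/
theorem indT_vanish (h : SzData F (2 ^ (m + 1))) [Fintype ↥(Cfsg.Sz F m)]
    (θ : ↥(szTsub (m := m) h) → ℂ) (g : ↥(Cfsg.Sz F m)) (hodd : ¬ 2 ∣ orderOf g) (hg1 : g ≠ 1) :
    Cfsg.indFun (szTsub (m := m) h) θ g = 0 := by
  apply indFun_eq_zero_of_not_conj
  intro x hx
  obtain ⟨a, b, hab⟩ := hx
  have h1 : (x⁻¹ * g * x) ^ 2 ^ 2 = 1 := by
    rw [hab]
    exact szTm_pow_four h a b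
  have e : x⁻¹ * g * x = x⁻¹ * g * x⁻¹⁻¹ := by rw [inv_inv]
  rw [e, conj_pow] at h1
  have h2 : g ^ 2 ^ 2 = 1 := by
    have h3 : g ^ 2 ^ 2 = x * (x⁻¹ * g ^ 2 ^ 2 * x⁻¹⁻¹) * x⁻¹ := by group
    rw [h3, h1]
    group
  have h3 := orderOf_dvd_of_pow_eq_one h2
  obtain ⟨k, hk, hk2⟩ := (Nat.dvd_prime_pow Nat.prime_two).mp h3
  rcases Nat.eq_zero_or_pos k with rfl | hkpos
  · rw [pow_zero] at hk2
    exact hg1 (orderOf_eq_one_iff.mp hk2)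
  · apply hodd
    rw [hk2]
    exact dvd_pow_self 2 hkpos.ne'

/-- the centraliser of an element without fixed points is the centraliser of each of its
nonidentity elements -/
theorem szTorus_cent (hm : 1 ≤ m) (hF : Fintype.card F = 2 ^ (2 * m + 1))
    (x : ↥(Cfsg.Sz F m)) (hx : szFpf x) :
    ∀ a ∈ Subgroup.centralizer ({x} : Set ↥(Cfsg.Sz F m)), a ≠ 1 →
      ∀ y : ↥(Cfsg.Sz F m), y * a = a * y ↔
        y ∈ Subgroup.centralizer ({x} : Set ↥(Cfsg.Sz F m)) := by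
  intro a ha ha1 y
  rw [← szFpf_centralizer_eq hm hF x a hx ha ha1, Subgroup.mem_centralizer_singleton_iff]

/-- the family of irreducible characters attached to a torus without fixed points -/
theorem sz_torus_family (hm : 1 ≤ m) (hF : Fintype.card F = 2 ^ (2 * m + 1))
    [Fintype ↥(Cfsg.Sz F m)] (x : ↥(Cfsg.Sz F m)) (hx : szFpf x)
    (hN : Nat.card ↥(Subgroup.normalizer ((Subgroup.centralizer ({x} : Set ↥(Cfsg.Sz F m)) :
        Subgroup ↥(Cfsg.Sz F m)) : Set ↥(Cfsg.Sz F m))) =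
        4 * Nat.card ↥(Subgroup.centralizer ({x} : Set ↥(Cfsg.Sz F m))))
    (hodd : ¬ 2 ∣ Nat.card ↥(Subgroup.centralizer ({x} : Set ↥(Cfsg.Sz F m))))
    (c d : ℕ) (hd0 : 0 < d)
    (hPd : ((2 ^ (2 * m + 1)) ^ 2 + 1) * (2 ^ (2 * m + 1) - 1) * (1 + c * 2 ^ (m + 1)) =
      (Subgroup.centralizer ({x} : Set ↥(Cfsg.Sz F m))).index + d)
    (hnorm : (1 + 2 * (c : ℂ) ^ 2 + ((2 : ℂ) ^ (2 * m + 1) - 1) * (1 + (c : ℂ) * 2 ^ (m + 1)) ^ 2) -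
      2 * ((Nat.card ↥(Subgroup.centralizer ({x} : Set ↥(Cfsg.Sz F m))) : ℂ)⁻¹ *
        ((((2 ^ (2 * m + 1)) ^ 2 + 1) * (2 ^ (2 * m + 1) - 1) * (1 + c * 2 ^ (m + 1)) : ℕ) : ℂ)) +
      ((Nat.card ↥(Subgroup.centralizer ({x} : Set ↥(Cfsg.Sz F m))) : ℂ)⁻¹) ^ 2 *
        ((Nat.card ↥(Subgroup.centralizer ({x} : Set ↥(Cfsg.Sz F m))) : ℂ) *
          (Nat.card ↥(Subgroup.centralizer ({x} : Set ↥(Cfsg.Sz F m))) : ℂ) +
          ((Nat.card ↥(Cfsg.Sz F m) : ℂ) -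
            (Nat.card ↥(Subgroup.normalizer ((Subgroup.centralizer
              ({x} : Set ↥(Cfsg.Sz F m)) : Subgroup ↥(Cfsg.Sz F m)) :
                Set ↥(Cfsg.Sz F m))) : ℂ))) = 1) :
    ∃ S : Finset (Cfsg.IrrCharacter ↥(Cfsg.Sz F m)), (∀ χ ∈ S, (χ : ↥(Cfsg.Sz F m) → ℂ) 1 = (d : ℂ)) ∧
      Nat.card ↥(Subgroup.centralizer ({x} : Set ↥(Cfsg.Sz F m))) - 1 ≤ 4 * S.card := by
  have h := szData_of_card hm hF
  haveI : Fintype ↥(szTsub (m := m) h) := Fintype.ofFinite _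
  haveI : Fintype ↥(szB F m) := Fintype.ofFinite _
  haveI : Fintype ↥(Subgroup.centralizer ({x} : Set ↥(Cfsg.Sz F m))) := Fintype.ofFinite _
  haveI : Fintype ↥(Subgroup.normalizer ((Subgroup.centralizer ({x} : Set ↥(Cfsg.Sz F m)) :
        Subgroup ↥(Cfsg.Sz F m)) : Set ↥(Cfsg.Sz F m))) := Fintype.ofFinite _
  obtain ⟨χ₀, hχ₀⟩ : ∃ χ₀ : AddChar F ℂ, χ₀ ≠ 1 := by
    obtain ⟨ψ, hψ⟩ := (AddChar.exists_apply_ne_zero (a := (1 : F))).mpr one_ne_zero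
    refine ⟨ψ, ?_⟩
    rintro rfl
    exact hψ (AddChar.one_apply _)
  have hcent := szTorus_cent hm hF x hx
  have hcomm := selfCent_comm _ hcent
  refine torus_family (Subgroup.centralizer ({x} : Set ↥(Cfsg.Sz F m)))
    (Subgroup.normalizer ((Subgroup.centralizer ({x} : Set ↥(Cfsg.Sz F m)) :
        Subgroup ↥(Cfsg.Sz F m)) : Set ↥(Cfsg.Sz F m))) Subgroup.le_normalizer
    (normalizer_conj_mem _) (selfCent_TI _ hcent) hcomm
    (fun a ha ha1 y hy => (hcent a ha ha1 y).mp hy)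
    (Cfsg.indFun (szTsub (m := m) h) (psiT h χ₀ χ₀ c))
    (indT_isCharacter hF h χ₀ χ₀ hχ₀ c) ?_ _ d 4 (indT_one hm hF h χ₀ χ₀ c) hd0 hPd hN ?_
  · intro a ha ha1
    apply indT_vanish h _ a _ ha1
    intro h2
    exact hodd (dvd_trans h2 (Subgroup.orderOf_dvd_natCard _ ha))
  · rw [indT_norm hm hF h χ₀ χ₀ hχ₀ hχ₀ c]
    exact hnorm

theorem torus_norm_arith (S a b c q r P G N : ℂ) (hq : q = 2 * S ^ 2) (hr : r = 2 * S)
    (ha : a = 2 * S ^ 2 + 2 * S + 1) (hc : c = S - 1)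
    (hP : P = (q ^ 2 + 1) * (q - 1) * (1 + c * r)) (hG : G = q ^ 2 * (q ^ 2 + 1) * (q - 1))
    (hN : N = 4 * a) (hb : a * b = 1) :
    (1 + 2 * c ^ 2 + (q - 1) * (1 + c * r) ^ 2) - 2 * (b * P) + b ^ 2 * (a * a + (G - N)) = 1 := by
  subst hq hr hc hP hG hN
  rw [ha] at hb ⊢
  linear_combination (2 * b * ((((2 * S ^ 2) ^ 2 + 1) * (2 * S ^ 2 - 1) * (1 + (S - 1) * (2 * S)))) -
    (2 * (S - 1) ^ 2 + (2 * S ^ 2 - 1) * (1 + (S - 1) * (2 * S)) ^ 2) *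
      (1 + (2 * S ^ 2 + 2 * S + 1) * b)) * hb

theorem torus_norm_arith' (S a b c q r P G N : ℂ) (hq : q = 2 * S ^ 2) (hr : r = 2 * S)
    (ha : a = 2 * S ^ 2 - 2 * S + 1) (hc : c = S + 1)
    (hP : P = (q ^ 2 + 1) * (q - 1) * (1 + c * r)) (hG : G = q ^ 2 * (q ^ 2 + 1) * (q - 1))
    (hN : N = 4 * a) (hb : a * b = 1) :
    (1 + 2 * c ^ 2 + (q - 1) * (1 + c * r) ^ 2) - 2 * (b * P) + b ^ 2 * (a * a + (G - N)) = 1 := by
  subst hq hr hc hP hG hN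
  rw [ha] at hb ⊢
  linear_combination (2 * b * ((((2 * S ^ 2) ^ 2 + 1) * (2 * S ^ 2 - 1) * (1 + (S + 1) * (2 * S)))) -
    (2 * (S + 1) ^ 2 + (2 * S ^ 2 - 1) * (1 + (S + 1) * (2 * S)) ^ 2) *
      (1 + (2 * S ^ 2 - 2 * S + 1) * b)) * hb

/-- the irreducible characters of degree `(q - 1) (q - r + 1)` -/
theorem sz_family_Y (hm : 1 ≤ m) (hF : Fintype.card F = 2 ^ (2 * m + 1))
    [Fintype ↥(Cfsg.Sz F m)] :
    ∃ S : Finset (Cfsg.IrrCharacter ↥(Cfsg.Sz F m)),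
      (∀ χ ∈ S, (χ : ↥(Cfsg.Sz F m) → ℂ) 1 =
        (((2 ^ (2 * m + 1) - 1) * (2 ^ (2 * m + 1) + 1 - 2 ^ (m + 1)) : ℕ) : ℂ)) ∧
      2 ^ (2 * m + 1) + 2 ^ (m + 1) ≤ 4 * S.card := by
  obtain ⟨x₁, x₂, hx₁, hx₂, hc1, hc2, hn1, hn2, -⟩ := sz_tori hm hF
  obtain ⟨t, ht⟩ : ∃ t, 2 ^ m = t + 1 := ⟨2 ^ m - 1, by have := Nat.one_le_two_pow (n := m); omega⟩
  have hQ : 2 ^ (2 * m + 1) = 2 * t ^ 2 + 4 * t + 2 := by
    have e : 2 ^ (2 * m + 1) = 2 * (2 ^ m) ^ 2 := by ring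
    rw [e, ht]
    ring
  have hR : 2 ^ (m + 1) = 2 * t + 2 := by
    rw [pow_succ, ht]
    ring
  have e1 : 2 * t ^ 2 + 4 * t + 2 - 1 = 2 * t ^ 2 + 4 * t + 1 := by omega
  have e2 : 2 * t ^ 2 + 4 * t + 2 + 1 - (2 * t + 2) = 2 * t ^ 2 + 2 * t + 1 := by omega
  have e3 : t + 1 - 1 = t := by omega
  have hidx : (Subgroup.centralizer ({x₁} : Set ↥(Cfsg.Sz F m))).index =
      (2 * t ^ 2 + 4 * t + 2) ^ 2 * (2 * t ^ 2 + 4 * t + 1) * (2 * t ^ 2 + 2 * t + 1) := by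
    have h1 := Subgroup.card_mul_index (Subgroup.centralizer ({x₁} : Set ↥(Cfsg.Sz F m)))
    rw [hc1, card_sz hm hF, hQ, hR, e1] at h1
    apply Nat.eq_of_mul_eq_mul_left (show 0 < 2 * t ^ 2 + 4 * t + 2 + (2 * t + 2) + 1 by omega)
    rw [h1]
    ring
  obtain ⟨S, hS1, hS2⟩ := sz_torus_family hm hF x₁ hx₁ hn1
    (by
      rw [hc1, hQ, hR]
      omega)
    (2 ^ m - 1) ((2 ^ (2 * m + 1) - 1) * (2 ^ (2 * m + 1) + 1 - 2 ^ (m + 1)))
    (by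
      rw [hQ, hR, e1, e2]
      positivity)
    (by
      rw [hidx, ht, hQ, hR, e1, e2, e3]
      ring)
    (by
      have hsub : ((2 ^ (2 * m + 1) - 1 : ℕ) : ℂ) = (2 : ℂ) ^ (2 * m + 1) - 1 := by
        rw [Nat.cast_sub Nat.one_le_two_pow]
        push_cast
        ring
      have hsub2 : ((2 ^ m - 1 : ℕ) : ℂ) = (2 : ℂ) ^ m - 1 := by
        rw [Nat.cast_sub Nat.one_le_two_pow]
        push_cast
        ring
      have hA0 : (Nat.card ↥(Subgroup.centralizer ({x₁} : Set ↥(Cfsg.Sz F m))) : ℂ) ≠ 0 := by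
        rw [hc1]
        exact Nat.cast_ne_zero.mpr (by positivity)
      refine torus_norm_arith ((2 : ℂ) ^ m) _ _ _ _ _ _ _ _ (by ring) (by ring) ?_ hsub2 ?_ ?_ ?_
        (mul_inv_cancel₀ hA0)
      · rw [hc1]
        push_cast
        ring
      · push_cast [hsub]
        ring
      · rw [card_sz hm hF]
        push_cast [hsub]
        ring
      · rw [hn1]
        push_cast
        ring)
  refine ⟨S, hS1, ?_⟩
  rw [hc1] at hS2
  omega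

/-- the irreducible characters of degree `(q - 1) (q + r + 1)` -/
theorem sz_family_Z (hm : 1 ≤ m) (hF : Fintype.card F = 2 ^ (2 * m + 1))
    [Fintype ↥(Cfsg.Sz F m)] :
    ∃ S : Finset (Cfsg.IrrCharacter ↥(Cfsg.Sz F m)),
      (∀ χ ∈ S, (χ : ↥(Cfsg.Sz F m) → ℂ) 1 =
        (((2 ^ (2 * m + 1) - 1) * (2 ^ (2 * m + 1) + 2 ^ (m + 1) + 1) : ℕ) : ℂ)) ∧
      2 ^ (2 * m + 1) - 2 ^ (m + 1) ≤ 4 * S.card := by
  obtain ⟨x₁, x₂, hx₁, hx₂, hc1, hc2, hn1, hn2, -⟩ := sz_tori hm hF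
  obtain ⟨t, ht⟩ : ∃ t, 2 ^ m = t + 1 := ⟨2 ^ m - 1, by have := Nat.one_le_two_pow (n := m); omega⟩
  have hQ : 2 ^ (2 * m + 1) = 2 * t ^ 2 + 4 * t + 2 := by
    have e : 2 ^ (2 * m + 1) = 2 * (2 ^ m) ^ 2 := by ring
    rw [e, ht]
    ring
  have hR : 2 ^ (m + 1) = 2 * t + 2 := by
    rw [pow_succ, ht]
    ring
  have e1 : 2 * t ^ 2 + 4 * t + 2 - 1 = 2 * t ^ 2 + 4 * t + 1 := by omega
  have e2 : 2 * t ^ 2 + 4 * t + 2 + 1 - (2 * t + 2) = 2 * t ^ 2 + 2 * t + 1 := by omega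
  have hidx : (Subgroup.centralizer ({x₂} : Set ↥(Cfsg.Sz F m))).index =
      (2 * t ^ 2 + 4 * t + 2) ^ 2 * (2 * t ^ 2 + 4 * t + 1) * (2 * t ^ 2 + 6 * t + 5) := by
    have h1 := Subgroup.card_mul_index (Subgroup.centralizer ({x₂} : Set ↥(Cfsg.Sz F m)))
    rw [hc2, card_sz hm hF, hQ, hR, e1, e2] at h1
    apply Nat.eq_of_mul_eq_mul_left (show 0 < 2 * t ^ 2 + 2 * t + 1 by omega)
    rw [h1]
    ring
  obtain ⟨S, hS1, hS2⟩ := sz_torus_family hm hF x₂ hx₂ hn2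
    (by
      rw [hc2, hQ, hR, e2]
      have : 2 * t ^ 2 + 2 * t + 1 = 2 * (t ^ 2 + t) + 1 := by ring
      omega)
    (2 ^ m + 1) ((2 ^ (2 * m + 1) - 1) * (2 ^ (2 * m + 1) + 2 ^ (m + 1) + 1))
    (by
      rw [hQ, hR, e1]
      positivity)
    (by
      rw [hidx, ht, hQ, hR, e1]
      ring)
    (by
      have hsub : ((2 ^ (2 * m + 1) - 1 : ℕ) : ℂ) = (2 : ℂ) ^ (2 * m + 1) - 1 := by
        rw [Nat.cast_sub Nat.one_le_two_pow]
        push_cast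
        ring
      have hle : 2 ^ (m + 1) ≤ 2 ^ (2 * m + 1) + 1 := by
        rw [hQ, hR]
        nlinarith [sq_nonneg t]
      have hA0 : (Nat.card ↥(Subgroup.centralizer ({x₂} : Set ↥(Cfsg.Sz F m))) : ℂ) ≠ 0 := by
        rw [hc2, hQ, hR, e2]
        exact Nat.cast_ne_zero.mpr (by positivity)
      refine torus_norm_arith' ((2 : ℂ) ^ m) _ _ _ _ _ _ _ _ (by ring) (by ring) ?_ ?_ ?_ ?_ ?_
        (mul_inv_cancel₀ hA0)
      · rw [hc2, Nat.cast_sub hle]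
        push_cast
        ring
      · push_cast
        ring
      · push_cast [hsub]
        ring
      · rw [card_sz hm hF]
        push_cast [hsub]
        ring
      · rw [hn2]
        push_cast
        ring)
  refine ⟨S, hS1, ?_⟩
  rw [hc2] at hS2
  omega

end ChY

end Cfsg.Agent.Lib.Helper37
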