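-- helper37: Suzuki groups, characters, part 6: the set of character degrees.
import Mathlib
import Cfsg.Prelude.Def_LieExceptional
import Cfsg.Prelude.Def_DegreeGraph
import Cfsg.Agent.Lib.Helper37.SzChX
import Cfsg.Agent.Lib.Helper37.SzChY
import Cfsg.Agent.Lib.Helper37.SzSimple

set_option autoImplicit false

namespace Cfsg.Agent.Lib.Helper37

open Classical

section Count

theorem excess_zero (A B C D SR W eA eB eC eD : ℕ)
    (h1 : eA * A + eB * B + eC * C + eD * D + SR = W) (hA : W < A) (hB : W < B) (hC : W < C)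
    (hD : W < D) : SR = W := by
  have hz : ∀ e X : ℕ, W < X → e * X ≤ W → e = 0 := by
    intro e X hX he
    by_contra hne
    have : X ≤ e * X := Nat.le_mul_of_pos_left _ (Nat.pos_of_ne_zero hne)
    omega
  have hA0 := hz eA A hA (by omega)
  have hB0 := hz eB B hB (by omega)
  have hC0 := hz eC C hC (by omega)
  have hD0 := hz eD D hD (by omega)
  subst hA0 hB0 hC0 hD0
  omega

theorem sq_ne_two_mul_sq (d w : ℕ) (hw : 0 < w) : d ^ 2 ≠ 2 * w ^ 2 := by
  intro hc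
  have hd : d ≠ 0 := by
    rintro rfl
    have : 0 < 2 * w ^ 2 := by positivity
    omega
  have : Fact (Nat.Prime 2) := ⟨Nat.prime_two⟩
  have h1 := congrArg (padicValNat 2) hc
  rw [padicValNat.pow, padicValNat.mul (by norm_num) (by positivity), padicValNat.pow,
    padicValNat_self] at h1
  omega

theorem sq_split (x DSt DX DY DZ : ℕ) (h : 1 < DY ∧ DY < DSt ∧ DSt < DX ∧ DX < DZ) :
    x ^ 2 = (if x = 1 then 1 else 0) + (if x = DSt then DSt ^ 2 else 0) +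
      (if x = DX then DX ^ 2 else 0) + (if x = DY then DY ^ 2 else 0) +
      (if x = DZ then DZ ^ 2 else 0) +
      (if (x ≠ 1 ∧ x ≠ DSt ∧ x ≠ DX ∧ x ≠ DY ∧ x ≠ DZ) then x ^ 2 else 0) := by
  obtain ⟨h1, h2, h3, h4⟩ := h
  split_ifs <;> first | omega | (subst_vars; ring)

theorem sum_ite_const {ι : Type*} [Fintype ι] (d : ι → ℕ) (D c : ℕ) :
    ∑ i : ι, (if d i = D then c else 0) = (Finset.univ.filter (fun i => d i = D)).card * c := by
  rw [Finset.sum_ite, Finset.sum_const_zero, add_zero, Finset.sum_const, smul_eq_mul]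

/-- the counting argument for the degrees -/
theorem degree_count {ι : Type*} [Fintype ι] (d : ι → ℕ) (DSt DX DY DZ w total : ℕ)
    (hdist : 1 < DY ∧ DY < DSt ∧ DSt < DX ∧ DX < DZ)
    (hsum : ∑ i : ι, d i ^ 2 = total)
    (h1 : (Finset.univ.filter (fun i => d i = 1)).card = 1)
    (hSt : 1 ≤ (Finset.univ.filter (fun i => d i = DSt)).card)
    (cX cY cZ : ℕ) (hX : cX ≤ (Finset.univ.filter (fun i => d i = DX)).card)
    (hY : cY ≤ (Finset.univ.filter (fun i => d i = DY)).card)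
    (hZ : cZ ≤ (Finset.univ.filter (fun i => d i = DZ)).card)
    (hid : total = 1 + DSt ^ 2 + cX * DX ^ 2 + cY * DY ^ 2 + cZ * DZ ^ 2 + 2 * w ^ 2)
    (hwSt : 2 * w ^ 2 < DSt ^ 2) (hwX : 2 * w ^ 2 < DX ^ 2) (hwY : 2 * w ^ 2 < DY ^ 2)
    (hwZ : 2 * w ^ 2 < DZ ^ 2) (hw0 : 0 < w) (hbig : ∀ i, d i = 1 ∨ w ≤ d i) :
    (∀ i, d i = 1 ∨ d i = DSt ∨ d i = DX ∨ d i = DY ∨ d i = DZ ∨ d i = w) ∧ ∃ i, d i = w := by
  set R : Finset ι := Finset.univ.filter
    (fun i => d i ≠ 1 ∧ d i ≠ DSt ∧ d i ≠ DX ∧ d i ≠ DY ∧ d i ≠ DZ) with hR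
  have hsplit : ∑ i : ι, d i ^ 2 =
      (Finset.univ.filter (fun i => d i = 1)).card * 1 +
      (Finset.univ.filter (fun i => d i = DSt)).card * DSt ^ 2 +
      (Finset.univ.filter (fun i => d i = DX)).card * DX ^ 2 +
      (Finset.univ.filter (fun i => d i = DY)).card * DY ^ 2 +
      (Finset.univ.filter (fun i => d i = DZ)).card * DZ ^ 2 + ∑ i ∈ R, d i ^ 2 := by
    rw [← sum_ite_const, ← sum_ite_const, ← sum_ite_const, ← sum_ite_const, ← sum_ite_const,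
      hR, Finset.sum_filter, ← Finset.sum_add_distrib, ← Finset.sum_add_distrib,
      ← Finset.sum_add_distrib, ← Finset.sum_add_distrib, ← Finset.sum_add_distrib]
    apply Finset.sum_congr rfl
    intro i _
    exact sq_split (d i) DSt DX DY DZ hdist
  obtain ⟨eSt, heSt⟩ := Nat.exists_eq_add_of_le hSt
  obtain ⟨eX, heX⟩ := Nat.exists_eq_add_of_le hX
  obtain ⟨eY, heY⟩ := Nat.exists_eq_add_of_le hY
  obtain ⟨eZ, heZ⟩ := Nat.exists_eq_add_of_le hZ
  rw [hsum, hid, h1, heSt, heX, heY, heZ] at hsplit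
  have hSR : ∑ i ∈ R, d i ^ 2 = 2 * w ^ 2 := by
    apply excess_zero (DSt ^ 2) (DX ^ 2) (DY ^ 2) (DZ ^ 2) _ _ eSt eX eY eZ _ hwSt hwX hwY hwZ
    have e1 : (1 + eSt) * DSt ^ 2 = DSt ^ 2 + eSt * DSt ^ 2 := by ring
    have e2 : (cX + eX) * DX ^ 2 = cX * DX ^ 2 + eX * DX ^ 2 := by ring
    have e3 : (cY + eY) * DY ^ 2 = cY * DY ^ 2 + eY * DY ^ 2 := by ring
    have e4 : (cZ + eZ) * DZ ^ 2 = cZ * DZ ^ 2 + eZ * DZ ^ 2 := by ring
    rw [e1, e2, e3, e4] at hsplit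
    omega
  have hRbig : ∀ i ∈ R, w ≤ d i := by
    intro i hi
    rw [hR, Finset.mem_filter] at hi
    rcases hbig i with h | h
    · exact absurd h hi.2.1
    · exact h
  have hRw : ∀ i ∈ R, d i = w := by
    intro i hi
    have h2 := Finset.add_sum_erase R (fun i => d i ^ 2) hi
    rw [hSR] at h2
    rcases (R.erase i).eq_empty_or_nonempty with he | ⟨j, hj⟩
    · rw [he, Finset.sum_empty, add_zero] at h2
      exact absurd h2 (sq_ne_two_mul_sq (d i) w hw0)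
    · have h3 : d j ^ 2 ≤ ∑ x ∈ R.erase i, d x ^ 2 :=
        Finset.single_le_sum (f := fun x => d x ^ 2) (fun x _ => Nat.zero_le _) hj
      have h4 : w ^ 2 ≤ d j ^ 2 :=
        Nat.pow_le_pow_left (hRbig j (Finset.mem_of_mem_erase hj)) 2
      have h5 : d i ^ 2 ≤ w ^ 2 := by
        omega
      have h6 : d i ≤ w := (Nat.pow_le_pow_iff_left (by norm_num)).mp h5
      exact le_antisymm h6 (hRbig i hi)
  constructor
  · intro i
    by_cases hi : i ∈ R
    · right; right; right; right; right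
      exact hRw i hi
    · rw [hR, Finset.mem_filter] at hi
      by_contra hcon
      apply hi
      refine ⟨Finset.mem_univ _, ?_, ?_, ?_, ?_, ?_⟩ <;> intro hc <;> apply hcon <;> simp [hc]
  · rcases R.eq_empty_or_nonempty with he | ⟨i, hi⟩
    · rw [he, Finset.sum_empty] at hSR
      have : 0 < 2 * w ^ 2 := by positivity
      omega
    · exact ⟨i, hRw i hi⟩

end Count

section ChD

variable {F : Type*} [Field F] [Fintype F] {m : ℕ}

/-- an irreducible representation with trivial action has degree one -/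
theorem trivial_irr_degree_one {G : Type*} [Group G] (n : ℕ)
    (ρ : Representation ℂ G (Fin n → ℂ)) (hirr : ρ.IsIrreducible) (htriv : ∀ g, ρ g = 1) :
    n = 1 := by
  have hpos : 0 < n := by
    haveI := hirr
    have h1 := Cfsg.Agent.Lib.Helper80.finrank_pos_of_isIrreducible ρ
    rwa [Module.finrank_fin_fun] at h1
  by_contra hn
  have hk : 2 ≤ n := by omega
  let S : Subrepresentation ρ :=
    { toSubmodule := Submodule.span ℂ {(Pi.single (⟨0, by omega⟩ : Fin n) (1 : ℂ) : Fin n → ℂ)}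
      apply_mem_toSubmodule := by
        intro g v hv
        rw [htriv g]
        exact hv }
  have hmem : (Pi.single (⟨0, by omega⟩ : Fin n) (1 : ℂ) : Fin n → ℂ) ∈ S.toSubmodule :=
    Submodule.subset_span (Set.mem_singleton _)
  rcases hirr.eq_bot_or_eq_top S with h1 | h1
  · have h2 : S.toSubmodule = ⊥ := congrArg Subrepresentation.toSubmodule h1
    rw [h2, Submodule.mem_bot] at hmem
    have h3 := congrFun hmem (⟨0, by omega⟩ : Fin n)
    simp at h3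
  · have h2 : S.toSubmodule = ⊤ := congrArg Subrepresentation.toSubmodule h1
    have h3 : (Pi.single (⟨1, by omega⟩ : Fin n) (1 : ℂ) : Fin n → ℂ) ∈ S.toSubmodule := by
      rw [h2]
      exact Submodule.mem_top
    obtain ⟨c, hc⟩ := Submodule.mem_span_singleton.mp h3
    have h4 := congrFun hc (⟨1, by omega⟩ : Fin n)
    simp at h4

/-- an irreducible character of the Suzuki group is trivial or of large degree -/
theorem sz_irr_trivial_or_big (hm : 1 ≤ m) (hF : Fintype.card F = 2 ^ (2 * m + 1))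
    (χ : Cfsg.IrrCharacter ↥(Cfsg.Sz F m)) :
    (χ : ↥(Cfsg.Sz F m) → ℂ) = (fun _ => 1) ∨
      2 ^ m * (2 ^ (2 * m + 1) - 1) ≤ Cfsg.charDegree (χ : ↥(Cfsg.Sz F m) → ℂ) := by
  obtain ⟨χ, n, ρ, hirr, rfl⟩ := χ
  have h := szData_of_card hm hF
  show ρ.character = _ ∨ _ ≤ Cfsg.charDegree ρ.character
  rw [Cfsg.Agent.Lib.Helper80.charDegree_char]
  by_cases hne : ρ (szTm h 0 1) = 1
  · left
    have hsimple : IsSimpleGroup ↥(Cfsg.Sz F m) := sz_simple hm hF
    have hker : MonoidHom.ker ρ = ⊤ := by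
      rcases IsSimpleGroup.eq_bot_or_eq_top_of_normal _ (MonoidHom.normal_ker ρ) with h1 | h1
      · exfalso
        have h2 : szTm h 0 1 ∈ MonoidHom.ker ρ := MonoidHom.mem_ker.mpr hne
        rw [h1, Subgroup.mem_bot, szTm_eq_one_iff] at h2
        exact one_ne_zero h2.2
      · exact h1
    have htriv : ∀ g, ρ g = 1 := by
      intro g
      have h1 : g ∈ MonoidHom.ker ρ := by
        rw [hker]
        exact Subgroup.mem_top _
      exact MonoidHom.mem_ker.mp h1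
    have hn := trivial_irr_degree_one n ρ hirr htriv
    funext g
    unfold Representation.character
    rw [htriv g, LinearMap.trace_one, Module.finrank_fin_fun, hn]
    simp
  · right
    have h1 := sz_rep_bound hF h ρ hne
    rwa [Module.finrank_fin_fun] at h1

theorem two_sq_lt (w D : ℕ) (h : 2 * w < D) : 2 * w ^ 2 < D ^ 2 := by
  nlinarith [Nat.mul_le_mul (show 2 * w + 1 ≤ D from h) (show 2 * w + 1 ≤ D from h)]

/-- the set of character degrees of the Suzuki group -/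
theorem sz_charDegrees (hm : 1 ≤ m) (hF : Fintype.card F = 2 ^ (2 * m + 1)) :
    Cfsg.charDegrees ↥(Cfsg.Sz F m) =
      {1, (2 ^ (2 * m + 1)) ^ 2, (2 ^ (2 * m + 1)) ^ 2 + 1,
        (2 ^ (2 * m + 1) - 1) * (2 ^ (2 * m + 1) + 1 - 2 ^ (m + 1)),
        (2 ^ (2 * m + 1) - 1) * (2 ^ (2 * m + 1) + 2 ^ (m + 1) + 1),
        2 ^ m * (2 ^ (2 * m + 1) - 1)} := by
  letI : Fintype ↥(Cfsg.Sz F m) := Fintype.ofFinite _
  letI : Fintype (Cfsg.IrrCharacter ↥(Cfsg.Sz F m)) := Fintype.ofFinite _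
  obtain ⟨SX, hSX1, hSX2⟩ := sz_family_X hm hF
  obtain ⟨SY, hSY1, hSY2⟩ := sz_family_Y hm hF
  obtain ⟨SZ, hSZ1, hSZ2⟩ := sz_family_Z hm hF
  obtain ⟨χSt, hSt⟩ := sz_steinberg hm hF
  have htb := sz_irr_trivial_or_big hm hF
  have hsum := Cfsg.Agent.Lib.Helper80.sum_charDegree_sq (G := ↥(Cfsg.Sz F m))
  rw [card_sz hm hF] at hsum
  obtain ⟨v, hv⟩ : ∃ v, 2 ^ m = 2 * v + 2 := by
    obtain ⟨k, rfl⟩ : ∃ k, m = k + 1 := ⟨m - 1, by omega⟩
    refine ⟨2 ^ k - 1, ?_⟩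
    have := Nat.one_le_two_pow (n := k)
    rw [pow_succ]
    omega
  have hQ : 2 ^ (2 * m + 1) = 8 * v ^ 2 + 16 * v + 8 := by
    have e : 2 ^ (2 * m + 1) = 2 * (2 ^ m) ^ 2 := by ring
    rw [e, hv]
    ring
  have hR : 2 ^ (m + 1) = 4 * v + 4 := by
    rw [pow_succ, hv]
    ring
  have e1 : 8 * v ^ 2 + 16 * v + 8 - 1 = 8 * v ^ 2 + 16 * v + 7 := by omega
  have e2 : 8 * v ^ 2 + 16 * v + 8 + 1 - (4 * v + 4) = 8 * v ^ 2 + 12 * v + 5 := by omega
  have e3 : 8 * v ^ 2 + 16 * v + 8 + (4 * v + 4) + 1 = 8 * v ^ 2 + 20 * v + 13 := by omega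
  rw [hQ, hR, hv, e1, e2, e3]
  rw [hQ, e1] at hsum
  simp only [hQ, hR, hv, e1, e2, e3] at hSX1 hSX2 hSY1 hSY2 hSZ1 hSZ2 hSt htb
  have hdeg_of : ∀ (χ : Cfsg.IrrCharacter ↥(Cfsg.Sz F m)) (D : ℕ),
      (χ : ↥(Cfsg.Sz F m) → ℂ) 1 = (D : ℂ) →
        Cfsg.charDegree (χ : ↥(Cfsg.Sz F m) → ℂ) = D := by
    intro χ D hχ
    unfold Cfsg.charDegree
    rw [hχ, Complex.natCast_re, Nat.floor_natCast]
  let χ₀ : Cfsg.IrrCharacter ↥(Cfsg.Sz F m) :=
    ⟨fun _ => 1, Cfsg.Agent.Lib.Helper80.isIrrCharacter_one⟩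
  have hd0 : Cfsg.charDegree (χ₀ : ↥(Cfsg.Sz F m) → ℂ) = 1 := by
    apply hdeg_of χ₀ 1
    show (1 : ℂ) = ((1 : ℕ) : ℂ)
    simp
  have hwpos : 14 ≤ (2 * v + 2) * (8 * v ^ 2 + 16 * v + 7) := by
    have := Nat.mul_le_mul (show 2 ≤ 2 * v + 2 by omega) (show 7 ≤ 8 * v ^ 2 + 16 * v + 7 by omega)
    omega
  have hA1 : (8 * v ^ 2 + 16 * v + 8) ^ 2 = 2 * ((2 * v + 2) * (8 * v ^ 2 + 16 * v + 7)) +
      ((8 * v ^ 2 + 16 * v + 8) * (8 * v ^ 2 + 12 * v + 4) + 4 * v + 4) := by ring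
  have hA2 : (8 * v ^ 2 + 16 * v + 7) * (8 * v ^ 2 + 12 * v + 5) =
      2 * ((2 * v + 2) * (8 * v ^ 2 + 16 * v + 7)) +
        (8 * v ^ 2 + 16 * v + 7) * (8 * v ^ 2 + 8 * v + 1) := by ring
  have hA3 : (8 * v ^ 2 + 16 * v + 7) * (8 * v ^ 2 + 20 * v + 13) =
      2 * ((2 * v + 2) * (8 * v ^ 2 + 16 * v + 7)) +
        (8 * v ^ 2 + 16 * v + 7) * (8 * v ^ 2 + 16 * v + 9) := by ring
  have hA4 : (8 * v ^ 2 + 16 * v + 7) * (8 * v ^ 2 + 20 * v + 13) =
      (8 * v ^ 2 + 16 * v + 8) ^ 2 + 1 + (32 * v ^ 3 + 96 * v ^ 2 + 92 * v + 26) := by ring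
  have hp1 : 0 < (8 * v ^ 2 + 16 * v + 7) * (8 * v ^ 2 + 8 * v + 1) := by positivity
  have hp2 : 0 < (8 * v ^ 2 + 16 * v + 7) * (8 * v ^ 2 + 16 * v + 9) := by positivity
  have key := degree_count
    (fun χ : Cfsg.IrrCharacter ↥(Cfsg.Sz F m) => Cfsg.charDegree (χ : ↥(Cfsg.Sz F m) → ℂ))
    ((8 * v ^ 2 + 16 * v + 8) ^ 2) ((8 * v ^ 2 + 16 * v + 8) ^ 2 + 1)
    ((8 * v ^ 2 + 16 * v + 7) * (8 * v ^ 2 + 12 * v + 5))
    ((8 * v ^ 2 + 16 * v + 7) * (8 * v ^ 2 + 20 * v + 13))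
    ((2 * v + 2) * (8 * v ^ 2 + 16 * v + 7))
    ((8 * v ^ 2 + 16 * v + 8) ^ 2 * ((8 * v ^ 2 + 16 * v + 8) ^ 2 + 1) * (8 * v ^ 2 + 16 * v + 7))
    ⟨by
        have := Nat.mul_le_mul (show 7 ≤ 8 * v ^ 2 + 16 * v + 7 by omega)
          (show 5 ≤ 8 * v ^ 2 + 12 * v + 5 by omega)
        omega,
      lt_of_lt_of_eq (Nat.mul_lt_mul'' (show 8 * v ^ 2 + 16 * v + 7 < 8 * v ^ 2 + 16 * v + 8 by omega)
        (show 8 * v ^ 2 + 12 * v + 5 < 8 * v ^ 2 + 16 * v + 8 by omega)) (pow_two _).symm,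
      Nat.lt_succ_self _,
      by rw [hA4]; omega⟩
    hsum
    (by
      have h1 : Finset.univ.filter (fun χ : Cfsg.IrrCharacter ↥(Cfsg.Sz F m) =>
          Cfsg.charDegree (χ : ↥(Cfsg.Sz F m) → ℂ) = 1) = {χ₀} := by
        ext χ
        simp only [Finset.mem_filter, Finset.mem_univ, true_and, Finset.mem_singleton]
        constructor
        · intro hχ
          rcases htb χ with h | h
          · exact Subtype.ext h
          · exfalso
            rw [hχ] at h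
            omega
        · rintro rfl
          exact hd0
      rw [h1, Finset.card_singleton])
    (Finset.card_pos.mpr ⟨χSt, Finset.mem_filter.mpr ⟨Finset.mem_univ _, hdeg_of χSt _ hSt⟩⟩)
    (4 * v ^ 2 + 8 * v + 3) (2 * v ^ 2 + 5 * v + 3) (2 * v ^ 2 + 3 * v + 1)
    (le_trans (by omega : 4 * v ^ 2 + 8 * v + 3 ≤ SX.card) (Finset.card_le_card (fun χ hχ =>
      Finset.mem_filter.mpr ⟨Finset.mem_univ _, hdeg_of χ _ (hSX1 χ hχ)⟩)))
    (le_trans (by omega : 2 * v ^ 2 + 5 * v + 3 ≤ SY.card) (Finset.card_le_card (fun χ hχ =>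
      Finset.mem_filter.mpr ⟨Finset.mem_univ _, hdeg_of χ _ (hSY1 χ hχ)⟩)))
    (le_trans (by omega : 2 * v ^ 2 + 3 * v + 1 ≤ SZ.card) (Finset.card_le_card (fun χ hχ =>
      Finset.mem_filter.mpr ⟨Finset.mem_univ _, hdeg_of χ _ (hSZ1 χ hχ)⟩)))
    (by ring)
    (two_sq_lt _ _ (by rw [hA1]; omega)) (two_sq_lt _ _ (by rw [hA1]; omega))
    (two_sq_lt _ _ (by rw [hA2]; omega))
    (two_sq_lt _ _ (by rw [hA3]; omega)) (by omega)
    (by
      intro χ
      rcases htb χ with h | h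
      · left
        have h2 : χ = χ₀ := Subtype.ext h
        rw [h2]
        exact hd0
      · right
        exact h)
  obtain ⟨hall, ⟨χw, hχw⟩⟩ := key
  ext n
  constructor
  · rintro ⟨χ, rfl⟩
    simp only [Set.mem_insert_iff, Set.mem_singleton_iff]
    rcases hall χ with h | h | h | h | h | h
    · left
      exact h
    · right; left
      exact h
    · right; right; left
      exact h
    · right; right; right; left
      exact h
    · right; right; right; right; left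
      exact h
    · right; right; right; right; right
      exact h
  · intro hn
    simp only [Set.mem_insert_iff, Set.mem_singleton_iff] at hn
    rcases hn with rfl | rfl | rfl | rfl | rfl | rfl
    · exact ⟨χ₀, hd0⟩
    · exact ⟨χSt, hdeg_of χSt _ hSt⟩
    · obtain ⟨χ, hχ⟩ : SX.Nonempty := Finset.card_pos.mp (by omega)
      exact ⟨χ, hdeg_of χ _ (hSX1 χ hχ)⟩
    · obtain ⟨χ, hχ⟩ : SY.Nonempty := Finset.card_pos.mp (by omega)
      exact ⟨χ, hdeg_of χ _ (hSY1 χ hχ)⟩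
    · obtain ⟨χ, hχ⟩ : SZ.Nonempty := Finset.card_pos.mp (by omega)
      exact ⟨χ, hdeg_of χ _ (hSZ1 χ hχ)⟩
    · exact ⟨χw, hχw⟩

end ChD

end Cfsg.Agent.Lib.Helper37
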